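import Cfsg.Agent.Lib.Coprime.Invariant
import Cfsg.Agent.Lib.Transfer.Residual
import Cfsg.Agent.Lib.PLocal.Basic
import Cfsg.Agent.Lib.PLocal.Thompson

/-!
# Elementary facts for the even case of the nilpotent maximal invariant subgroup theorem (helper46)

* four groups acted on by a group fixing an involution
* elements of odd order against 2-groups
* elementary abelian subgroups of largest order: the exchange inequality
-/

set_option autoImplicit false
set_option linter.unusedSectionVars false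

namespace Cfsg.Agent.EvenNilp

open Subgroup
open scoped Pointwise

universe u

variable {G : Type u} [Group G] [Finite G]

/-- Membership in `⟨z⟩` for an involution `z`. -/
theorem mem_zpowers_two {z g : G} (hz : z * z = 1) (hg : g ∈ zpowers z) : g = 1 ∨ g = z := by
  obtain ⟨n, rfl⟩ := hg
  show z ^ n = 1 ∨ z ^ n = z
  rcases Int.even_or_odd n with ⟨m, rfl⟩ | ⟨m, rfl⟩
  · left
    rw [← two_mul, zpow_mul, zpow_two, hz, one_zpow]
  · right
    rw [zpow_add, zpow_mul, zpow_two, hz, one_zpow, one_mul, zpow_one]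

theorem mul_self_eq_one {p : G} (h : p ^ 2 = 1) : p * p = 1 := by rwa [pow_two] at h

/-- A 2-element of odd order is trivial. -/
theorem eq_one_of_two_of_odd {X : Subgroup G} (hX : IsPGroup 2 X) {g : G} (hg : g ∈ X)
    (ho : (orderOf g).Coprime 2) : g = 1 := by
  obtain ⟨k, hk⟩ := hX ⟨g, hg⟩
  have h1 : g ^ 2 ^ k = 1 := congrArg Subtype.val hk
  exact orderOf_eq_one_iff.1
    (Nat.eq_one_of_dvd_coprimes (ho.pow_right k) dvd_rfl (orderOf_dvd_of_pow_eq_one h1))

theorem coprime_orderOf_pow {x : G} (h : (orderOf x).Coprime 2) (n : ℕ) :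
    (orderOf (x ^ n)).Coprime 2 :=
  h.coprime_dvd_left (orderOf_pow_dvd n)

theorem coprime_orderOf_conj {x : G} (h : (orderOf x).Coprime 2) (e : MulAut G) :
    (orderOf (e x)).Coprime 2 := by
  rwa [show e x = (e : G ≃* G).toMonoidHom x from rfl,
    orderOf_injective _ (e : G ≃* G).injective]

/-- An element of odd order whose square commutes with `g` commutes with `g`. -/
theorem commute_of_sq {x g : G} (ho : (orderOf x).Coprime 2) (h : Commute (x ^ 2) g) : Commute x g := by
  obtain ⟨m, hm⟩ : ∃ m, orderOf x = 2 * m + 1 := by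
    rcases Nat.coprime_two_right.1 ho with ⟨m, hm⟩
    exact ⟨m, hm⟩
  have hx : x = (x ^ 2) ^ (m + 1) := by
    rw [← pow_mul, show 2 * (m + 1) = orderOf x + 1 by omega, pow_succ, pow_orderOf_eq_one, one_mul]
  rw [hx]
  exact h.pow_left _

/-- Fixed points are reached: `x` odd, fixing `c` and moving `g` to `g c` with `c` a 2-element. -/
theorem eq_one_of_step {x g c : G} {X : Subgroup G} (hX : IsPGroup 2 X) (hc : c ∈ X)
    (ho : (orderOf x).Coprime 2) (hfix : x * c = c * x) (hstep : x * g * x⁻¹ = g * c) : c = 1 := by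
  have hpow : ∀ n : ℕ, x ^ n * g * (x ^ n)⁻¹ = g * c ^ n := fun n => by
    induction n with
    | zero => simp
    | succ n ih =>
      have h1 : x * c ^ n * x⁻¹ = c ^ n := by
        rw [((show Commute x c from hfix).pow_right n).eq, mul_inv_cancel_right]
      calc x ^ (n + 1) * g * (x ^ (n + 1))⁻¹ = x * (x ^ n * g * (x ^ n)⁻¹) * x⁻¹ := by
            rw [pow_succ']; group
        _ = (x * g * x⁻¹) * (x * c ^ n * x⁻¹) := by rw [ih]; group
        _ = g * c ^ (n + 1) := by rw [hstep, h1, pow_succ', mul_assoc]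
  have h := hpow (orderOf x)
  rw [pow_orderOf_eq_one, one_mul, inv_one, mul_one, left_eq_mul] at h
  exact eq_one_of_two_of_odd hX hc (Nat.Coprime.coprime_dvd_left (orderOf_dvd_of_pow_eq_one h) ho)

theorem map_cent (e : MulAut G) (V : Subgroup G) :
    (centralizer (V : Set G)).map (e : G ≃* G).toMonoidHom =
      centralizer ((V.map (e : G ≃* G).toMonoidHom : Subgroup G) : Set G) := by
  ext g
  constructor
  · rintro ⟨c, hc, rfl⟩
    refine mem_centralizer_iff.2 ?_
    rintro _ ⟨v, hv, rfl⟩
    show e v * e c = e c * e v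
    rw [← map_mul, ← map_mul, mem_centralizer_iff.1 hc v hv]
  · intro hg
    obtain ⟨c, rfl⟩ := (e : G ≃* G).surjective g
    refine ⟨c, mem_centralizer_iff.2 fun v hv => ?_, rfl⟩
    have h2 := mem_centralizer_iff.1 hg (e v) ⟨v, hv, rfl⟩
    change e v * e c = e c * e v at h2
    rw [← map_mul, ← map_mul] at h2
    exact e.injective h2

/-- A four group with a chosen involution. -/
structure IsFour (V : Subgroup G) (z : G) : Prop where
  card : Nat.card V = 4
  sq : ∀ v ∈ V, v * v = 1
  zmem : z ∈ V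
  zne : z ≠ 1

namespace IsFour

variable {V : Subgroup G} {z : G} (h : IsFour V z)
include h

theorem inv_eq {v : G} (hv : v ∈ V) : v⁻¹ = v := inv_eq_of_mul_eq_one_right (h.sq v hv)

theorem comm {v w : G} (hv : v ∈ V) (hw : w ∈ V) : v * w = w * v := by
  have h1 := h.inv_eq (V.mul_mem hv hw)
  rw [mul_inv_rev, h.inv_eq hv, h.inv_eq hw] at h1
  exact h1.symm

theorem elemAb : Cfsg.IsElementaryAbelian 2 V :=
  ⟨⟨⟨fun a b => Subtype.ext (h.comm a.2 b.2)⟩⟩, fun a ha => by rw [pow_two]; exact h.sq a ha⟩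

theorem isPGroup : IsPGroup 2 V := PLocal.elemAb_isPGroup h.elemAb

theorem le_centralizer : V ≤ centralizer (V : Set G) := fun v hv =>
  mem_centralizer_iff.2 fun w hw => h.comm hw hv

theorem mem_cases {v w : G} (hv : v ∈ V) (hv1 : v ≠ 1) (hvz : v ≠ z) (hw : w ∈ V) :
    w = 1 ∨ w = z ∨ w = v ∨ w = v * z := by
  classical
  have hz := h.zmem
  have hvz1 : v * z ≠ 1 := fun e => hvz ((h.inv_eq hv) ▸ (inv_eq_of_mul_eq_one_right e))
  let s : Finset G := {1, z, v, v * z}
  have hs : s.card = 4 := by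
    have e1 : v ≠ v * z := fun e => h.zne (by simpa using e.symm)
    have e2 : z ≠ v * z := fun e => hv1 (by simpa using e.symm)
    simp [s, Finset.card_insert_of_notMem, hv1.symm, h.zne.symm, hvz.symm, hvz1.symm, e1, e2]
  have hsub : (s : Set G) ⊆ (V : Set G) := by
    intro a ha
    simp only [s, Finset.coe_insert, Finset.coe_singleton, Set.mem_insert_iff, Set.mem_singleton_iff] at ha
    rcases ha with rfl | rfl | rfl | rfl
    · exact V.one_mem
    · exact hz
    · exact hv
    · exact V.mul_mem hv hz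
  have heq : (s : Set G) = (V : Set G) := Set.eq_of_subset_of_ncard_le hsub (by
    rw [Set.ncard_coe_finset, hs, show (V : Set G).ncard = Nat.card V from rfl, h.card]) (Set.toFinite _)
  have hw' : w ∈ (s : Set G) := heq ▸ hw
  simpa [s] using hw'

theorem exists_other : ∃ v ∈ V, v ≠ 1 ∧ v ≠ z := by
  classical
  by_contra hcon
  push Not at hcon
  have hsub : (V : Set G) ⊆ ({1, z} : Set G) := fun v hv => by
    by_cases h1 : v = 1
    · exact Or.inl h1
    · exact Or.inr (hcon v hv h1)
  have := Set.ncard_le_ncard hsub (Set.toFinite _)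
  rw [show (V : Set G).ncard = Nat.card V from rfl, h.card] at this
  have h2 : ({1, z} : Set G).ncard ≤ 2 := (Set.ncard_insert_le _ _).trans (by simp)
  omega

theorem eq_of_two {v : G} {W : Subgroup G} (hv : v ∈ V) (hv1 : v ≠ 1) (hvz : v ≠ z) (hvW : v ∈ W)
    (hzW : z ∈ W) : V ≤ W := fun w hw => by
  rcases h.mem_cases hv hv1 hvz hw with rfl | rfl | rfl | rfl
  · exact W.one_mem
  · exact hzW
  · exact hvW
  · exact W.mul_mem hvW hzW

/-- An element normalising `V` and fixing `z` fixes `v` or moves it to `v z`. -/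
theorem conj_cases {g v : G} (hgV : g * v * g⁻¹ ∈ V) (hgz : g * z = z * g) (hv : v ∈ V)
    (hv1 : v ≠ 1) (hvz : v ≠ z) : g * v * g⁻¹ = v ∨ g * v * g⁻¹ = v * z := by
  have hg1 : g * z * g⁻¹ = z := by rw [hgz, mul_inv_cancel_right]
  rcases h.mem_cases hv hv1 hvz hgV with e | e | e | e
  · exact absurd (by simpa using e) hv1
  · refine absurd ?_ hvz
    rw [← hg1] at e
    simpa using e
  · exact Or.inl e
  · exact Or.inr e

theorem centralizes_of_fix {g v : G} (hgz : g * z = z * g) (hv : v ∈ V) (hv1 : v ≠ 1) (hvz : v ≠ z)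
    (hgv : g * v = v * g) : g ∈ centralizer (V : Set G) := by
  have hz' : z ∈ centralizer ({g} : Set G) := mem_centralizer_singleton_iff.2 hgz.symm
  have hv' : v ∈ centralizer ({g} : Set G) := mem_centralizer_singleton_iff.2 hgv.symm
  refine mem_centralizer_iff.2 fun w hw => ?_
  exact mem_centralizer_singleton_iff.1 (h.eq_of_two hv hv1 hvz hv' hz' hw)

/-- An element normalising `V`, fixing `z`, not centralising `V`, moves every `v ∉ ⟨z⟩` to `v z`. -/
theorem conj_eq_mul {g v : G} (hgN : g ∈ normalizer (V : Set G)) (hgz : g * z = z * g)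
    (hgC : g ∉ centralizer (V : Set G)) (hv : v ∈ V) (hv1 : v ≠ 1) (hvz : v ≠ z) :
    g * v * g⁻¹ = v * z := by
  refine (h.conj_cases ((mem_normalizer_iff.1 hgN v).1 hv) hgz hv hv1 hvz).resolve_left fun e => hgC ?_
  exact h.centralizes_of_fix hgz hv hv1 hvz (mul_inv_eq_iff_eq_mul.1 e)

/-- Two elements normalising `V`, fixing `z`, not centralising `V`: the product centralises `V`. -/
theorem mul_mem_centralizer {g k : G} (hg : g ∈ normalizer (V : Set G)) (hgz : g * z = z * g)
    (hgC : g ∉ centralizer (V : Set G)) (hk : k ∈ normalizer (V : Set G)) (hkz : k * z = z * k)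
    (hkC : k ∉ centralizer (V : Set G)) : g * k ∈ centralizer (V : Set G) := by
  obtain ⟨v, hv, hv1, hvz⟩ := h.exists_other
  have e1 := h.conj_eq_mul hg hgz hgC hv hv1 hvz
  have e2 := h.conj_eq_mul hk hkz hkC hv hv1 hvz
  refine h.centralizes_of_fix ?_ hv hv1 hvz ?_
  · rw [mul_assoc, hkz, ← mul_assoc, hgz, mul_assoc]
  · refine mul_inv_eq_iff_eq_mul.1 ?_
    calc g * k * v * (g * k)⁻¹ = g * (k * v * k⁻¹) * g⁻¹ := by group
      _ = (g * v * g⁻¹) * (g * z * g⁻¹) := by rw [e2]; group
      _ = v := by rw [e1, hgz, mul_inv_cancel_right, mul_assoc, h.sq z h.zmem, mul_one]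

theorem map (e : MulAut G) : IsFour (V.map (e : G ≃* G).toMonoidHom) (e z) where
  card := by rw [card_map_of_injective (e : G ≃* G).injective, h.card]
  sq := by
    rintro _ ⟨v, hv, rfl⟩
    show e v * e v = 1
    rw [← map_mul, h.sq v hv, map_one]
  zmem := ⟨z, h.zmem, rfl⟩
  zne := fun e' => h.zne (by simpa using e')

end IsFour

/-- The elementary abelian subgroups of largest order. -/
abbrev elemMax (X : Subgroup G) : Set (Subgroup G) := PLocal.maxIn (PLocal.elemAb 2) X

/-- The Thompson subgroup. -/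
abbrev jSub (X : Subgroup G) : Subgroup G := Cfsg.thompsonSubgroupOf 2 X

theorem jSub_eq (X : Subgroup G) : jSub X = sSup (elemMax X) := PLocal.thompsonSubgroupOf_eq X

theorem le_jSub {X A : Subgroup G} (hA : A ∈ elemMax X) : A ≤ jSub X := by
  rw [jSub_eq]; exact le_sSup hA

/-- The exchange inequality: `|U| ≤ |A : C_A(U)| |U ∩ A|`, with equality giving a member. -/
theorem exchange {X A U : Subgroup G} (hA : A ∈ elemMax X) (hU : Cfsg.IsElementaryAbelian 2 U)
    (hUX : U ≤ X) :
    Nat.card U ≤ (centralizer (U : Set G)).relIndex A * Nat.card ↥(U ⊓ A) ∧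
      ((centralizer (U : Set G)).relIndex A * Nat.card ↥(U ⊓ A) ≤ Nat.card U →
        (A ⊓ centralizer (U : Set G)) ⊔ U ∈ elemMax X) := by
  set C := A ⊓ centralizer (U : Set G) with hC
  have helem : Cfsg.IsElementaryAbelian 2 (C ⊔ U) :=
    PLocal.elemAb_sup (PLocal.elemAb_mono hA.2.1 inf_le_left) hU
      (PLocal.le_centralizer_comm (PLocal.le_centralizer_comm inf_le_right))
  have hle : C ⊔ U ≤ X := sup_le (inf_le_left.trans hA.1) hUX
  have hcard := hA.2.2 _ hle helem
  have heq : C ⊓ U = U ⊓ A := by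
    refine le_antisymm (le_inf inf_le_right (inf_le_left.trans inf_le_left)) (le_inf ?_ inf_le_left)
    exact le_inf inf_le_right (inf_le_left.trans (PLocal.elemAb_le_centralizer hU))
  have hprod := PLocal.card_sup_mul_card_inf (H := C) (K := U)
    ((PLocal.le_centralizer_comm inf_le_right).trans (centralizer_le_normalizer _))
  rw [heq] at hprod
  have hidx : Nat.card C * (centralizer (U : Set G)).relIndex A = Nat.card A := by
    rw [← inf_relIndex_left, ← relIndex_bot_left C, relIndex_mul_relIndex _ _ _ bot_le inf_le_left,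
      relIndex_bot_left]
  have hCpos : 0 < Nat.card C := Nat.card_pos
  refine ⟨?_, fun hge => ⟨hle, helem, fun B hB hBe => (hA.2.2 B hB hBe).trans ?_⟩⟩
  · refine Nat.le_of_mul_le_mul_left ?_ hCpos
    rw [← mul_assoc, hidx, ← hprod]
    exact Nat.mul_le_mul_right _ hcard
  · refine Nat.le_of_mul_le_mul_right ?_ (Nat.card_pos (α := ↥(U ⊓ A)))
    rw [hprod, ← hidx, mul_assoc]
    exact Nat.mul_le_mul_left _ hge

/-- The exchange inequality with a lower bound for the index of `U ∩ A`. -/
theorem exchange_le {X A U E : Subgroup G} (hA : A ∈ elemMax X) (hU : Cfsg.IsElementaryAbelian 2 U)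
    (hUX : U ≤ X) (hE : U ⊓ A ≤ E) :
    Nat.card U ≤ (centralizer (U : Set G)).relIndex A * Nat.card E :=
  (exchange hA hU hUX).1.trans (Nat.mul_le_mul_left _ (Subgroup.card_le_of_le hE))

end Cfsg.Agent.EvenNilp
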