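import Cfsg.Agent.Lib.EvenNilp.Basic

/-!
# Blocks: a four group with an element of odd order acting on its centraliser (helper46)

* `Blk Q V x`: `V ≤ Z(Q)` four, `x` odd normalises `Q`, `[Q, x] ≤ V`, fixed-point-free on `V`
* `RBlk R V x z`: a block in the group `R`
* `RBlk.z_eq`, `RBlk.cen_eq`, `RBlk.two_values`: at most two centralisers for each involution
-/

set_option autoImplicit false
set_option linter.unusedSectionVars false

namespace Cfsg.Agent.EvenNilp

open Subgroup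
open scoped Pointwise commutatorElement

universe u

variable {G : Type u} [Group G] [Finite G]

/-- A block. -/
structure Blk (Q V : Subgroup G) (x : G) : Prop where
  vle : V ≤ Q
  four : ∃ z, IsFour V z
  vcent : ∀ v ∈ V, ∀ q ∈ Q, q * v = v * q
  odd : (orderOf x).Coprime 2
  conjQ : ∀ q ∈ Q, x * q * x⁻¹ ∈ Q
  comm : ∀ q ∈ Q, x * q * x⁻¹ * q⁻¹ ∈ V
  fpf : ∀ v ∈ V, x * v = v * x → v = 1

namespace Blk

variable {Q V : Subgroup G} {x : G} (h : Blk Q V x)
include h

theorem conjV {v : G} (hv : v ∈ V) : x * v * x⁻¹ ∈ V := by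
  have h1 := V.mul_mem (h.comm v (h.vle hv)) hv
  rwa [inv_mul_cancel_right] at h1

theorem mem_normalizer : x ∈ normalizer (Q : Set G) := Coprime.mem_normalizer_of_forall h.conjQ

theorem exists_fixed {q : G} (hq : q ∈ Q) : ∃ v ∈ V, x * (q * v) = (q * v) * x := by
  obtain ⟨z, hF⟩ := h.four
  let f : V → V := fun v => ⟨x * v * x⁻¹ * (v : G)⁻¹, V.mul_mem (h.conjV v.2) (V.inv_mem v.2)⟩
  have hf : Function.Injective f := fun a b hab => by
    have h1 : x * (a : G) * x⁻¹ * (a : G)⁻¹ = x * b * x⁻¹ * (b : G)⁻¹ := congrArg Subtype.val hab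
    have h2 : x * ((a : G) * (b : G)⁻¹) * x⁻¹ = (a : G) * (b : G)⁻¹ := by
      have e1 : x * (a : G) * x⁻¹ = x * b * x⁻¹ * (b : G)⁻¹ * a := mul_inv_eq_iff_eq_mul.1 h1
      calc x * ((a : G) * (b : G)⁻¹) * x⁻¹ = (x * a * x⁻¹) * (x * b * x⁻¹)⁻¹ := by group
        _ = x * b * x⁻¹ * ((b : G)⁻¹ * a) * (x * b * x⁻¹)⁻¹ := by rw [e1]; group
        _ = (b : G)⁻¹ * a := by
          rw [hF.comm (h.conjV b.2) (V.mul_mem (V.inv_mem b.2) a.2), mul_inv_cancel_right]
        _ = (a : G) * (b : G)⁻¹ := hF.comm (V.inv_mem b.2) a.2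
    have h3 := h.fpf _ (V.mul_mem a.2 (V.inv_mem b.2)) (mul_inv_eq_iff_eq_mul.1 h2)
    exact Subtype.ext (mul_inv_eq_one.1 h3)
  obtain ⟨v, hv⟩ := Finite.surjective_of_injective hf ⟨(x * q * x⁻¹ * q⁻¹)⁻¹, V.inv_mem (h.comm q hq)⟩
  have hv' : x * (v : G) * x⁻¹ * (v : G)⁻¹ = (x * q * x⁻¹ * q⁻¹)⁻¹ := congrArg Subtype.val hv
  refine ⟨v, v.2, mul_inv_eq_iff_eq_mul.1 ?_⟩
  have e1 : x * (v : G) * x⁻¹ = (x * q * x⁻¹ * q⁻¹)⁻¹ * v := mul_inv_eq_iff_eq_mul.1 hv'
  have hc := h.vcent _ (h.comm q hq) q hq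
  calc x * (q * (v : G)) * x⁻¹ = (x * q * x⁻¹ * q⁻¹) * q * (x * v * x⁻¹) := by group
    _ = q * ((x * q * x⁻¹ * q⁻¹) * (x * v * x⁻¹)) := by rw [← hc]; group
    _ = q * v := by rw [e1, mul_inv_cancel_left]

theorem eq_one_of_fixed {v : G} (hv : v ∈ V) {q : G} (hq : x * q = q * x) (he : v = q) : v = 1 :=
  h.fpf v hv (he ▸ hq)

/-- No square in `Q` is a nontrivial element of `V`. -/
theorem sq_eq_one {q : G} (hq : q ∈ Q) (hsq : q * q ∈ V) : q * q = 1 := by
  obtain ⟨z, hF⟩ := h.four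
  obtain ⟨v, hv, hfix⟩ := h.exists_fixed hq
  have e : q * q = (q * v) * (q * v) := by
    calc q * q = q * q * (v * v) := by rw [hF.sq v hv, mul_one]
      _ = q * (q * v) * v := by group
      _ = q * (v * q) * v := by rw [h.vcent v hv q hq]
      _ = (q * v) * (q * v) := by group
  exact h.eq_one_of_fixed hsq ((show Commute x (q * v) from hfix).mul_right hfix).eq e

/-- No commutator in `Q` is a nontrivial element of `V`. -/
theorem comm_eq_one {a b : G} (ha : a ∈ Q) (hb : b ∈ Q) (hc : ⁅a, b⁆ ∈ V) : ⁅a, b⁆ = 1 := by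
  obtain ⟨v, hv, hfix⟩ := h.exists_fixed ha
  obtain ⟨w, hw, hfix'⟩ := h.exists_fixed hb
  have e : ⁅a, b⁆ = ⁅a * v, b * w⁆ := by
    have c1 : Commute v b := (h.vcent v hv b hb).symm
    have c2 : Commute w a := (h.vcent w hw a ha).symm
    have c3 : Commute v w := (h.vcent v hv w (h.vle hw)).symm
    simp only [commutatorElement_def]
    symm
    calc a * v * (b * w) * (a * v)⁻¹ * (b * w)⁻¹
        = a * (v * b) * w * v⁻¹ * a⁻¹ * w⁻¹ * b⁻¹ := by group
      _ = a * b * (v * w) * v⁻¹ * a⁻¹ * w⁻¹ * b⁻¹ := by rw [c1.eq]; group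
      _ = a * b * w * (a⁻¹ * w⁻¹) * b⁻¹ := by rw [c3.eq]; group
      _ = a * b * a⁻¹ * b⁻¹ := by rw [← c2.inv_inv.eq]; group
  have hc' : Commute x ⁅a * v, b * w⁆ := by
    rw [commutatorElement_def]
    exact ((Commute.mul_right hfix hfix').mul_right (Commute.inv_right hfix)).mul_right (Commute.inv_right hfix')
  exact h.eq_one_of_fixed hc hc'.eq e

theorem map (e : MulAut G) :
    Blk (Q.map (e : G ≃* G).toMonoidHom) (V.map (e : G ≃* G).toMonoidHom) (e x) where
  vle := map_mono h.vle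
  four := let ⟨z, hz⟩ := h.four; ⟨e z, hz.map e⟩
  vcent := by
    rintro _ ⟨v, hv, rfl⟩ _ ⟨q, hq, rfl⟩
    show e q * e v = e v * e q
    rw [← map_mul, ← map_mul, h.vcent v hv q hq]
  odd := coprime_orderOf_conj h.odd e
  conjQ := by
    rintro _ ⟨q, hq, rfl⟩
    exact ⟨_, h.conjQ q hq, by simp⟩
  comm := by
    rintro _ ⟨q, hq, rfl⟩
    exact ⟨_, h.comm q hq, by simp⟩
  fpf := by
    rintro _ ⟨v, hv, rfl⟩ he
    show e v = 1
    have he' : e (x * v) = e (v * x) := by rw [map_mul, map_mul]; exact he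
    rw [h.fpf v hv (e.injective he'), map_one]

end Blk

/-- A block in the group `R`. -/
structure RBlk (R V : Subgroup G) (x z : G) : Prop where
  blk : Blk (R ⊓ centralizer (V : Set G)) V x
  four : IsFour V z
  le : V ≤ R
  norm : R ≤ normalizer (V : Set G)
  zc : ∀ r ∈ R, r * z = z * r
  move : ¬ R ≤ centralizer (V : Set G)
  inv : ∀ r ∈ R, ∀ q ∈ R ⊓ centralizer (V : Set G), x * q = q * x →
    x * (r * q * r⁻¹) = (r * q * r⁻¹) * x

namespace RBlk

variable {R V V' V'' : Subgroup G} {x x' x'' z z' z'' : G}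

theorem conj_cases (h : RBlk R V x z) {r v : G} (hr : r ∈ R) (hv : v ∈ V) :
    r * v * r⁻¹ = v ∨ r * v * r⁻¹ = v * z := by
  by_cases hv1 : v = 1
  · left; simp [hv1]
  by_cases hvz : v = z
  · left; rw [hvz, h.zc r hr, mul_inv_cancel_right]
  exact h.four.conj_cases ((mem_normalizer_iff.1 (h.norm hr) v).1 hv) (h.zc r hr) hv hv1 hvz

theorem comm_mem (h : RBlk R V x z) {r v : G} (hr : r ∈ R) (hv : v ∈ V) : ⁅v, r⁆ ∈ zpowers z := by
  have e : ⁅v, r⁆ = v * (r * v * r⁻¹)⁻¹ := by rw [commutatorElement_def]; group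
  rw [e]
  rcases h.conj_cases hr hv with e | e <;> rw [e]
  · rw [mul_inv_cancel]; exact one_mem _
  · rw [mul_inv_rev, h.four.inv_eq hv, h.four.inv_eq h.four.zmem, h.four.comm hv (V.mul_mem h.four.zmem hv),
      mul_assoc, h.four.sq v hv, mul_one]
    exact mem_zpowers z

theorem vle (h : RBlk R V x z) : V ≤ R ⊓ centralizer (V : Set G) := h.blk.vle

theorem exists_mover (h : RBlk R V x z) : ∃ r ∈ R, r ∉ centralizer (V : Set G) :=
  SetLike.not_le_iff_exists.1 h.move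

/-- The involution is determined by `R` and `V`. -/
theorem eq_of_central (h : RBlk R V x z) {v : G} (hv : v ∈ V) (hc : ∀ r ∈ R, r * v = v * r) :
    v = 1 ∨ v = z := by
  by_contra hcon
  push Not at hcon
  obtain ⟨r, hr, hrC⟩ := h.exists_mover
  exact hrC (h.four.centralizes_of_fix (h.zc r hr) hv hcon.1 hcon.2 (hc r hr))

theorem z_eq_of_eq (h : RBlk R V x z) (h' : RBlk R V x' z') : z' = z :=
  (h.eq_of_central h'.four.zmem h'.zc).resolve_left h'.four.zne

/-- (a) -/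
theorem z_eq (h : RBlk R V x z) (h' : RBlk R V' x' z') (hn : ¬ V' ≤ centralizer (V : Set G)) : z = z' := by
  obtain ⟨v', hv', hn'⟩ := SetLike.not_le_iff_exists.1 hn
  have hex : ∃ v ∈ V, v * v' ≠ v' * v := by
    by_contra hcon
    push Not at hcon
    exact hn' (mem_centralizer_iff.2 hcon)
  obtain ⟨v, hv, hne⟩ := hex
  have h1 : ⁅v, v'⁆ ∈ zpowers z := h.comm_mem (h'.le hv') hv
  have h2 : ⁅v', v⁆ ∈ zpowers z' := h'.comm_mem (h.le hv) hv'
  rw [← commutatorElement_inv, inv_mem_iff] at h2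
  have hne1 : ⁅v, v'⁆ ≠ 1 := fun e => hne (commutatorElement_eq_one_iff_mul_comm.1 e)
  have e1 := (mem_zpowers_two (h.four.sq z h.four.zmem) h1).resolve_left hne1
  have e2 := (mem_zpowers_two (h'.four.sq z' h'.four.zmem) h2).resolve_left hne1
  rw [← e1, e2]

theorem commute_of_ne (h : RBlk R V x z) (h' : RBlk R V' x' z') (hz : z ≠ z') :
    V' ≤ centralizer (V : Set G) :=
  by_contra fun hn => hz (h.z_eq h' hn)

/-- (b) -/
theorem cen_le (h : RBlk R V x z) (h' : RBlk R V' x' z') (hz : z = z')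
    (hc : V' ≤ centralizer (V : Set G)) :
    R ⊓ centralizer (V : Set G) ≤ R ⊓ centralizer (V' : Set G) := by
  subst hz
  refine fun q hq => ⟨hq.1, mem_centralizer_iff.2 fun v' hv' => ?_⟩
  by_contra hne
  have hne1 : ⁅v', q⁆ ≠ 1 := fun e => hne (commutatorElement_eq_one_iff_mul_comm.1 e)
  have hv'Q : v' ∈ R ⊓ centralizer (V : Set G) := ⟨h'.le hv', hc hv'⟩
  have e1 := (mem_zpowers_two (h.four.sq z h.four.zmem) (h'.comm_mem hq.1 hv')).resolve_left hne1
  -- apply `x`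
  set c := x * v' * x⁻¹ * v'⁻¹ with hcdef
  have hcV : c ∈ V := h.blk.comm v' hv'Q
  have hq' := h.blk.conjQ q hq
  have e2 : ⁅x * v' * x⁻¹, x * q * x⁻¹⁆ = ⁅v', x * q * x⁻¹⁆ := by
    have hw : x * v' * x⁻¹ = c * v' := by rw [hcdef]; group
    rw [hw]
    set q' := x * q * x⁻¹
    simp only [commutatorElement_def]
    have c1 : Commute c q' := (h.blk.vcent c hcV q' hq').symm
    have c2 : Commute c v' := (h.blk.vcent c hcV v' hv'Q).symm
    calc c * v' * q' * (c * v')⁻¹ * q'⁻¹ = (c * (v' * q' * v'⁻¹)) * c⁻¹ * q'⁻¹ := by group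
      _ = _ := by rw [((c2.mul_right c1).mul_right c2.inv_right).eq, mul_inv_cancel_right]
  have e3 : x * z * x⁻¹ ∈ zpowers z := by
    have e4 : x * ⁅v', q⁆ * x⁻¹ = ⁅x * v' * x⁻¹, x * q * x⁻¹⁆ := by
      simp only [commutatorElement_def]; group
    rw [← e1, e4, e2, e1]
    exact h'.comm_mem hq'.1 hv'
  rcases mem_zpowers_two (h.four.sq z h.four.zmem) e3 with e | e
  · exact h.four.zne (by simpa using e)
  · exact h.four.zne (h.blk.fpf z h.four.zmem (mul_inv_eq_iff_eq_mul.1 e))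

theorem cen_eq (h : RBlk R V x z) (h' : RBlk R V' x' z') (hz : z = z')
    (hc : V' ≤ centralizer (V : Set G)) :
    R ⊓ centralizer (V : Set G) = R ⊓ centralizer (V' : Set G) :=
  le_antisymm (h.cen_le h' hz hc) (h'.cen_le h hz.symm (le_centralizer_iff.1 hc))

theorem commute_of_cen (h : RBlk R V x z) (h' : RBlk R V' x' z')
    (hq : R ⊓ centralizer (V : Set G) = R ⊓ centralizer (V' : Set G)) : V' ≤ centralizer (V : Set G) :=
  (h'.vle.trans hq.ge).trans inf_le_right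

/-- A noncentral element of one member outside the centraliser of the other. -/
theorem exists_noncomm (h : RBlk R V x z) (h' : RBlk R V' x' z')
    (hq : R ⊓ centralizer (V : Set G) ≠ R ⊓ centralizer (V' : Set G)) (hz : z = z') :
    ∃ v' ∈ V', v' ∉ centralizer (V : Set G) ∧ v' ≠ 1 ∧ v' ≠ z := by
  obtain ⟨v', hv', hn⟩ := SetLike.not_le_iff_exists.1 fun hc => hq (h.cen_eq h' hz hc)
  refine ⟨v', hv', hn, fun e => hn (e ▸ one_mem _), fun e => hn ?_⟩
  rw [e]
  exact h.four.le_centralizer h.four.zmem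

/-- (c) -/
theorem two_values (h : RBlk R V x z) (h' : RBlk R V' x' z) (h'' : RBlk R V'' x'' z) :
    R ⊓ centralizer (V : Set G) = R ⊓ centralizer (V' : Set G) ∨
    R ⊓ centralizer (V : Set G) = R ⊓ centralizer (V'' : Set G) ∨
    R ⊓ centralizer (V' : Set G) = R ⊓ centralizer (V'' : Set G) := by
  by_contra hcon
  push Not at hcon
  obtain ⟨h12, h13, h23⟩ := hcon
  obtain ⟨v2, hv2, hv2C, hv21, hv2z⟩ := h.exists_noncomm h' h12 rfl
  obtain ⟨v3, hv3, hv3C, hv31, hv3z⟩ := h.exists_noncomm h'' h13 rfl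
  have hmem : v3 * v2 ∈ R ⊓ centralizer (V : Set G) := ⟨R.mul_mem (h''.le hv3) (h'.le hv2),
    h.four.mul_mem_centralizer (h.norm (h''.le hv3)) (h.zc _ (h''.le hv3)) hv3C
      (h.norm (h'.le hv2)) (h.zc _ (h'.le hv2)) hv2C⟩
  have hnc : v3 ∉ centralizer (V' : Set G) := fun hc => by
    refine h23 (h'.cen_eq h'' rfl fun w hw => ?_)
    rcases h''.four.mem_cases hv3 hv31 hv3z hw with rfl | rfl | rfl | rfl
    · exact one_mem _
    · exact h'.four.le_centralizer h'.four.zmem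
    · exact hc
    · exact mul_mem hc (h'.four.le_centralizer h'.four.zmem)
  have e : v3 * v2 * v3⁻¹ = v2 * z :=
    h'.four.conj_eq_mul (h'.norm (h''.le hv3)) (h'.zc _ (h''.le hv3)) hnc hv2 hv21 hv2z
  have hsq : v3 * v2 * (v3 * v2) = z := by
    calc v3 * v2 * (v3 * v2) = (v3 * v2 * v3⁻¹) * (v3 * v3) * v2 := by group
      _ = v2 * z * v2 := by rw [e, h''.four.sq v3 hv3, mul_one]
      _ = z := by
        rw [h'.four.comm hv2 h'.four.zmem, mul_assoc, h'.four.sq v2 hv2, mul_one]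
  exact h.four.zne (hsq ▸ h.blk.sq_eq_one hmem (hsq.symm ▸ h.four.zmem))

/-- Transport by an automorphism fixing `R`. -/
theorem map (h : RBlk R V x z) (e : MulAut G) (he : R.map (e : G ≃* G).toMonoidHom = R) :
    RBlk R (V.map (e : G ≃* G).toMonoidHom) (e x) (e z) where
  blk := by
    have h1 := h.blk.map e
    rwa [Subgroup.map_inf _ _ _ (e : G ≃* G).injective, he, map_cent] at h1
  four := h.four.map e
  le := he ▸ map_mono h.le
  norm := by
    rw [← Subgroup.map_equiv_normalizer_eq V (e : G ≃* G), ← he]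
    exact map_mono h.norm
  zc := by
    intro r hr
    obtain ⟨s, hs, rfl⟩ := he.ge hr
    show e s * e z = e z * e s
    rw [← map_mul, ← map_mul, h.zc s hs]
  move := fun hle => h.move fun r hr => mem_centralizer_iff.2 fun v hv => by
    have h1 : e r ∈ R := he.le ⟨r, hr, rfl⟩
    have h2 := mem_centralizer_iff.1 (hle h1) (e v) ⟨v, hv, rfl⟩
    rw [← map_mul, ← map_mul] at h2
    exact e.injective h2
  inv := by
    intro r hr q hq hfix
    obtain ⟨s, hs, rfl⟩ := he.ge hr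
    obtain ⟨t, ht, rfl⟩ := he.ge hq.1
    have htC : t ∈ centralizer (V : Set G) := mem_centralizer_iff.2 fun v hv => by
      have h2 := mem_centralizer_iff.1 hq.2 (e v) ⟨v, hv, rfl⟩
      change e v * e t = e t * e v at h2
      rw [← map_mul, ← map_mul] at h2
      exact e.injective h2
    change e x * e t = e t * e x at hfix
    rw [← map_mul, ← map_mul] at hfix
    have h3 := congrArg e (h.inv s hs t ⟨ht, htC⟩ (e.injective hfix))
    simpa using h3

end RBlk

end Cfsg.Agent.EvenNilp
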