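import Cfsg.Agent.Lib.EvenNilp.Blk
import Cfsg.Agent.Lib.CoprimeNilMax.Local
import Cfsg.Agent.Lib.CharFocal.Setup
import Cfsg.Agent.Lib.Transfer.Alperin
import Cfsg.Agent.Lib.LocalCGT.Main

/-!
# The choice of a large 2-local subgroup (helper46)

* `Hyp`: the hypothesis of the even case
* `Good`: 2-subgroups with 2-nilpotent centraliser
* `Top`: a good `D` with non-2-nilpotent normaliser and largest Sylow 2-subgroup `P`
* `exists_top`, `Top.not_nn_of_char`
-/

set_option autoImplicit false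
set_option linter.unusedSectionVars false
set_option linter.style.haveILetI false

namespace Cfsg.Agent.EvenNilp

open Subgroup CoprimeNilMax
open scoped Pointwise

universe u v

variable {A : Type v} [Group A] [Finite A] {G : Type u} [Group G] [Finite G]

/-- `Ω₁(Z(X))`. -/
abbrev zSub (X : Subgroup G) : Subgroup G := Cfsg.omegaOneCenter 2 X

theorem mem_zSub {X : Subgroup G} {g : G} :
    g ∈ zSub X ↔ g ∈ X ∧ (∀ t ∈ X, t * g = g * t) ∧ g ^ 2 = 1 := PReduced.mem_omegaOne_center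

theorem zSub_le (X : Subgroup G) : zSub X ≤ X := fun _ hg => (mem_zSub.1 hg).1

theorem zSub_elemAb (X : Subgroup G) : Cfsg.IsElementaryAbelian 2 (zSub X) :=
  ⟨⟨⟨fun a b => Subtype.ext ((mem_zSub.1 b.2).2.1 a (zSub_le X a.2))⟩⟩, fun _ ha => (mem_zSub.1 ha).2.2⟩

theorem map_zSub (e : MulAut G) (X : Subgroup G) :
    (zSub X).map (e : G ≃* G).toMonoidHom = zSub (X.map (e : G ≃* G).toMonoidHom) :=
  Baumann.map_omegaOneCenter (e : G ≃* G) X

theorem map_jSub (e : MulAut G) (X : Subgroup G) :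
    (jSub X).map (e : G ≃* G).toMonoidHom = jSub (X.map (e : G ≃* G).toMonoidHom) :=
  PLocal.map_thompsonSubgroupOf _ (e : G ≃* G).injective.injOn

theorem map_norm (e : MulAut G) (X : Subgroup G) :
    (normalizer (X : Set G)).map (e : G ≃* G).toMonoidHom =
      normalizer ((X.map (e : G ≃* G).toMonoidHom : Subgroup G) : Set G) :=
  Subgroup.map_equiv_normalizer_eq X (e : G ≃* G)

theorem card_map (e : MulAut G) (X : Subgroup G) :
    Nat.card (X.map (e : G ≃* G).toMonoidHom) = Nat.card X :=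
  card_map_of_injective (e : G ≃* G).injective

theorem hnpc_map_iff (e : MulAut G) (X : Subgroup G) :
    Cfsg.HasNormalPComplement 2 (X.map (e : G ≃* G).toMonoidHom) ↔ Cfsg.HasNormalPComplement 2 X :=
  haveI : Fact (Nat.Prime 2) := ⟨Nat.prime_two⟩
  ⟨fun h => Transfer.hasNormalPComplement_of_equiv h (X.equivMapOfInjective _ (e : G ≃* G).injective).symm,
    fun h => Transfer.hasNormalPComplement_of_equiv h (X.equivMapOfInjective _ (e : G ≃* G).injective)⟩

theorem hnpc_mono {X Y : Subgroup G} (h : X ≤ Y) (hY : Cfsg.HasNormalPComplement 2 Y) :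
    Cfsg.HasNormalPComplement 2 X :=
  haveI : Fact (Nat.Prime 2) := ⟨Nat.prime_two⟩
  Transfer.hasNormalPComplement_of_injective hY (inclusion h) (inclusion_injective h)

theorem hnpc_of_nilpotent {X : Subgroup G} (h : Group.IsNilpotent X) : Cfsg.HasNormalPComplement 2 X :=
  haveI : Fact (Nat.Prime 2) := ⟨Nat.prime_two⟩
  haveI := h
  Transfer.hasNormalPComplement_of_isNilpotent 2

/-- A subgroup fixed by all automorphisms of `X`. -/
def IsCh (W X : Subgroup G) : Prop :=
  W ≤ X ∧ ∀ (f : X ≃* X) (a : X), (a : G) ∈ W → (f a : G) ∈ W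

theorem isCh_of_char {X : Subgroup G} {K : Subgroup X} (hK : K.Characteristic) :
    IsCh (K.map X.subtype) X :=
  ⟨map_subtype_le K, fun f a ha => by
    obtain ⟨b, hb, hba⟩ := ha
    obtain rfl := Subtype.ext hba
    exact ⟨f b, characteristic_iff_map_le.1 hK f ⟨b, hb, rfl⟩, rfl⟩⟩

theorem IsCh.char {W X : Subgroup G} (h : IsCh W X) : (W.subgroupOf X).Characteristic :=
  characteristic_iff_map_le.2 fun f => by
    rintro _ ⟨a, ha, rfl⟩
    exact h.2 f a ha

theorem IsCh.map_eq {W X : Subgroup G} (h : IsCh W X) (e : MulAut G)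
    (he : X.map (e : G ≃* G).toMonoidHom = X) : W.map (e : G ≃* G).toMonoidHom = W := by
  refine Subgroup.eq_of_le_of_card_ge ?_ (card_map e W).ge
  rintro _ ⟨w, hw, rfl⟩
  have hmem : (((e : G ≃* G).subgroupMap X).trans (MulEquiv.subgroupCongr he) ⟨w, h.1 hw⟩ : G) ∈ W :=
    h.2 _ _ hw
  exact hmem

theorem IsCh.le_normalizer {W X : Subgroup G} (h : IsCh W X) :
    normalizer (X : Set G) ≤ normalizer (W : Set G) := fun g hg =>
  mem_normalizer_iff_map_conj_eq.2 (h.map_eq (MulAut.conj g) (mem_normalizer_iff_map_conj_eq.1 hg))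

theorem IsCh.le_normalizer' {W X : Subgroup G} (h : IsCh W X) : X ≤ normalizer (W : Set G) :=
  Subgroup.le_normalizer.trans h.le_normalizer

theorem isCh_zSub (X : Subgroup G) : IsCh (zSub X) X := by
  obtain ⟨K, hK, he⟩ := CharFocal.omegaCenter_char (p := 2) X
  have he' : K.map X.subtype = zSub X := he
  exact he' ▸ isCh_of_char hK

theorem isCh_jSub (X : Subgroup G) : IsCh (jSub X) X := by
  obtain ⟨K, hK, he⟩ := CharFocal.thompson_char (p := 2) X
  have he' : K.map X.subtype = jSub X := he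
  exact he' ▸ isCh_of_char hK

theorem mem_normalizer_sup {X Y : Subgroup G} {g : G} (hX : g ∈ normalizer (X : Set G))
    (hY : g ∈ normalizer (Y : Set G)) : g ∈ normalizer ((X ⊔ Y : Subgroup G) : Set G) := by
  rw [mem_normalizer_iff_map_conj_eq, Subgroup.map_sup, mem_normalizer_iff_map_conj_eq.1 hX,
    mem_normalizer_iff_map_conj_eq.1 hY]

/-- The hypothesis of the even case. -/
structure Hyp (φ : A →* MulAut G) (S : Sylow 2 G) : Prop where
  odd : Odd (Nat.card A)
  inv : Inv φ (S : Subgroup G)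
  nil : ∀ W : Subgroup G, IsPGroup 2 W → W ≠ ⊥ → Inv φ W → Group.IsNilpotent (normalizer (W : Set G))
  not_complement : ¬ Cfsg.HasNormalPComplement 2 G

/-- A 2-subgroup with 2-nilpotent centraliser. -/
def Good (D : Subgroup G) : Prop :=
  IsPGroup 2 D ∧ Cfsg.HasNormalPComplement 2 (centralizer (D : Set G))

/-- The normaliser is not 2-nilpotent. -/
def NN (D : Subgroup G) : Prop := ¬ Cfsg.HasNormalPComplement 2 (normalizer (D : Set G))

theorem Good.map {D : Subgroup G} (h : Good D) (e : MulAut G) : Good (D.map (e : G ≃* G).toMonoidHom) :=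
  ⟨h.1.map _, by rw [← map_cent, hnpc_map_iff]; exact h.2⟩

theorem NN.map {D : Subgroup G} (h : NN D) (e : MulAut G) : NN (D.map (e : G ≃* G).toMonoidHom) := by
  unfold NN
  rw [← map_norm, hnpc_map_iff]
  exact h

theorem Good.mono {D D' : Subgroup G} (h : Good D) (hle : D ≤ D') (h' : IsPGroup 2 D') : Good D' :=
  ⟨h', hnpc_mono (centralizer_le (SetLike.coe_subset_coe.2 hle)) h.2⟩

/-- An element of odd order normalising but not centralising a 2-group. -/
theorem nn_of_odd {D : Subgroup G} (hD : IsPGroup 2 D) {x : G} (hx : x ∈ normalizer (D : Set G))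
    (ho : (orderOf x).Coprime 2) (hc : x ∉ centralizer (D : Set G)) : NN D := fun h => by
  haveI : Fact (Nat.Prime 2) := ⟨Nat.prime_two⟩
  set N := normalizer (D : Set G)
  have h1 := Transfer.mem_centralizer_of_coprime h (Q := D.subgroupOf N)
    (hD.of_equiv (subgroupOfEquivOfLe le_normalizer).symm) (g := ⟨x, hx⟩)
    (mem_normalizer_iff.mpr fun k => mem_normalizer_iff.mp hx k) (by rwa [Subgroup.orderOf_mk])
  exact hc (mem_centralizer_iff.mpr fun r hr =>
    congrArg Subtype.val (mem_centralizer_iff.mp h1 ⟨r, le_normalizer hr⟩ hr))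

/-- An element of odd order centralising a 2-group with nilpotent normaliser. -/
theorem Hyp.centralizes {φ : A →* MulAut G} {S : Sylow 2 G} (H : Hyp φ S) {W : Subgroup G}
    (hW : IsPGroup 2 W) (hne : W ≠ ⊥) (hinv : Inv φ W) {x : G} (hx : x ∈ normalizer (W : Set G))
    (ho : (orderOf x).Coprime 2) : x ∈ centralizer (W : Set G) :=
  by_contra fun hc => nn_of_odd hW hx ho hc (hnpc_of_nilpotent (H.nil W hW hne hinv))

theorem Hyp.sylow_ne_bot {φ : A →* MulAut G} {S : Sylow 2 G} (H : Hyp φ S) : (S : Subgroup G) ≠ ⊥ :=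
  fun e => by
    haveI : Fact (Nat.Prime 2) := ⟨Nat.prime_two⟩
    exact H.not_complement (Transfer.hasNormalPComplement_of_not_dvd fun hd => S.ne_bot_of_dvd_card hd e)

theorem Hyp.zS_ne_bot {φ : A →* MulAut G} {S : Sylow 2 G} (H : Hyp φ S) : zSub (S : Subgroup G) ≠ ⊥ :=
  LocalCGT.omegaOneCenter_ne_bot S.2 H.sylow_ne_bot

theorem Hyp.good_zS {φ : A →* MulAut G} {S : Sylow 2 G} (H : Hyp φ S) : Good (zSub (S : Subgroup G)) := by
  refine ⟨S.2.to_le (zSub_le _), hnpc_mono (centralizer_le_normalizer _)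
    (hnpc_of_nilpotent (H.nil _ (S.2.to_le (zSub_le _)) H.zS_ne_bot fun a => ?_))⟩
  exact (isCh_zSub _).map_eq (φ a) (H.inv a)

/-- A good `D` with non-2-nilpotent normaliser and largest Sylow 2-subgroup. -/
structure Top (S : Sylow 2 G) (D P : Subgroup G) : Prop where
  good : Good D
  nn : NN D
  le_norm : P ≤ normalizer (D : Set G)
  le_S : P ≤ S
  maximal : ∀ X : Subgroup G, IsPGroup 2 X → P ≤ X → X ≤ normalizer (D : Set G) → X = P
  bound : ∀ D' Y : Subgroup G, Good D' → NN D' → IsPGroup 2 Y → Y ≤ normalizer (D' : Set G) →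
    Nat.card Y ≤ Nat.card P ∧ (Nat.card Y = Nat.card P →
      Nat.card (jSub Y) ≤ Nat.card (jSub P) ∧ (Nat.card (jSub Y) = Nat.card (jSub P) →
        Nat.card (zSub Y) ≤ Nat.card (zSub P)))

theorem exists_good {φ : A →* MulAut G} {S : Sylow 2 G} (H : Hyp φ S) : ∃ D : Subgroup G, Good D ∧ NN D := by
  haveI : Fact (Nat.Prime 2) := ⟨Nat.prime_two⟩
  have hex : ∃ R : Subgroup G, IsPGroup 2 R ∧ R ≠ ⊥ ∧ NN R := by
    by_contra hcon
    push Not at hcon
    refine H.not_complement (Transfer.hasNormalPComplement_of_normalizers S fun R hR hb => ?_)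
    exact not_not.1 (hcon R (S.2.to_le hR.1) hb)
  obtain ⟨D, ⟨hD2, hDne, hDnn⟩, hmax⟩ := Set.exists_max_image
    {R : Subgroup G | IsPGroup 2 R ∧ R ≠ ⊥ ∧ NN R} (fun R => Nat.card R) (Set.toFinite _) hex
  refine ⟨D, ⟨hD2, ?_⟩, hDnn⟩
  by_contra hno
  set C := centralizer (D : Set G) with hC
  obtain ⟨T⟩ := (inferInstance : Nonempty (Sylow 2 C))
  have hexR : ∃ R : Subgroup C, IsPGroup 2 R ∧ ∃ n ∈ normalizer (R : Set C),
      (orderOf n).Coprime 2 ∧ n ∉ centralizer (R : Set C) := by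
    by_contra hcon
    push Not at hcon
    exact hno (Transfer.hasNormalPComplement_of_local T fun R hR _ n hn hco => hcon R (T.2.to_le hR.1) n hn hco)
  obtain ⟨R, hR2, n, hn, hnco, hnc⟩ := hexR
  set R₀ := R.map C.subtype with hR₀
  have hR₀C : R₀ ≤ C := map_subtype_le R
  have hDN : D ≤ normalizer (R₀ : Set G) :=
    (le_centralizer_iff.1 hR₀C).trans (centralizer_le_normalizer _)
  have hW2 : IsPGroup 2 ↥(R₀ ⊔ D : Subgroup G) := (hR2.map _).to_sup_of_normal_left' hD2 hDN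
  have hnN : (n : G) ∈ normalizer ((R₀ ⊔ D : Subgroup G) : Set G) :=
    mem_normalizer_sup (le_normalizer_map C.subtype ⟨n, hn, rfl⟩) (centralizer_le_normalizer _ n.2)
  have hnC : (n : G) ∉ centralizer ((R₀ ⊔ D : Subgroup G) : Set G) := fun hc =>
    hnc (mem_centralizer_iff.2 fun r hr => Subtype.ext
      (mem_centralizer_iff.1 hc (r : G) (mem_sup_left ⟨r, hr, rfl⟩)))
  have hle := hmax (R₀ ⊔ D) ⟨hW2, fun e => hDne (le_bot_iff.1 (e ▸ le_sup_right)),
    nn_of_odd hW2 hnN (by rwa [Subgroup.orderOf_coe]) hnC⟩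
  have heq : D = R₀ ⊔ D := Subgroup.eq_of_le_of_card_ge le_sup_right hle
  exact hnC (heq ▸ n.2)

theorem exists_top {φ : A →* MulAut G} {S : Sylow 2 G} (H : Hyp φ S) :
    ∃ D P : Subgroup G, Top S D P := by
  haveI : Fact (Nat.Prime 2) := ⟨Nat.prime_two⟩
  let T : Set (Subgroup G × Subgroup G) :=
    {q | Good q.1 ∧ NN q.1 ∧ IsPGroup 2 q.2 ∧ q.2 ≤ normalizer (q.1 : Set G)}
  let key : Subgroup G × Subgroup G → Lex (ℕ × Lex (ℕ × ℕ)) := fun q =>
    toLex (Nat.card q.2, toLex (Nat.card (jSub q.2), Nat.card (zSub q.2)))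
  obtain ⟨D₀, hD₀, hD₀n⟩ := exists_good H
  obtain ⟨⟨D, P⟩, ⟨hDg, hDn, hP2, hPN⟩, hmax⟩ := Set.exists_max_image T key (Set.toFinite _)
    ⟨(D₀, ⊥), hD₀, hD₀n, IsPGroup.of_bot, bot_le⟩
  obtain ⟨T', hT'⟩ := hP2.exists_le_sylow
  obtain ⟨g, hg⟩ := MulAction.exists_smul_eq G T' S
  set e := MulAut.conj g with he
  refine ⟨D.map (e : G ≃* G).toMonoidHom, P.map (e : G ≃* G).toMonoidHom, hDg.map e, hDn.map e,
    map_norm e D ▸ map_mono hPN, ?_, ?_, ?_⟩
  · rw [← hg, Sylow.coe_subgroup_smul]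
    exact map_mono hT'
  · intro X hX hPX hXN
    have h := hmax (D.map (e : G ≃* G).toMonoidHom, X) ⟨hDg.map e, hDn.map e, hX, hXN⟩
    refine (Subgroup.eq_of_le_of_card_ge hPX ?_).symm
    rw [card_map]
    exact (Prod.Lex.le_iff.1 h).elim le_of_lt fun e => e.1.le
  · intro D' Y hD' hn' hY hYN
    rw [← map_jSub, ← map_zSub, card_map, card_map, card_map]
    have h := Prod.Lex.le_iff.1 (hmax (D', Y) ⟨hD', hn', hY, hYN⟩)
    simp only [key, ofLex_toLex] at h
    rcases h with h | ⟨h1, h2⟩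
    · exact ⟨h.le, fun e => absurd e h.ne⟩
    · refine ⟨h1.le, fun _ => ?_⟩
      rcases Prod.Lex.le_iff.1 h2 with h3 | ⟨h3, h4⟩
      · exact ⟨h3.le, fun e => absurd e h3.ne⟩
      · exact ⟨h3.le, fun _ => h4⟩

namespace Top

variable {φ : A →* MulAut G} {S : Sylow 2 G} {D P : Subgroup G} (H : Hyp φ S) (t : Top S D P)
include t

theorem isPGroup : IsPGroup 2 P := S.2.to_le t.le_S

theorem D_le : D ≤ P := by
  haveI : Fact (Nat.Prime 2) := ⟨Nat.prime_two⟩
  have h := t.maximal (D ⊔ P) (t.good.1.to_sup_of_normal_left' t.isPGroup t.le_norm) le_sup_right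
    (sup_le le_normalizer t.le_norm)
  exact le_sup_left.trans h.le

theorem cent_le : (S : Subgroup G) ⊓ centralizer (P : Set G) ≤ P := by
  haveI : Fact (Nat.Prime 2) := ⟨Nat.prime_two⟩
  have h := t.maximal (((S : Subgroup G) ⊓ centralizer (P : Set G)) ⊔ P)
    (S.2.to_le (sup_le inf_le_left t.le_S)) le_sup_right
    (sup_le (inf_le_right.trans ((centralizer_le (SetLike.coe_subset_coe.2 t.D_le)).trans
      (centralizer_le_normalizer _))) t.le_norm)
  exact le_sup_left.trans h.le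

theorem zS_le : zSub (S : Subgroup G) ≤ zSub P := fun g hg => by
  obtain ⟨hgS, hgc, hg2⟩ := mem_zSub.1 hg
  have hgP : g ∈ P := t.cent_le ⟨hgS, mem_centralizer_iff.2 fun p hp => hgc p (t.le_S hp)⟩
  exact mem_zSub.2 ⟨hgP, fun p hp => hgc p (t.le_S hp), hg2⟩

include H in
theorem good_of_le {X : Subgroup G} (hX : IsPGroup 2 X) (hle : zSub P ≤ X) : Good X :=
  H.good_zS.mono (t.zS_le.trans hle) hX

include H in
theorem zP_ne_bot : zSub P ≠ ⊥ := fun e => H.zS_ne_bot (le_bot_iff.1 (e ▸ t.zS_le))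

theorem zP_le_max {B : Subgroup G} (hB : B ∈ elemMax P) : zSub P ≤ B := fun g hg => by
  obtain ⟨hgP, hgc, hg2⟩ := mem_zSub.1 hg
  exact PLocal.mem_of_centralizes hB hgP hg2 (mem_centralizer_iff.2 fun b hb => hgc b (hB.1 hb))

theorem zP_le_jSub : zSub P ≤ jSub P := by
  obtain ⟨B, hB⟩ := PLocal.exists_maxIn (Q := PLocal.elemAb 2) PLocal.elemAb_bot P
  exact (t.zP_le_max hB).trans (le_jSub hB)

theorem card_le {D' Y : Subgroup G} (hD : Good D') (hn : NN D') (hY : IsPGroup 2 Y)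
    (hYN : Y ≤ normalizer (D' : Set G)) : Nat.card Y ≤ Nat.card P :=
  (t.bound D' Y hD hn hY hYN).1

/-- A 2-group in the normaliser of a good `NN` subgroup, containing `P`, equals `P`. -/
theorem eq_of_le {D' Y : Subgroup G} (hD : Good D') (hn : NN D') (hY : IsPGroup 2 Y)
    (hYN : Y ≤ normalizer (D' : Set G)) (hPY : P ≤ Y) : Y = P :=
  (Subgroup.eq_of_le_of_card_ge hPY (t.card_le hD hn hY hYN)).symm

theorem exists_bigger (hPS : P ≠ S) :
    ∃ X : Subgroup G, IsPGroup 2 X ∧ P ≤ X ∧ X ≤ normalizer (P : Set G) ∧ X ≠ P := by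
  refine ⟨(S : Subgroup G) ⊓ normalizer (P : Set G), S.2.to_le inf_le_left,
    le_inf t.le_S le_normalizer, inf_le_right, fun e => hPS ?_⟩
  haveI : Fact (Nat.Prime 2) := ⟨Nat.prime_two⟩
  haveI := S.2.isNilpotent
  by_contra hne
  have hlt : P.subgroupOf (S : Subgroup G) < ⊤ := by
    rw [lt_top_iff_ne_top, Ne, Subgroup.subgroupOf_eq_top]
    exact fun h => hne (le_antisymm t.le_S h)
  obtain ⟨g, hg, hgP⟩ := SetLike.exists_of_lt (Group.normalizerCondition_of_isNilpotent _ hlt)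
  have hgN : (g : G) ∈ (S : Subgroup G) ⊓ normalizer (P : Set G) :=
    ⟨g.2, Coprime.mem_normalizer_of_forall fun p hp =>
      (mem_normalizer_iff.1 hg ⟨p, t.le_S hp⟩).1 hp⟩
  exact hgP (e.le hgN)

include H in
/-- A good subgroup fixed by the automorphisms of `P` has 2-nilpotent normaliser. -/
theorem not_nn_of_char {W : Subgroup G} (hW : IsCh W P) (hg : Good W) (hne : W ≠ ⊥) : ¬ NN W := by
  intro hn
  by_cases hPS : P = S
  · refine hn (hnpc_of_nilpotent (H.nil W hg.1 hne fun a => hW.map_eq (φ a) ?_))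
    rw [hPS]
    exact H.inv a
  · obtain ⟨X, hX, hPX, hXN, hne'⟩ := t.exists_bigger hPS
    exact hne' (t.eq_of_le hg hn hX (hXN.trans hW.le_normalizer) hPX)

end Top

end Cfsg.Agent.EvenNilp
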