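import Cfsg.Agent.Lib.EvenNilp.Sl
import Cfsg.Agent.Lib.EvenNilp.Max
import Cfsg.Agent.Lib.PMinimal.Basic
import Cfsg.Agent.S2982

/-!
# A four-group block in a minimal parabolic group (helper46)

In a group of characteristic 2 with a maximal, non-normal Sylow 2-subgroup none of whose
characteristic subgroups is normal, a block of `S2982` is an `A₄`.
-/

set_option autoImplicit false
set_option linter.unusedSectionVars false
set_option linter.style.haveILetI false

namespace Cfsg.Agent.EvenNilp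

open Subgroup
open scoped Pointwise commutatorElement

universe u

variable {X : Type u} [Group X] [Finite X]

/-- An `A₄`-block, given by its four group and an element of order three. -/
structure Blk4 (W : Subgroup X) (z y : X) : Prop where
  four : IsFour W z
  le_core : W ≤ Cfsg.pCore 2 X
  y3 : y ^ 3 = 1
  fpf : ∀ w ∈ W, y * w = w * y → w = 1
  conjW : ∀ w ∈ W, y * w * y⁻¹ ∈ W
  comm : ∀ o ∈ Cfsg.pCore 2 X, o * y * o⁻¹ * y⁻¹ ∈ W
  conj_eq : ∀ g : X, W.map (MulAut.conj g).toMonoidHom = W →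
    g * y * g⁻¹ * y⁻¹ ∈ W ∨ g * y * g⁻¹ * y ∈ W
  conj_ne : ∀ g : X, W.map (MulAut.conj g).toMonoidHom ≠ W →
    W.map (MulAut.conj g).toMonoidHom ≤ centralizer (W : Set X) ∧
      y ∈ centralizer ((W.map (MulAut.conj g).toMonoidHom : Subgroup X) : Set X)

theorem IsCh.trans {C B T : Subgroup X} (h : IsCh C B) (hB : IsCh B T) : IsCh C T := by
  refine ⟨h.1.trans hB.1, fun f a ha => ?_⟩
  let r : B → B := fun b => ⟨f ⟨b, hB.1 b.2⟩, hB.2 f ⟨b, hB.1 b.2⟩ b.2⟩
  let r' : B → B := fun b => ⟨f.symm ⟨b, hB.1 b.2⟩, hB.2 f.symm ⟨b, hB.1 b.2⟩ b.2⟩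
  let e : B ≃* B :=
    { toFun := r
      invFun := r'
      left_inv := fun b => Subtype.ext (by simp [r, r'])
      right_inv := fun b => Subtype.ext (by simp [r, r'])
      map_mul' := fun b c => Subtype.ext (congrArg Subtype.val
        (map_mul f (⟨(b : X), hB.1 b.2⟩ : T) ⟨(c : X), hB.1 c.2⟩) :) }
  exact h.2 e ⟨a, h.1 ha⟩ ha

theorem le_pCoreOf {E N : Subgroup X} (hNE : N ≤ E) (h2 : IsPGroup 2 N)
    (hn : E ≤ normalizer (N : Set X)) : N ≤ Cfsg.pCoreOf 2 E := fun n hn' => by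
  have := (normal_subgroupOf_iff_le_normalizer hNE).2 hn
  exact ⟨⟨n, hNE hn'⟩,
    PReduced.le_pCore this (h2.of_equiv (subgroupOfEquivOfLe hNE).symm) hn', rfl⟩

theorem cStar_eq (P : Sylow 2 X) (hmax : IsCoatom (P : Subgroup X))
    (hch : ∀ C : Subgroup X, IsCh C P → C ≠ ⊥ → ¬ C.Normal) (hz : ¬ (zSub (P : Subgroup X)).Normal) :
    Cfsg.cStarOf 2 (P : Subgroup X) = P := by
  haveI : Fact (Nat.Prime 2) := ⟨Nat.prime_two⟩
  have hBch : IsCh (Cfsg.baumannSubgroupOf 2 (P : Subgroup X)) P := by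
    obtain ⟨K, hK, he⟩ := CharFocal.baumann_char (p := 2) (P : Subgroup X)
    exact he ▸ isCh_of_char hK
  have key : ∀ C : Subgroup X, IsCh C P → C ≠ ⊥ → normalizer (C : Set X) = P := fun C hC hC1 => by
    refine (hmax.le_iff.1 hC.le_normalizer').resolve_left fun e => hch C hC hC1 ?_
    exact normalizer_eq_top_iff.1 e
  have hPZ : (P : Subgroup X) ≤ centralizer (zSub (P : Subgroup X) : Set X) := fun p hp =>
    mem_centralizer_iff.2 fun z hz => ((mem_zSub.1 hz).2.1 p hp).symm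
  refine le_antisymm (sup_le ?_ (iSup_le fun ⟨C, hCB, hC1, hCch⟩ => ?_)) (hPZ.trans le_sup_left)
  · refine (centralizer_le_normalizer _).trans (key _ (isCh_zSub _) fun e => hz ?_).le
    rw [e]
    infer_instance
  · have hC : IsCh C (Cfsg.baumannSubgroupOf 2 (P : Subgroup X)) :=
      ⟨hCB, fun f a ha => characteristic_iff_map_le.1 hCch f ⟨a, ha, rfl⟩⟩
    exact (key C (hC.trans hBch) hC1).le

/-- A member of the block structure is an `A₄`. -/
theorem exists_blk4 (P : Sylow 2 X) (hmax : IsCoatom (P : Subgroup X))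
    (hn : ¬ (P : Subgroup X).Normal)
    (hX : centralizer (Cfsg.pCore 2 X : Set X) ≤ Cfsg.pCore 2 X)
    (hch : ∀ C : Subgroup X, IsCh C P → C ≠ ⊥ → ¬ C.Normal)
    (hz : ¬ (zSub (P : Subgroup X)).Normal) : ∃ W z y, Blk4 (X := X) W z y := by
  haveI : Fact (Nat.Prime 2) := ⟨Nat.prime_two⟩
  classical
  have hmin : Cfsg.IsPMinimal 2 X := PMinimal.isPMinimal_of_sylow P hn _ hmax le_rfl
    fun Y hY hne => ((hmax.le_iff.1 hY).resolve_left hne).le
  have hBch : IsCh (Cfsg.baumannSubgroupOf 2 (P : Subgroup X)) P := by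
    obtain ⟨K, hK, he⟩ := CharFocal.baumann_char (p := 2) (P : Subgroup X)
    exact he ▸ isCh_of_char hK
  obtain ⟨𝓑, hstr, hdeg, -⟩ := Cfsg.Agent.S2982.result hmin hX P
    (fun C hCB hC1 hCch => hch C (IsCh.trans
      ⟨hCB, fun f a ha => characteristic_iff_map_le.1 hCch f ⟨a, ha, rfl⟩⟩ hBch) hC1) hz
  obtain ⟨hblk, hconj, hcomm, hgen, -, -, hmem⟩ := id hstr
  rw [cStar_eq P hmax hch hz] at hgen hmem
  obtain ⟨E, hE⟩ : 𝓑.Nonempty := by
    by_contra h
    rw [Set.not_nonempty_iff_eq_empty.1 h, sSup_empty, sup_bot_eq] at hgen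
    exact hmax.1 hgen
  obtain ⟨-, -, hQE, -, hcase⟩ := hblk E hE
  set W := Cfsg.pCoreOf 2 E with hWdef
  have hW2 : IsPGroup 2 W := (Cores.isPGroup_pCore 2 ↥E).map _
  have hWE : W ≤ E := map_subtype_le _
  have hWn : E ≤ normalizer (W : Set X) := le_normalizer_iff.2 fun e he w hw => by
    obtain ⟨a, ha, rfl⟩ := hw
    exact ⟨⟨e, he⟩ * a * ⟨e, he⟩⁻¹, (Cores.pCore_normal 2 ↥E).conj_mem a ha _, rfl⟩
  have hWsub : W.subgroupOf E = Cfsg.pCore 2 ↥E := by
    rw [hWdef, Cfsg.pCoreOf, subgroupOf, comap_map_eq_self_of_injective E.subtype_injective]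
  have hPg : ∀ Y : Subgroup X, IsPGroup 2 ↥(Y.subgroupOf E) → Y ≤ E → IsPGroup 2 Y := fun Y h hle =>
    h.of_equiv (subgroupOfEquivOfLe hle)
  have hWsn : W.IsSubnormal := IsSubnormal.step W E hWE
    (LocalCGT.isSubnormal_of_structure
      hstr hE)
    ((normal_subgroupOf_iff_le_normalizer hWE).2 hWn)
  have hWP : W ≤ (P : Subgroup X) :=
    (Cores.le_pCore_of_isSubnormal hWsn hW2).trans (Cores.pCore_le_sylow P)
  -- `E / W` has order three
  obtain ⟨m, ⟨e⟩, heC⟩ : ∃ m : ℕ, Nonempty (↥E ⧸ Cfsg.pCore 2 ↥E ≃* ↥(alternatingGroup (Fin (2 * m + 1)))) ∧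
      Nonempty (↥((((P : Subgroup X) ⊓ E).subgroupOf E).map (QuotientGroup.mk' (Cfsg.pCore 2 ↥E))) ≃*
        ↥(alternatingGroup (Fin (2 * m)))) := by
    rcases hmem E hE with ⟨F, _, _, k, hk, hF, ⟨e⟩, hN⟩ | ⟨-, m, h1, h2⟩ | ⟨h23, -⟩
    · exfalso
      set π : ↥E →* Matrix.SpecialLinearGroup (Fin 2) F :=
        e.toMonoidHom.comp (QuotientGroup.mk' (Cfsg.pCore 2 ↥E)) with hπ
      have hπs : Function.Surjective π := e.surjective.comp (QuotientGroup.mk'_surjective _)
      set T := (P : Subgroup X).subgroupOf E with hT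
      have hker : π.ker ≤ T := by
        have hk : π.ker = Cfsg.pCore 2 ↥E := by
          ext a
          simp [hπ]
        rw [hk]
        intro a ha
        have h1 : (a : X) ∈ W := ⟨a, ha, rfl⟩
        exact hWP h1
      set R := T.map π with hR
      have hRn : normalizer (R : Set (Matrix.SpecialLinearGroup (Fin 2) F)) = R := by
        refine comap_injective hπs ?_
        rw [comap_normalizer_eq_of_surjective _ hπs, hR, comap_map_eq, sup_eq_left.2 hker]
        refine le_antisymm (fun a ha => ?_) le_normalizer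
        refine ((show (a : X) ∈ (P : Subgroup X) ⊓ E from ?_)).1
        rw [hN]
        refine ⟨a.2, Coprime.mem_normalizer_of_forall ?_⟩
        rintro t ⟨htP, htE⟩
        exact ⟨(mem_normalizer_iff.1 ha ⟨t, htE⟩).1 htP, E.mul_mem (E.mul_mem a.2 htE) (E.inv_mem a.2)⟩
      have hR2 : IsPGroup 2 R := (P.2.comap_subtype).map _
      obtain ⟨R', hR'⟩ := hR2.exists_le_sylow
      have heq : (R' : Subgroup _) = R := by
        by_contra hne
        haveI := R'.2.isNilpotent
        have hlt : R.subgroupOf (R' : Subgroup _) < ⊤ := by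
          rw [lt_top_iff_ne_top, Ne, Subgroup.subgroupOf_eq_top]
          exact fun h => hne (le_antisymm h hR')
        obtain ⟨g, hg, hgR⟩ := SetLike.exists_of_lt (Group.normalizerCondition_of_isNilpotent _ hlt)
        refine hgR (hRn.le (Coprime.mem_normalizer_of_forall fun r hr => ?_))
        exact (mem_normalizer_iff.1 hg ⟨r, hR' hr⟩).1 hr
      exact sl_sylow_normalizer hF hk R' (by rw [heq, hRn])
    · exact ⟨m, h1, h2⟩
    · exact absurd h23 (by norm_num)
  obtain ⟨n, hn⟩ := hdeg E hE m ⟨e⟩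
  have hm : m = 1 := by
    have h1 : 2 ≤ 2 * m + 1 := by have := Nat.one_le_two_pow (n := n); omega
    by_contra hne
    haveI : Nontrivial (Fin (2 * m)) := Fin.nontrivial_iff_two_le.2 (by omega)
    have h2 : IsPGroup 2 ↥(alternatingGroup (Fin (2 * m))) :=
      ((P.2.to_le (inf_le_left : (P : Subgroup X) ⊓ E ≤ P)).comap_subtype.map
        (QuotientGroup.mk' (Cfsg.pCore 2 ↥E))).of_equiv heC.some
    obtain ⟨j, hj⟩ := IsPGroup.iff_card.1 h2
    have h3 : 3 ∣ Nat.card ↥(alternatingGroup (Fin (2 * m))) := by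
      have h4 := two_mul_nat_card_alternatingGroup (α := Fin (2 * m))
      rw [Nat.card_perm, Nat.card_fin] at h4
      have h5 : 3 ∣ (2 * m).factorial := Nat.dvd_factorial (by norm_num) (by omega)
      rw [← h4] at h5
      exact (Nat.Coprime.dvd_of_dvd_mul_left (by norm_num) h5)
    rw [hj] at h3
    exact absurd (Nat.Prime.dvd_of_dvd_pow Nat.prime_three h3) (by norm_num)
  subst hm
  have hcard3 : Nat.card (↥E ⧸ Cfsg.pCore 2 ↥E) = 3 := by
    rw [Nat.card_congr e.toEquiv, nat_card_alternatingGroup, Nat.card_fin]; rfl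
  have hQW : W = Cfsg.omegaOneCenter 2 W := by
    rcases hcase with ⟨F, _, _, n, -, -, -, hQW | ⟨h23, -⟩⟩ | ⟨-, k, -, -, hQW⟩
    · exact hQW
    · exact absurd h23 (by norm_num)
    · exact hQW
  have hWmem : ∀ w, w ∈ W → w * w = 1 ∧ ∀ w' ∈ W, w' * w = w * w' := fun w hw => by
    rw [hQW] at hw
    have h := mem_zSub.1 hw
    exact ⟨by rw [← pow_two]; exact h.2.2, fun w' hw' => h.2.1 w' hw'⟩
  haveI : IsMulCommutative W := ⟨⟨fun a b => Subtype.ext ((hWmem b b.2).2 a a.2)⟩⟩
  obtain ⟨y₀, hy₀⟩ := exists_prime_orderOf_dvd_card' (G := ↥E) 3 (by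
    rw [← hcard3]; exact Subgroup.card_quotient_dvd_card _)
  set y : X := (y₀ : X) with hy
  have hy3 : y ^ 3 = 1 := by rw [hy, ← Subgroup.coe_pow, ← hy₀, pow_orderOf_eq_one]; rfl
  have hyo : orderOf y = 3 := by rw [hy, Subgroup.orderOf_coe, hy₀]
  have hyco : (orderOf y).Coprime 2 := by rw [hyo]; norm_num
  have hyW : y₀ ∉ Cfsg.pCore 2 ↥E := fun h => by
    have h1 := eq_one_of_two_of_odd (Cores.isPGroup_pCore 2 ↥E) h (by rw [hy₀]; norm_num)
    rw [h1, orderOf_one] at hy₀; omega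
  have hEgen : ∀ a : ↥E, ∃ w ∈ W, ∃ j : ℤ, (a : X) = w * y ^ j := by
    intro a
    set π := QuotientGroup.mk' (Cfsg.pCore 2 ↥E)
    have h1 : π a ∈ zpowers (π y₀) := by
      rw [zpowers_eq_top_of_prime_card hcard3 (show π y₀ ≠ 1 from fun h => hyW ((QuotientGroup.eq_one_iff _).1 h))]
      exact mem_top _
    obtain ⟨j, hj⟩ := h1
    have h2 : a * (y₀ ^ j)⁻¹ ∈ Cfsg.pCore 2 ↥E := by
      rw [← QuotientGroup.ker_mk' (Cfsg.pCore 2 ↥E), MonoidHom.mem_ker, map_mul, map_inv, map_zpow]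
      rw [show π y₀ ^ j = π a from hj, mul_inv_cancel]
    exact ⟨_, ⟨_, h2, rfl⟩, j, by simp [hy]⟩
  have hyN : zpowers y ≤ normalizer (W : Set X) := zpowers_le.2 (hWn y₀.2)
  have hfpf : ∀ w ∈ W, y * w = w * y → w = 1 := by
    have hWY : ⁅W, zpowers y⁆ = W := by
      refine le_antisymm (Subgroup.le_normalizer_iff_commutator_le_left.1 hyN) (hQE.ge.trans ?_)
      refine commutator_le.2 fun w hw a ha => ?_
      obtain ⟨w', hw', j, hj⟩ := hEgen ⟨a, ha⟩
      have hc := (hWmem w' hw').2 w hw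
      have : ⁅w, a⁆ = w' * ⁅w, y ^ j⁆ * w'⁻¹ := by
        rw [show a = w' * y ^ j from hj, commutatorElement_def, commutatorElement_def]
        calc w * (w' * y ^ j) * w⁻¹ * (w' * y ^ j)⁻¹ = (w * w') * (y ^ j * w⁻¹ * (y ^ j)⁻¹) * w'⁻¹ := by group
          _ = _ := by rw [hc]; group
      have hm := Subgroup.commutator_mem_commutator (H₂ := zpowers y) hw (zpow_mem (mem_zpowers y) j)
      have hm' := Subgroup.le_normalizer_iff_commutator_le_left.1 hyN hm
      rw [this, (hWmem _ hm').2 _ hw', mul_inv_cancel_right]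
      exact hm
    intro w hw hwy
    have h0 := Coprime.abelian_inf_eq_bot hyN (by
      obtain ⟨j, hj⟩ := IsPGroup.iff_card.1 hW2
      rw [hj, Nat.card_zpowers, hyo]; exact Nat.Coprime.pow_right j (by norm_num))
    rw [hWY] at h0
    have : w ∈ (W ⊓ centralizer (zpowers y : Set X)) ⊓ W := ⟨⟨hw, mem_centralizer_iff.2 fun t ht => by
      obtain ⟨j, rfl⟩ := ht
      exact ((show Commute y w from hwy).zpow_left j).eq⟩, hw⟩
    rwa [h0, mem_bot] at this
  have hW4 : Nat.card W = 4 := by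
    rw [hQW]
    have hkey : ∀ u : ↥(Cfsg.omegaOneCenter 2 W), (u : X) ∈ centralizer (E : Set X) → u = 1 := fun u hu =>
      Subtype.ext (hfpf u (hQW.ge u.2) (mem_centralizer_iff.1 hu y y₀.2))
    rcases hcase with ⟨F, _, _, k, hF, -, hsec, -⟩ | ⟨-, k, ⟨e'⟩, hsec, -⟩
    · obtain ⟨-, -, ρ, ψ, hρ, hψ, hker, hact⟩ := hsec
      have hinj : Function.Injective ψ := (injective_iff_map_eq_one ψ).2 fun u hu => hkey u ((hker u).1 hu).2
      have hW1 : ∀ w : ↥E, (w : X) ∈ W → ρ w = 1 := by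
        intro w hw
        refine Subtype.ext (Matrix.ext_iff_mulVec.2 fun v => ?_)
        obtain ⟨u, hu⟩ := hψ (Multiplicative.ofAdd v)
        obtain ⟨u', hu', hact'⟩ := hact w u
        have : u' = u := Subtype.ext (by
          rw [hu', (hWmem u (hQW.ge u.2)).2 w hw, mul_inv_cancel_right])
        rw [this, hu] at hact'
        simpa using hact'.symm
      have hcardF : Fintype.card F = 2 := card_eq_two_of_commutator hF fun c hc hcc => by
        rw [← hρ] at hc
        obtain ⟨a, rfl⟩ := hc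
        have hd : orderOf (ρ a) ∣ 3 := by
          refine orderOf_dvd_of_pow_eq_one ?_
          rw [← map_pow]
          refine hW1 _ ⟨a ^ 3, ?_, rfl⟩
          refine (QuotientGroup.eq_one_iff _).1 ?_
          rw [QuotientGroup.mk_pow, ← hcard3, pow_card_eq_one']
        have hd2 : orderOf (ρ a) ∣ 2 := orderOf_dvd_of_pow_eq_one (by rw [pow_two, hcc])
        exact orderOf_eq_one_iff.1 (Nat.eq_one_of_dvd_coprimes (by norm_num) hd hd2)
      rw [Nat.card_eq_of_bijective ψ ⟨hinj, hψ⟩, Nat.card_eq_fintype_card, Fintype.card_multiplicative,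
        Fintype.card_fun, Fintype.card_fin, hcardF]
      norm_num
    · have hk : k = 1 := by
        have h3 := Nat.card_congr e'.toEquiv
        rw [hcard3] at h3
        rcases Nat.lt_or_ge k 2 with hlt | hge
        · interval_cases k
          · haveI : Subsingleton (Fin (2 * 0 + 1)) := inferInstanceAs (Subsingleton (Fin 1))
            haveI : Subsingleton ↥(alternatingGroup (Fin (2 * 0 + 1))) :=
              ⟨fun a b => Subtype.ext (Subsingleton.elim _ _)⟩
            rw [Nat.card_unique] at h3; omega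
          · rfl
        · haveI : Nontrivial (Fin (2 * k + 1)) := Fin.nontrivial_iff_two_le.2 (by omega)
          have h4 := two_mul_nat_card_alternatingGroup (α := Fin (2 * k + 1))
          rw [← h3, Nat.card_perm, Nat.card_fin] at h4
          have := Nat.factorial_le (show 5 ≤ 2 * k + 1 by omega)
          rw [← h4] at this
          norm_num [Nat.factorial] at this
      subst hk
      obtain ⟨-, -, ρ, ψ, -, h1, h2, h3, -⟩ := hsec
      let f : ↥(Cfsg.omegaOneCenter 2 W) → {v : Fin 3 → ZMod 2 // ∑ i, v i = 0} :=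
        fun u => ⟨Multiplicative.toAdd (ψ u), h1 u⟩
      have hf : Function.Bijective f := by
        refine ⟨fun a b h => ?_, fun v => ?_⟩
        · have h' : ψ a = ψ b := congrArg Multiplicative.ofAdd (congrArg Subtype.val h)
          exact mul_inv_eq_one.1 (hkey (a * b⁻¹) ((h3 (a * b⁻¹)).1 (by rw [map_mul, map_inv, h', mul_inv_cancel])).2)
        · obtain ⟨u, hu⟩ := h2 v v.2; exact ⟨u, Subtype.ext hu⟩
      rw [Nat.card_eq_of_bijective f hf, Nat.card_eq_fintype_card]
      rfl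
  obtain ⟨z, hz', hz1⟩ : ∃ z ∈ W, z ≠ 1 := by
    refine (Subgroup.bot_or_exists_ne_one W).resolve_left fun h => ?_
    rw [h, card_bot] at hW4; omega
  have hF : IsFour W z := ⟨hW4, fun w hw => (hWmem w hw).1, hz', hz1⟩
  -- conjugates
  have hcoreMap : ∀ g : X, ∀ D : Subgroup X, W.map (MulAut.conj g).toMonoidHom = D →
      E.map (MulAut.conj g).toMonoidHom = E → D = W := by
    rintro g D rfl hEg
    refine Subgroup.eq_of_le_of_card_ge (le_pCoreOf ?_ (hW2.map _) ?_) ?_
    · exact (map_mono hWE).trans hEg.le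
    · conv_lhs => rw [← hEg]
      rw [← Subgroup.map_equiv_normalizer_eq W (MulAut.conj g)]
      exact map_mono hWn
    · rw [card_map_of_injective (MulAut.conj g).injective]
  have hsame : ∀ g : X, W.map (MulAut.conj g).toMonoidHom = W → E.map (MulAut.conj g).toMonoidHom = E := by
    intro g hg
    by_contra hne
    have hc := commutator_eq_bot_iff_le_centralizer.1 (hcomm _ (hconj E hE g) E hE hne)
    obtain ⟨v, hv, hv1⟩ : ∃ v ∈ W, v ≠ 1 := ⟨z, hz', hz1⟩
    refine hv1 (hfpf v hv ?_)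
    exact (mem_centralizer_iff.1 (hc (show v ∈ E.map (MulAut.conj g).toMonoidHom from
      map_mono hWE (hg.symm ▸ hv))) y y₀.2)
  refine ⟨W, z, y, hF, (Cores.le_pCore_of_isSubnormal hWsn hW2), hy3, hfpf, fun w hw => (mem_normalizer_iff.1 (hyN (mem_zpowers y)) w).1 hw,
    fun o ho => ?_, fun g hg => ?_, fun g hg => ?_⟩
  · set c := o * y * o⁻¹ * y⁻¹ with hc
    have hcO : c ∈ Cfsg.pCore 2 X := by
      rw [hc, show o * y * o⁻¹ * y⁻¹ = o * (y * o⁻¹ * y⁻¹) by group]
      exact mul_mem ho ((Cores.pCore_normal 2 X).conj_mem _ (inv_mem ho) y)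
    have hEo : E.map (MulAut.conj o).toMonoidHom = E := by
      by_contra hne
      have hcc := commutator_eq_bot_iff_le_centralizer.1 (hcomm _ (hconj E hE o) E hE hne)
      have he' : o * y * o⁻¹ ∈ E.map (MulAut.conj o).toMonoidHom := ⟨y, y₀.2, rfl⟩
      have hcom : Commute (o * y * o⁻¹) y⁻¹ :=
        Commute.inv_right (show Commute (o * y * o⁻¹) y from
          (mem_centralizer_iff.1 (hcc he') y y₀.2).symm)
      obtain ⟨k, hk⟩ := Cores.isPGroup_pCore 2 X ⟨c, hcO⟩
      have hk' : c ^ 2 ^ k = 1 := congrArg Subtype.val hk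
      rw [hc, hcom.mul_pow, inv_pow, mul_inv_eq_one] at hk'
      have hcen : ∀ w ∈ W, Commute (y ^ 2 ^ k) w := fun w hw => by
        rw [← hk']
        exact (show Commute (o * y * o⁻¹) w from
          (mem_centralizer_iff.1 (hcc he') w (hWE hw)).symm).pow_left _
      have hyz : Commute y z := by
        have hco2 : (orderOf y).Coprime (2 ^ k) := hyco.pow_right k
        obtain ⟨j, hj⟩ := exists_pow_eq_self_of_coprime (Nat.Coprime.symm hco2)
        rw [← hj]
        exact (hcen z hz').pow_left _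
      exact hz1 (hfpf z hz' hyz.eq)
    have hcE : c ∈ E := by
      rw [hc]; exact mul_mem (hEo.le ⟨y, y₀.2, rfl⟩) (inv_mem y₀.2)
    refine le_pCoreOf inf_le_right ((Cores.isPGroup_pCore 2 X).to_le inf_le_left)
      (le_normalizer_iff.2 fun a ha b hb => ⟨(Cores.pCore_normal 2 X).conj_mem b hb.1 a,
        E.mul_mem (E.mul_mem ha hb.2) (E.inv_mem ha)⟩) ⟨hcO, hcE⟩
  · have hgy : g * y * g⁻¹ ∈ E := (hsame g hg).le ⟨y, y₀.2, rfl⟩
    obtain ⟨w, hw, j, hj⟩ := hEgen ⟨_, hgy⟩
    have hj' : g * y * g⁻¹ = w * y ^ j := hj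
    have hred : y ^ j = y ^ (j % 3) := by
      conv_lhs => rw [← Int.mul_ediv_add_emod j 3]
      rw [zpow_add, zpow_mul, show y ^ (3 : ℤ) = 1 by rw [← hy3]; norm_cast, one_zpow, one_mul]
    rw [hred] at hj'
    have h0 := Int.emod_nonneg j (by norm_num : (3 : ℤ) ≠ 0)
    have h1 := Int.emod_lt_of_pos j (by norm_num : (0 : ℤ) < 3)
    interval_cases hjm : j % 3
    · exfalso
      rw [zpow_zero, mul_one] at hj'
      have hwo : (orderOf w).Coprime 2 := by
        rw [← hj', show g * y * g⁻¹ = MulAut.conj g y from rfl]; exact coprime_orderOf_conj hyco _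
      rw [eq_one_of_two_of_odd hW2 hw hwo] at hj'
      have : y = 1 := by simpa using hj'
      rw [this, orderOf_one] at hyo; omega
    · left; rw [hj', zpow_one, mul_inv_cancel_right]; exact hw
    · right
      rw [hj', show y ^ (2 : ℤ) = y * y by rw [zpow_two], mul_assoc, show y * y * y = y ^ 3 by rw [pow_three, mul_assoc],
        hy3, mul_one]
      exact hw
  · have hne : E.map (MulAut.conj g).toMonoidHom ≠ E := fun h => hg (hcoreMap g _ rfl h)
    have hcc := commutator_eq_bot_iff_le_centralizer.1 (hcomm _ (hconj E hE g) E hE hne)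
    refine ⟨(map_mono hWE).trans (hcc.trans (centralizer_le (SetLike.coe_subset_coe.2 hWE))), ?_⟩
    exact mem_centralizer_iff.2 fun t ht => (mem_centralizer_iff.1 (hcc (map_mono hWE ht)) y y₀.2).symm

end Cfsg.Agent.EvenNilp
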