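import Cfsg.Agent.Lib.EvenNilp.Family

/-!
# The case `J(S) ≰ P`: the stabiliser of the classes (helper46)

`R = J(P)`, `S₂ = N_S(R)`. An element of `S₂` permuting the classes of the conjugates of `V` lies in `P`.
-/

set_option autoImplicit false
set_option linter.unusedSectionVars false
set_option linter.style.haveILetI false

namespace Cfsg.Agent.EvenNilp

open Subgroup CoprimeNilMax
open scoped Pointwise

universe u v

variable {A : Type v} [Group A] [Finite A] {G : Type u} [Group G] [Finite G]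

/-- Conjugation of subgroups. -/
abbrev cj (g : G) (U : Subgroup G) : Subgroup G := U.map (MulAut.conj g).toMonoidHom

theorem cj_mul (g h : G) (U : Subgroup G) : cj (g * h) U = cj g (cj h U) := by
  rw [cj, cj, cj, map_map]; congr 1; ext t; simp [mul_assoc]

theorem cj_one (U : Subgroup G) : cj 1 U = U := by
  rw [cj]; conv_rhs => rw [← Subgroup.map_id U]
  congr 1; ext t; simp

theorem cj_of_mem {g : G} {U : Subgroup G} (h : g ∈ normalizer (U : Set G)) : cj g U = U := conj_map_eq h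

/-- The setting of the second case. -/
structure CB (φ : A →* MulAut G) (S : Sylow 2 G) (D P V : Subgroup G) (x z : G) : Prop where
  hyp : Hyp φ S
  top : Top S D P
  orb : Orb P V x z
  notle : ¬ jSub (S : Subgroup G) ≤ P

namespace CB

variable {φ : A →* MulAut G} {S : Sylow 2 G} {D P V : Subgroup G} {x z : G} (c : CB φ S D P V x z)
include c

theorem P_two : IsPGroup 2 P := c.top.isPGroup

theorem R_le_P : jSub P ≤ P := PLocal.thompsonSubgroupOf_le P

theorem sib_mr {U : Subgroup G} (hU : Sib P V U) : MR (jSub P) U := by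
  obtain ⟨xU, zU, ho⟩ := hU.orb c.orb
  exact (ho.rblk c.P_two).choose_spec.mr

theorem sib_z_inj {U U' : Subgroup G} (hU : Sib P V U) (hU' : Sib P V U')
    (hz : zR (jSub P) U = zR (jSub P) U') : U = U' := by
  classical
  by_contra hne
  have hd := sibSup_disjoint c.orb (s := {U'}) (fun W hW => by rw [Finset.mem_singleton.1 hW]; exact hU') hU
    (by simpa using hne)
  rw [sibSup, Finset.sup_singleton] at hd
  exact (c.sib_mr hU).four.zne (mem_bot.1 (hd.le ⟨(c.sib_mr hU).z_mem, hz ▸ (c.sib_mr hU').z_mem⟩))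

/-- `S₂`. -/
abbrev S2 (_c : CB φ S D P V x z) : Subgroup G := (S : Subgroup G) ⊓ normalizer (jSub P : Set G)

theorem S2_two : IsPGroup 2 c.S2 := S.2.to_le inf_le_left

theorem P_le_S2 : P ≤ c.S2 := le_inf c.top.le_S (isCh_jSub P).le_normalizer'

theorem R_le_S2 : jSub P ≤ c.S2 := c.R_le_P.trans c.P_le_S2

theorem fixR {g : G} (hg : g ∈ c.S2) : (jSub P).map (MulAut.conj g).toMonoidHom = jSub P := conj_map_eq hg.2

theorem jS2_not_le : ¬ jSub c.S2 ≤ P := by
  intro hle
  have hsub : ∀ B ∈ elemMax c.S2, B ≤ P := fun B hB => (EvenNilp.le_jSub hB).trans hle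
  obtain ⟨B₀, hB₀⟩ := PLocal.exists_maxIn (Q := PLocal.elemAb 2) PLocal.elemAb_bot c.S2
  have heq : jSub c.S2 = jSub P := by
    rw [jSub_eq, jSub_eq]
    exact le_antisymm (sSup_le_sSup fun B hB => PLocal.maxIn_of_mem_le hB (hsub B hB) c.P_le_S2)
      (sSup_le_sSup (PLocal.maxIn_subset hB₀ (hsub B₀ hB₀) c.P_le_S2))
  have hS : c.S2 = (S : Subgroup G) := by
    by_contra hne
    haveI : Fact (Nat.Prime 2) := ⟨Nat.prime_two⟩
    haveI := S.2.isNilpotent
    have hlt : c.S2.subgroupOf (S : Subgroup G) < ⊤ := by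
      rw [lt_top_iff_ne_top, Ne, Subgroup.subgroupOf_eq_top]
      exact fun h => hne (le_antisymm inf_le_left h)
    obtain ⟨g, hg, hgS⟩ := SetLike.exists_of_lt (Group.normalizerCondition_of_isNilpotent _ hlt)
    refine hgS (⟨g.2, ?_⟩ : (g : G) ∈ c.S2)
    rw [← heq]
    refine (isCh_jSub c.S2).le_normalizer (Coprime.mem_normalizer_of_forall fun t ht => ?_)
    exact (mem_normalizer_iff.1 hg ⟨t, ht.1⟩).1 ht
  exact c.notle (by rw [← hS]; exact hle)

theorem mr_cj {U : Subgroup G} (hU : MR (jSub P) U) {g : G} (hg : g ∈ c.S2) : MR (jSub P) (cj g U) :=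
  hU.map _ (c.fixR hg)

theorem zR_cj {U : Subgroup G} (hU : MR (jSub P) U) {g : G} (hg : g ∈ c.S2) :
    zR (jSub P) (cj g U) = g * zR (jSub P) U * g⁻¹ := hU.zR_map _ (c.fixR hg)

theorem cls_cj {U U' : Subgroup G} (hU : MR (jSub P) U) (hU' : MR (jSub P) U')
    (h : cls (jSub P) U = cls (jSub P) U') {g : G} (hg : g ∈ c.S2) :
    cls (jSub P) (cj g U) = cls (jSub P) (cj g U') := hU.cls_map_congr hU' h _ (c.fixR hg)

/-- `g` maps the classes of the conjugates of `V` to such classes. -/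
def Perm (_c : CB φ S D P V x z) (g : G) : Prop :=
  ∀ U, Sib P V U → ∃ U', Sib P V U' ∧ cls (jSub P) (cj g U) = cls (jSub P) U'

theorem perm_of_P {g : G} (hg : g ∈ P) : c.Perm g := fun _ hU => ⟨_, hU.conj hg, rfl⟩

theorem perm_mul {g h : G} (hgS : g ∈ c.S2) (hhS : h ∈ c.S2) (hg : c.Perm g) (hh : c.Perm h) :
    c.Perm (g * h) := fun U hU => by
  obtain ⟨U', hU', e⟩ := hh U hU
  obtain ⟨U'', hU'', e'⟩ := hg U' hU'
  exact ⟨U'', hU'', by rw [cj_mul, c.cls_cj (c.mr_cj (c.sib_mr hU) hhS) (c.sib_mr hU') e hgS, e']⟩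

theorem perm_pow {g : G} (hgS : g ∈ c.S2) (hg : c.Perm g) (n : ℕ) : c.Perm (g ^ n) := by
  induction n with
  | zero => rw [pow_zero]; exact c.perm_of_P (one_mem P)
  | succ n ih => rw [pow_succ]; exact c.perm_mul (pow_mem hgS n) hgS ih hg

/-- The stabiliser of the classes is `P`. -/
theorem mem_P_of_perm {g : G} (hgS : g ∈ c.S2) (hg : c.Perm g) : g ∈ P := by
  let Y : Subgroup G :=
    { carrier := {g | g ∈ c.S2 ∧ c.Perm g}
      one_mem' := ⟨one_mem _, c.perm_of_P (one_mem P)⟩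
      mul_mem' := fun {a b} ha hb => ⟨mul_mem ha.1 hb.1, c.perm_mul ha.1 hb.1 ha.2 hb.2⟩
      inv_mem' := fun {a} ha => by
        refine ⟨inv_mem ha.1, ?_⟩
        have e : a⁻¹ = a ^ (orderOf a - 1) := by
          refine inv_eq_of_mul_eq_one_right ?_
          rw [← pow_succ', Nat.sub_add_cancel (orderOf_pos a), pow_orderOf_eq_one]
        rw [e]
        exact c.perm_pow ha.1 ha.2 _ }
  set R := jSub P with hR
  let T : Set (Subgroup G) := {U | MR R U ∧ ∃ U', Sib P V U' ∧ cls R U = cls R U'}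
  set W : Subgroup G := ⨆ U : T, (U : Subgroup G) with hW
  have hcomm : ∀ U ∈ T, ∀ U' ∈ T, U' ≤ centralizer (U : Set G) := by
    rintro U ⟨hU, U1, hU1, e1⟩ U' ⟨hU', U2, hU2, e2⟩
    refine (hU.commute_cases hU').resolve_right fun ⟨hz, hne⟩ => hne ?_
    have hz2 : zR R U1 = zR R U2 := by
      exact ((congrArg Prod.fst e1 : zR R U = zR R U1).symm.trans hz).trans
        (congrArg Prod.fst e2 : zR R U' = zR R U2)
    rw [e1, e2, c.sib_z_inj hU1 hU2 hz2]
  set D' := R ⊓ centralizer (W : Set G) with hD'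
  have hVT : V ∈ T := ⟨c.sib_mr (Sib.self P V), V, Sib.self P V, rfl⟩
  have hD2 : IsPGroup 2 D' := c.P_two.to_le (inf_le_left.trans c.R_le_P)
  have hzD : zSub P ≤ D' := le_inf c.top.zP_le_jSub (le_centralizer_iff.1 (iSup_le fun U => fun u hu =>
    mem_centralizer_iff.2 fun q hq => ((mem_zSub.1 hq).2.1 u (c.R_le_P (U.2.1.le hu))).symm))
  have hgood : Good D' := c.top.good_of_le c.hyp hD2 hzD
  have hVD : V ≤ D' := le_inf (hVT.1.le) (le_centralizer_iff.1 (iSup_le fun U => hcomm V hVT U U.2))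
  have hD'Q : D' ≤ R ⊓ centralizer (V : Set G) := inf_le_inf_left _ (centralizer_le
    (SetLike.coe_subset_coe.2 (le_iSup (fun U : T => (U : Subgroup G)) ⟨V, hVT⟩)))
  obtain ⟨zJ, hRB⟩ := c.orb.rblk c.P_two
  have hnn : NN D' := nn_of_odd hD2 (Coprime.mem_normalizer_of_forall fun w hw => by
      rw [show x * w * x⁻¹ = (x * w * x⁻¹ * w⁻¹) * w by group]
      exact mul_mem (hVD (hRB.blk.comm w (hD'Q hw))) hw) hRB.blk.odd
    (fun hc => hRB.four.zne (hRB.blk.fpf zJ hRB.four.zmem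
      (mem_centralizer_iff.1 hc zJ (hVD hRB.four.zmem)).symm))
  have hPY : P ≤ Y := fun p hp => ⟨c.P_le_S2 hp, c.perm_of_P hp⟩
  have hYN : Y ≤ normalizer (D' : Set G) := by
    rintro a ⟨haS, ha⟩
    refine mem_normalizer_iff_map_conj_eq.2 ((Subgroup.map_inf _ _ _ (MulAut.conj a).injective).trans
      (congrArg₂ (· ⊓ ·) (c.fixR haS) ((map_cent (MulAut.conj a) W).trans ?_)))
    refine congrArg (fun Z : Subgroup G => centralizer (Z : Set G)) ?_
    refine Subgroup.eq_of_le_of_card_ge ?_ (card_map_of_injective (MulAut.conj a).injective).ge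
    rw [hW, Subgroup.map_iSup]
    refine iSup_le fun U => ?_
    obtain ⟨hU, U1, hU1, e1⟩ := U.2
    obtain ⟨U2, hU2, e2⟩ := ha U1 hU1
    exact le_iSup (fun U : T => (U : Subgroup G))
      ⟨cj a U, c.mr_cj hU haS, U2, hU2, (c.cls_cj hU (c.sib_mr hU1) e1 haS).trans e2⟩
  have hYS : Y ≤ c.S2 := fun a ha => ha.1
  have hY := c.top.eq_of_le hgood hnn (c.S2_two.to_le hYS) hYN hPY
  exact hY.le (show g ∈ Y from ⟨hgS, hg⟩)

end CB

end Cfsg.Agent.EvenNilp
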