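import Cfsg.Agent.Lib.EvenNilp.Member

/-!
# At most two orbits of members with a given involution (helper46)
-/

set_option autoImplicit false
set_option linter.unusedSectionVars false
set_option linter.style.haveILetI false

namespace Cfsg.Agent.EvenNilp

open Subgroup
open scoped Pointwise

universe u

variable {G : Type u} [Group G] [Finite G]

namespace Mem

variable {S V W W' : Subgroup G} {x xW xW' z v w w' : G}

theorem conjz (h : Mem S V x z) {g : G} (hg : g ∈ S) (hgz : g * z = z * g) :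
    Mem S (V.map (MulAut.conj g).toMonoidHom) (g * x * g⁻¹) z := by
  have := h.conj hg
  rwa [hgz, mul_inv_cancel_right] at this

theorem nc_conjz (hv : NC V z v) {g : G} (hgz : g * z = z * g) :
    NC (V.map (MulAut.conj g).toMonoidHom) z (g * v * g⁻¹) := by
  have := nc_conj hv g
  rwa [hgz, mul_inv_cancel_right] at this

/-- Commuting is transitive on members with the same involution. -/
theorem comm_trans (h : Mem S V x z) (h' : Mem S W xW z) (h'' : Mem S W' xW' z) (hv : NC V z v)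
    (hw : NC W z w) (hw' : NC W' z w') (e : v * w = w * v) (e' : w * w' = w' * w) : v * w' = w' * v := by
  have hQ := (h.cls_eq h' hv hw e).trans (h'.cls_eq h'' hw hw' e')
  exact h''.q_comm (hQ.le (h.vle hv.1)) hw'.1

/-- Members whose product lies in the centraliser of a member commute. -/
theorem comm_of_prod (h : Mem S V x z) (h' : Mem S W xW z) (h'' : Mem S W' xW' z) (hw : NC W z w)
    (hw' : NC W' z w') (hp : w * w' ∈ S ⊓ centralizer (V : Set G)) : w * w' = w' * w := by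
  by_contra hne
  obtain ⟨k, -, e, -⟩ := h'.half_eq h'' hw hw' hne (h''.v_comm_z hw'.1) (h'.v_comm_z hw.1)
  refine h.no_sq (pow_mem hp (2 ^ k)) ?_
  rw [← pow_add, ← two_mul, ← pow_succ', e]

theorem mem_norm_self (h : Mem S V x z) (hv : NC V z v) : v ∈ S ⊓ normalizer (V : Set G) :=
  cent_le_norm (h.vle hv.1)

/-- Conjugates of `v` commuting give the same coset of the stabiliser. -/
theorem coset_eq (h : Mem S V x z) (hv : NC V z v) {g k : G} (hg : g ∈ S) (hk : k ∈ S)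
    (hgz : g * z = z * g) (hkz : k * z = z * k)
    (e : g * v * g⁻¹ * (k * v * k⁻¹) = k * v * k⁻¹ * (g * v * g⁻¹)) :
    g⁻¹ * k ∈ S ⊓ normalizer (V : Set G) := by
  have hm : g⁻¹ * k ∈ S := S.mul_mem (inv_mem hg) hk
  refine ⟨hm, h.conj_mem hv hm ((show Commute g z from hgz).inv_left.mul_left hkz).eq ?_⟩
  calc g⁻¹ * k * v * (g⁻¹ * k)⁻¹ * v = g⁻¹ * ((k * v * k⁻¹) * (g * v * g⁻¹)) * g := by group
    _ = g⁻¹ * ((g * v * g⁻¹) * (k * v * k⁻¹)) * g := by rw [e]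
    _ = v * (g⁻¹ * k * v * (g⁻¹ * k)⁻¹) := by group

/-- The exponent is found by parity. -/
theorem class_cases (h : Mem S V x z) (h' : Mem S W xW z) (h'' : Mem S W' xW' z) (hv : NC V z v)
    (hw : NC W z w) (hw' : NC W' z w') {X : Subgroup G} (hXS : X ≤ S) (hXz : ∀ g ∈ X, g * z = z * g)
    (hc : v * w ∈ X) {i : ℕ} {q : G} (hq : q ∈ S ⊓ centralizer (V : Set G))
    (e : v * w' = (v * w) ^ i * q) :
    (∃ g ∈ X, g * v * g⁻¹ * w' = w' * (g * v * g⁻¹) ∧ Even i) ∨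
      (∃ g ∈ X, g * w * g⁻¹ * w' = w' * (g * w * g⁻¹) ∧ g * w * g⁻¹ * w' = q ∧ Odd i) := by
  have hv2 := h.nc_sq hv
  have hw2 := h'.nc_sq hw
  set c := v * w with hcdef
  have ew' : w' = v * (c ^ i * q) := by rw [← e, ← mul_assoc, hv2, one_mul]
  rcases Nat.even_or_odd' i with ⟨j, rfl | rfl⟩
  · refine Or.inl ⟨(c ^ j)⁻¹, inv_mem (pow_mem hc j), ?_, even_two_mul j⟩
    have hg : (c ^ j)⁻¹ ∈ X := inv_mem (pow_mem hc j)
    have hz := hXz _ hg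
    refine h.comm_of_prod (h.conjz (hXS hg) hz) h'' (nc_conjz hv hz) hw' ?_
    have ev := (conj_pow_inv hv2 hw2 j).1
    rw [← hcdef] at ev
    have : (c ^ j)⁻¹ * v * (c ^ j)⁻¹⁻¹ * w' = q := by
      rw [inv_inv, mul_assoc (c ^ j)⁻¹ v, ev, ew']
      calc (c ^ j)⁻¹ * ((c ^ j)⁻¹ * v) * (v * (c ^ (2 * j) * q))
          = (c ^ j)⁻¹ * (c ^ j)⁻¹ * (v * v) * (c ^ (2 * j) * q) := by group
        _ = q := by rw [hv2, mul_one, two_mul, pow_add]; group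
    rw [this]; exact hq
  · have hg : (c ^ j)⁻¹ ∈ X := inv_mem (pow_mem hc j)
    have hz := hXz _ hg
    have ev := (conj_pow_inv hv2 hw2 j).2
    rw [← hcdef] at ev
    have hwv : w * v = c⁻¹ := by
      rw [hcdef, mul_inv_rev, inv_eq_of_mul_eq_one_right hv2, inv_eq_of_mul_eq_one_right hw2]
    have this : (c ^ j)⁻¹ * w * (c ^ j)⁻¹⁻¹ * w' = q := by
      rw [inv_inv, mul_assoc (c ^ j)⁻¹ w, ev, ew']
      calc (c ^ j)⁻¹ * ((c ^ j)⁻¹ * w) * (v * (c ^ (2 * j + 1) * q))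
          = (c ^ j)⁻¹ * (c ^ j)⁻¹ * (w * v) * (c ^ (2 * j + 1) * q) := by group
        _ = q := by rw [hwv, pow_succ', two_mul, pow_add]; group
    refine Or.inr ⟨(c ^ j)⁻¹, hg, h.comm_of_prod (h'.conjz (hXS hg) hz) h'' (nc_conjz hw hz) hw' ?_, this,
      odd_two_mul_add_one j⟩
    rw [this]; exact hq

/-- The classes met by `X`. -/
theorem orbits_in (h : Mem S V x z) (hv : NC V z v) (X : Subgroup G)
    (hNX : S ⊓ normalizer (V : Set G) ≤ X) (hXS : X ≤ S) (hXz : ∀ g ∈ X, g * z = z * g) :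
    (∀ W xW w, Mem S W xW z → NC W z w → w ∈ X → ∃ g ∈ X, g * v * g⁻¹ * w = w * (g * v * g⁻¹)) ∨
      ∃ W xW w, Mem S W xW z ∧ NC W z w ∧ w ∈ X ∧
        ∀ g ∈ X, ∃ i : ℕ, ∃ q ∈ S ⊓ centralizer (V : Set G), g = (v * w) ^ i * q := by
  induction X using WellFoundedLT.induction with
  | _ X ih =>
  set N := S ⊓ normalizer (V : Set G) with hN
  set Q := S ⊓ centralizer (V : Set G) with hQ
  by_cases hXN : N = X
  · right
    obtain ⟨y, hy, hyz, v₀, hv₀, huN, huC, -⟩ := h.flip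
    have hu := nc_conjz hv₀ hyz
    have hum := h.conjz hy hyz
    have huS := hum.nc_mem hu
    refine ⟨_, _, _, hum, hu, hXN ▸ ⟨huS, huN⟩, fun g hg => ?_⟩
    rw [← hXN] at hg
    by_cases hgC : g ∈ centralizer (V : Set G)
    · exact ⟨0, g, ⟨hg.1, hgC⟩, by rw [pow_zero, one_mul]⟩
    set c := v * (y * v₀ * y⁻¹) with hc
    have hcN : c ∈ N := mul_mem (h.mem_norm_self hv) ⟨huS, huN⟩
    have hcC : c ∉ centralizer (V : Set G) := fun e =>
      huC ((Subgroup.mul_mem_cancel_left _ (h.vle hv.1).2).1 e)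
    refine ⟨1, c⁻¹ * g, ⟨S.mul_mem (inv_mem hcN.1) hg.1, ?_⟩, by rw [pow_one, mul_inv_cancel_left]⟩
    exact h.four.mul_mem_centralizer (inv_mem hcN.2) (h.zc _ (inv_mem hcN.1) (inv_mem hcN.2))
      (fun e => hcC (inv_mem_iff.1 e)) hg.2 (h.zc g hg.1 hg.2) hgC
  obtain ⟨X₀, hNX₀, hlt, hnorm, htwo⟩ := exists_index_two (h.two.to_le hXS) hNX hXN
  have h0S := hlt.le.trans hXS
  have h0z : ∀ g ∈ X₀, g * z = z * g := fun g hg => hXz g (hlt.le hg)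
  obtain ⟨k₀, hk₀, hk₀n⟩ := SetLike.exists_of_lt hlt
  have hv0 : v ∈ X₀ := hNX₀ (h.mem_norm_self hv)
  have hout : ∀ g ∈ X₀, ∀ k ∈ X, g * v * g⁻¹ * (k * v * k⁻¹) = k * v * k⁻¹ * (g * v * g⁻¹) → k ∈ X₀ := by
    intro g hg k hk e
    have := hNX₀ (h.coset_eq hv (h0S hg) (hXS hk) (h0z g hg) (hXz k hk) e)
    exact (Subgroup.mul_mem_cancel_left _ (inv_mem hg)).1 this
  rcases ih X₀ hlt hNX₀ h0S h0z with hA | ⟨W₀, xW₀, w₀, h₀, hw₀, hw₀X, hB⟩
  · obtain ⟨g, hg, e⟩ := hA _ _ _ (h.conjz (hXS hk₀) (hXz k₀ hk₀)) (nc_conjz hv (hXz k₀ hk₀))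
      (hnorm k₀ hk₀ v hv0)
    exact absurd (hout g hg k₀ hk₀ e) hk₀n
  have hc0 : v * w₀ ∈ X₀ := mul_mem hv0 hw₀X
  by_cases hex : ∃ W xW w, Mem S W xW z ∧ NC W z w ∧ w ∈ X ∧ w ∉ X₀
  · right
    obtain ⟨W, xW, w, hm, hw, hwX, hwn⟩ := hex
    refine ⟨W, xW, w, hm, hw, hwX, ?_⟩
    have hwi : w⁻¹ = w := inv_eq_of_mul_eq_one_right (hm.nc_sq hw)
    have hwz := hm.v_comm_z hw.1
    have h1 := h.conjz (hXS hwX) hwz
    have hw1 := nc_conjz hv hwz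
    have hw1X : w * v * w⁻¹ ∈ X₀ := hnorm w hwX v hv0
    obtain ⟨i, q, hq, e⟩ := hB _ (mul_mem hv0 hw1X)
    rcases class_cases h h₀ h1 hv hw₀ hw1 h0S h0z hc0 hq e with
      ⟨g, hg, ec, -⟩ | ⟨g, hg, ec, eq, hodd⟩
    · exact absurd (hout g hg w hwX ec) hwn
    set c₀ := v * w₀ with hc₀
    set c := v * w with hc
    set d := c₀ ^ i with hd
    have hq2 : q * q = 1 := by
      have t2 : g * w₀ * g⁻¹ * (g * w₀ * g⁻¹) = 1 := by
        rw [show g * w₀ * g⁻¹ * (g * w₀ * g⁻¹) = g * (w₀ * w₀) * g⁻¹ by group, h₀.nc_sq hw₀, mul_one,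
          mul_inv_cancel]
      have key : ∀ a b : G, a * a = 1 → b * b = 1 → a * b = b * a → a * b * (a * b) = 1 := fun a b ha hb hab => by
        calc a * b * (a * b) = a * (b * a) * b := by simp only [mul_assoc]
          _ = a * (a * b) * b := by rw [hab]
          _ = 1 := by rw [← mul_assoc a a b, ha, one_mul, hb]
      rw [← eq]
      exact key _ _ t2 (h1.nc_sq hw1) ec
    have hcc : c * c = d * q := by rw [← e, hwi]; simp only [hc, mul_assoc]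
    have hqd : Commute q d := by
      have hqv : q * v = v * q := h.q_comm hq hv.1
      have hvd : v * d = d⁻¹ * v := (conj_pow_inv (h.nc_sq hv) (h₀.nc_sq hw₀) i).1
      have hvc : v * c ^ 2 = (c ^ 2)⁻¹ * v := (conj_pow_inv (h.nc_sq hv) (hm.nc_sq hw) 2).1
      rw [pow_two, hcc, mul_inv_rev, inv_eq_of_mul_eq_one_right hq2, ← mul_assoc, hvd, mul_assoc, ← hqv,
        ← mul_assoc] at hvc
      have := mul_right_cancel hvc
      simpa using (show Commute q d⁻¹ from this.symm).inv_right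
    obtain ⟨m, hm'⟩ := exists_pow_eq_self_of_coprime (x := c₀) (n := i) (by
      obtain ⟨k, hk⟩ := h.two ⟨c₀, h0S hc0⟩
      exact Nat.Coprime.coprime_dvd_right (orderOf_dvd_of_pow_eq_one (congrArg Subtype.val hk))
        (Nat.Coprime.pow_right k (Nat.coprime_two_right.2 hodd)))
    have hX₀ : ∀ g ∈ X₀, ∃ n : ℕ, ∃ q' ∈ Q, g = c ^ (2 * n) * q' := by
      intro g hg
      obtain ⟨j, q', hq', rfl⟩ := hB g hg
      refine ⟨m * j, q ^ (m * j) * q', mul_mem (pow_mem hq _) hq', ?_⟩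
      rw [← mul_assoc, pow_mul c 2, pow_two, hcc, ← (hqd.symm.mul_left (Commute.refl q)).mul_pow]
      rw [mul_assoc d q q, hq2, mul_one, pow_mul, hd, hm']
    intro g hg
    by_cases hg0 : g ∈ X₀
    · obtain ⟨n, q', hq', e'⟩ := hX₀ g hg0
      exact ⟨_, q', hq', e'⟩
    · have hcn : c⁻¹ ∉ X₀ := fun e' => hwn ((Subgroup.mul_mem_cancel_left _ hv0).1 (inv_mem_iff.1 e'))
      obtain ⟨n, q', hq', e'⟩ := hX₀ _ (htwo _ (inv_mem (mul_mem (hlt.le hv0) hwX)) g hg hcn hg0)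
      exact ⟨2 * n + 1, q', hq', by rw [pow_succ', mul_assoc, ← e', mul_inv_cancel_left]⟩
  · left
    push Not at hex
    intro W xW w hm hw hwX
    have hw0 := hex W xW w hm hw hwX
    obtain ⟨i, q, hq, e⟩ := hB _ (mul_mem hv0 hw0)
    rcases class_cases h h₀ hm hv hw₀ hw h0S h0z hc0 hq e with ⟨g, hg, ec, -⟩ | ⟨g₂, hg₂, ec₂, -, -⟩
    · exact ⟨g, hlt.le hg, ec⟩
    have hkm := h.conjz (hXS hk₀) (hXz k₀ hk₀)
    have hkv := nc_conjz hv (hXz k₀ hk₀)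
    obtain ⟨i', q', hq', e'⟩ := hB _ (mul_mem hv0 (hnorm k₀ hk₀ v hv0))
    rcases class_cases h h₀ hkm hv hw₀ hkv h0S h0z hc0 hq' e' with
      ⟨g, hg, ec, -⟩ | ⟨g₁, hg₁, ec₁, -, -⟩
    · exact absurd (hout g hg k₀ hk₀ ec) hk₀n
    have hkX : g₂ * g₁⁻¹ * k₀ ∈ X := mul_mem (hlt.le (mul_mem hg₂ (inv_mem hg₁))) hk₀
    refine ⟨_, hkX, comm_trans (h.conjz (hXS hkX) (hXz _ hkX)) (h₀.conjz (h0S hg₂) (h0z _ hg₂)) hm
      (nc_conjz hv (hXz _ hkX)) (nc_conjz hw₀ (h0z _ hg₂)) hw ?_ ec₂⟩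
    calc g₂ * g₁⁻¹ * k₀ * v * (g₂ * g₁⁻¹ * k₀)⁻¹ * (g₂ * w₀ * g₂⁻¹)
        = g₂ * g₁⁻¹ * ((k₀ * v * k₀⁻¹) * (g₁ * w₀ * g₁⁻¹)) * (g₂ * g₁⁻¹)⁻¹ := by group
      _ = g₂ * g₁⁻¹ * ((g₁ * w₀ * g₁⁻¹) * (k₀ * v * k₀⁻¹)) * (g₂ * g₁⁻¹)⁻¹ := by rw [ec₁]
      _ = _ := by group

/-- At most two orbits. -/
theorem two_orbits (h : Mem S V x z) (hv : NC V z v) :
    ∃ W xW w, Mem S W xW z ∧ NC W z w ∧ ∀ W' xW' w', Mem S W' xW' z → NC W' z w' →
      ∃ g ∈ S, g * z = z * g ∧ (g * v * g⁻¹ * w' = w' * (g * v * g⁻¹) ∨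
        g * w * g⁻¹ * w' = w' * (g * w * g⁻¹)) := by
  set X := S ⊓ centralizer ({z} : Set G) with hX
  have hXz : ∀ g ∈ X, g * z = z * g := fun g hg => mem_centralizer_singleton_iff.1 hg.2
  have hmemX : ∀ {W' : Subgroup G} {xW' w' : G}, Mem S W' xW' z → NC W' z w' → w' ∈ X :=
    fun hm hw => ⟨hm.nc_mem hw, mem_centralizer_singleton_iff.2 (hm.v_comm_z hw.1)⟩
  rcases orbits_in h hv X (fun g hg => ⟨hg.1, mem_centralizer_singleton_iff.2 (h.zc g hg.1 hg.2)⟩)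
    inf_le_left hXz with hA | ⟨W, xW, w, hm, hw, hwX, hB⟩
  · refine ⟨V, x, v, h, hv, fun W' xW' w' hm' hw' => ?_⟩
    obtain ⟨g, hg, e⟩ := hA W' xW' w' hm' hw' (hmemX hm' hw')
    exact ⟨g, hg.1, hXz g hg, Or.inl e⟩
  · refine ⟨W, xW, w, hm, hw, fun W' xW' w' hm' hw' => ?_⟩
    obtain ⟨i, q, hq, e⟩ := hB _ (mul_mem (hmemX h hv) (hmemX hm' hw'))
    rcases class_cases h hm hm' hv hw hw' (inf_le_left : X ≤ S) hXz (mul_mem (hmemX h hv) hwX) hq e with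
      ⟨g, hg, ec, -⟩ | ⟨g, hg, ec, -, -⟩
    · exact ⟨g, hg.1, hXz g hg, Or.inl ec⟩
    · exact ⟨g, hg.1, hXz g hg, Or.inr ec⟩

end Mem

end Cfsg.Agent.EvenNilp
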