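import Cfsg.Agent.Lib.EvenNilp.R1
import Cfsg.Agent.Lib.EvenNilp.Orbits

/-!
# The even case is impossible (helper46)
-/

set_option autoImplicit false
set_option linter.unusedSectionVars false
set_option linter.style.haveILetI false

namespace Cfsg.Agent.EvenNilp

open Subgroup CoprimeNilMax
open scoped Pointwise

universe u v

variable {A : Type v} [Group A] [Finite A] {G : Type u} [Group G] [Finite G]

/-- Two orbits are not exchanged by an element of odd order. -/
theorem fixes_orbit {Γ X : Type*} [Group Γ] [Finite Γ] [MulAction Γ X] (K : Subgroup Γ) {x₀ x₁ : X}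
    (C : Set X) (hC : ∀ y ∈ C, ∃ k ∈ K, k • x₀ = y ∨ k • x₁ = y) {a : Γ} (ha : a ∈ normalizer (K : Set Γ))
    (hodd : Odd (orderOf a)) (haC : ∀ y ∈ C, a • y ∈ C) (h₀ : x₀ ∈ C) :
    ∃ k ∈ K, k • x₀ = a • x₀ := by
  by_contra hcon
  let R : X → X → Prop := fun y y' => ∃ k ∈ K, k • y = y'
  have rsymm : ∀ y y', R y y' → R y' y := fun y y' ⟨k, hk, e⟩ =>
    ⟨k⁻¹, inv_mem hk, by rw [← e, inv_smul_smul]⟩
  have rtrans : ∀ y y' y'', R y y' → R y' y'' → R y y'' := fun y y' y'' ⟨k, hk, e⟩ ⟨k', hk', e'⟩ =>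
    ⟨k' * k, mul_mem hk' hk, by rw [mul_smul, e, e']⟩
  have rmap : ∀ y y', R y y' → R (a • y) (a • y') := fun y y' ⟨k, hk, e⟩ =>
    ⟨a * k * a⁻¹, (mem_normalizer_iff.1 ha k).1 hk, by rw [mul_smul, inv_smul_smul, mul_smul, e]⟩
  have rmap' : ∀ y y', R (a • y) (a • y') → R y y' := fun y y' ⟨k, hk, e⟩ =>
    ⟨a⁻¹ * k * a, by
      refine (mem_normalizer_iff.1 ha _).2 ?_
      rwa [show a * (a⁻¹ * k * a) * a⁻¹ = k by group], by rw [mul_smul, mul_smul, e, inv_smul_smul]⟩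
  have hcase : ∀ y ∈ C, R x₀ y ∨ R x₁ y := fun y hy => by
    obtain ⟨k, hk, e | e⟩ := hC y hy
    · exact Or.inl ⟨k, hk, e⟩
    · exact Or.inr ⟨k, hk, e⟩
  have h1 : R x₁ (a • x₀) := (hcase _ (haC _ h₀)).resolve_left hcon
  have h2 : R x₀ (a • a • x₀) := by
    refine (hcase _ (haC _ (haC _ h₀))).resolve_right fun h => hcon ?_
    exact rmap' _ _ (rtrans _ _ _ (rsymm _ _ h1) h)
  have hmem : ∀ n : ℕ, a ^ n • x₀ ∈ C := fun n => by
    induction n with
    | zero => rwa [pow_zero, one_smul]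
    | succ n ih => rw [pow_succ', mul_smul]; exact haC _ ih
  have key : ∀ n : ℕ, R x₀ (a ^ n • x₀) ↔ Even n := fun n => by
    induction n with
    | zero => exact iff_of_true ⟨1, one_mem _, by rw [pow_zero]⟩ Even.zero
    | succ n ih =>
      rw [pow_succ', mul_smul, Nat.even_add_one]
      by_cases hn : Even n
      · exact iff_of_false (fun h => hcon (rtrans _ _ _ h (rsymm _ _ (rmap _ _ (ih.2 hn))))) (not_not.2 hn)
      · refine iff_of_true ?_ hn
        have h3 := (hcase _ (hmem n)).resolve_left fun h => hn (ih.1 h)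
        exact rtrans _ _ _ h2 (rmap _ _ (rtrans _ _ _ (rsymm _ _ h1) h3))
  have := (key (orderOf a)).1 ⟨1, one_mem _, by rw [pow_orderOf_eq_one]⟩
  exact Nat.not_even_iff_odd.2 hodd this

/-- A member is impossible. -/
theorem false_of_mem {φ : A →* MulAut G} {S : Sylow 2 G} (H : Hyp φ S) {V : Subgroup G} {x z : G}
    (h : Mem (S : Subgroup G) V x z) : False := by
  classical
  obtain ⟨v, hv⟩ := h.exists_nc
  obtain ⟨W₁, xW₁, w₁, h₁, hw₁, htwo⟩ := h.two_orbits hv
  letI : MulAction (MulAut G) (Subgroup G) :=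
    { smul := fun e U => U.map (e : G ≃* G).toMonoidHom
      one_smul := fun U => Subgroup.map_id U
      mul_smul := fun e e' U =>
        ((Subgroup.map_map U (e : G ≃* G).toMonoidHom (e' : G ≃* G).toMonoidHom).trans rfl).symm }
  have smul_eq : ∀ (e : MulAut G) (U : Subgroup G), e • U = U.map (e : G ≃* G).toMonoidHom := fun _ _ => rfl
  set Sz := (S : Subgroup G) ⊓ centralizer ({z} : Set G) with hSz
  set K := Sz.map (MulAut.conj : G →* MulAut G) with hK
  let Az : Subgroup A :=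
    { carrier := {a | φ a z = z}
      one_mem' := by simp
      mul_mem' := fun {a b} (ha : φ a z = z) (hb : φ b z = z) => show φ (a * b) z = z by
        rw [map_mul, MulAut.mul_apply, hb, ha]
      inv_mem' := fun {a} (ha : φ a z = z) => show φ a⁻¹ z = z by
        rw [map_inv]; exact ((φ a : G ≃* G).symm_apply_eq).2 ha.symm }
  set cl : Subgroup G → Subgroup G := fun U => (S : Subgroup G) ⊓ centralizer (U : Set G) with hcl
  have hclmap : ∀ (e : MulAut G), (S : Subgroup G).map (e : G ≃* G).toMonoidHom = S →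
      ∀ U : Subgroup G, e • cl U = cl (U.map (e : G ≃* G).toMonoidHom) := fun e he U => mem_map_cent he
  set C : Set (Subgroup G) := {Qc | ∃ W xW, Mem (S : Subgroup G) W xW z ∧ cl W = Qc} with hC
  have hcases : ∀ Qc ∈ C, ∃ k ∈ K, k • cl V = Qc ∨ k • cl W₁ = Qc := by
    rintro _ ⟨W, xW, hm, rfl⟩
    obtain ⟨w, hw⟩ := hm.exists_nc
    obtain ⟨g, hg, hgz, e⟩ := htwo W xW w hm hw
    refine ⟨MulAut.conj g, ⟨g, ⟨hg, mem_centralizer_singleton_iff.2 hgz⟩, rfl⟩, e.imp (fun e => ?_) fun e => ?_⟩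
    · rw [hclmap _ (conj_map_self hg)]
      exact (h.conjz hg hgz).cls_eq hm (Mem.nc_conjz hv hgz) hw e
    · rw [hclmap _ (conj_map_self hg)]
      exact (h₁.conjz hg hgz).cls_eq hm (Mem.nc_conjz hw₁ hgz) hw e
  have hSinv : ∀ a : A, (S : Subgroup G).map (φ a : G ≃* G).toMonoidHom = S := H.inv
  have hnorm : Az.map φ ≤ normalizer (K : Set (MulAut G)) := by
    rintro _ ⟨a, ha, rfl⟩
    refine Coprime.mem_normalizer_of_forall ?_
    rintro _ ⟨g, hg, rfl⟩
    refine ⟨φ a g, ⟨(hSinv a).le ⟨g, hg.1, rfl⟩, mem_centralizer_singleton_iff.2 ?_⟩, ?_⟩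
    · have h1 : g * z = z * g := mem_centralizer_singleton_iff.1 hg.2
      conv_lhs => rw [← (show φ a z = z from ha)]
      conv_rhs => rw [← (show φ a z = z from ha)]
      rw [← map_mul, ← map_mul, h1]
    · ext t
      simp [MulAut.conj_apply, MulAut.mul_apply, map_mul]
  -- the orbit of `V` is invariant
  set s : Set (Subgroup G) := {Qc | ∃ k ∈ K, k • cl V = Qc} with hs
  have hsC : ∀ a ∈ Az.map φ, ∀ y ∈ C, a • y ∈ C := by
    rintro _ ⟨a, ha, rfl⟩ _ ⟨W, xW, hm, rfl⟩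
    have hm' := hm.map (φ a) (hSinv a)
    rw [show φ a z = z from ha] at hm'
    exact ⟨_, _, hm', (hclmap _ (hSinv a) W).symm⟩
  have hsA : ∀ a ∈ Az.map φ, ∀ y ∈ s, a • y ∈ s := by
    intro a ha y hy
    obtain ⟨k, hk, rfl⟩ := hy
    obtain ⟨k', hk', e⟩ := fixes_orbit K (x₀ := cl V) (x₁ := cl W₁) C hcases (hnorm ha)
      (by
        obtain ⟨b, -, rfl⟩ := ha
        exact H.odd.of_dvd_nat ((orderOf_map_dvd φ b).trans (orderOf_dvd_natCard b)))
      (hsC a ha) ⟨V, x, h, rfl⟩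
    refine ⟨a * k * a⁻¹ * k', mul_mem ((mem_normalizer_iff.1 (hnorm ha) k).1 hk) hk', ?_⟩
    rw [mul_smul, e, mul_smul, inv_smul_smul, mul_smul]
  haveI : Fact (Nat.Prime 2) := ⟨Nat.prime_two⟩
  have hK2 : IsPGroup 2 K := (S.2.to_le inf_le_left).map _
  have hcop : (Nat.card (Az.map φ)).Coprime (Nat.card K) := by
    obtain ⟨n, hn⟩ := IsPGroup.iff_card.1 hK2
    rw [hn]
    refine Nat.Coprime.pow_right n (Nat.coprime_two_right.2 (H.odd.of_dvd_nat ?_))
    exact (Subgroup.card_map_dvd (H := Az) φ).trans (Subgroup.card_subgroup_dvd_card Az)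
  haveI := hK2.isNilpotent
  obtain ⟨Qs, hQs, hfix⟩ := Coprime.exists_fixed_point hnorm hcop (Or.inr inferInstance) s
    ⟨cl V, 1, one_mem _, one_smul _ _⟩ hsA
    (fun k hk y hy => by
      obtain ⟨k', hk', rfl⟩ := hy
      exact ⟨k * k', mul_mem hk hk', mul_smul _ _ _⟩)
    (fun y hy y' hy' => by
      obtain ⟨k, hk, rfl⟩ := hy
      obtain ⟨k', hk', rfl⟩ := hy'
      exact ⟨k' * k⁻¹, mul_mem hk' (inv_mem hk), by rw [mul_smul, inv_smul_smul]⟩)
  obtain ⟨_, ⟨g, ⟨hg, hgz⟩, rfl⟩, hQs⟩ := hQs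
  rw [hclmap _ (conj_map_self hg)] at hQs
  have hm₀ := h.conjz hg (mem_centralizer_singleton_iff.1 hgz)
  set V₀ := V.map (MulAut.conj g).toMonoidHom with hV₀
  set x₀ := g * x * g⁻¹
  -- the images
  have hmem : ∀ a : A, Mem (S : Subgroup G) (V₀.map (φ a).toMonoidHom) (φ a x₀) (φ a z) :=
    fun a => hm₀.map (φ a) (hSinv a)
  have hcomm : ∀ a b : A, V₀.map (φ b).toMonoidHom ≤
      centralizer ((V₀.map (φ a).toMonoidHom : Subgroup G) : Set G) := by
    intro a b
    obtain ⟨va, hva⟩ := (hmem a).exists_nc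
    obtain ⟨vb, hvb⟩ := (hmem b).exists_nc
    by_cases hz : φ a z = φ b z
    · have hc : a⁻¹ * b ∈ Az := by
        show φ (a⁻¹ * b) z = z
        rw [map_mul, MulAut.mul_apply, ← hz, ← MulAut.mul_apply, ← map_mul, inv_mul_cancel, map_one]
        rfl
      have e := hfix _ ⟨_, hc, rfl⟩
      rw [← hQs] at e
      have e2 : cl (V₀.map (φ b).toMonoidHom) = cl (V₀.map (φ a).toMonoidHom) := by
        rw [← hclmap _ (hSinv b), ← hclmap _ (hSinv a)]
        conv_rhs => rw [← e, ← mul_smul, ← map_mul, mul_inv_cancel_left]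
      exact fun t ht => (e2.le ((hmem b).vle ht)).2
    · refine (hmem a).le_cent (hmem b) hva hvb (by_contra fun hne => hz ?_)
      exact Mem.z_eq rfl (hmem a) (hmem b) hva hvb hne
  have hcompm : ∀ a b : A, (V₀.map (φ a).toMonoidHom).map (φ b).toMonoidHom =
      V₀.map (φ (b * a)).toMonoidHom := fun a b => by
    rw [map_map]; congr 1; ext t; simp [map_mul]
  set W := ⨆ a : A, V₀.map (φ a).toMonoidHom with hW
  have hV1 : V₀.map (φ 1).toMonoidHom = V₀ := by rw [map_one]; exact Subgroup.map_id V₀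
  have hVW : V₀ ≤ W := le_iSup_of_le (f := fun a : A => V₀.map (φ a).toMonoidHom) 1 hV1.ge
  have hWe : Cfsg.IsElementaryAbelian 2 W :=
    PLocal.elemAb_iSup _ (fun a => PLocal.elemAb_map _ hm₀.four.elemAb) fun a b => hcomm b a
  have hWinv : Inv φ W := inv_of_le fun c => by
    rw [hW, Subgroup.map_iSup]
    exact iSup_le fun a => (hcompm a c).le.trans (le_iSup (fun a : A => V₀.map (φ a).toMonoidHom) (c * a))
  have hWle : W ≤ (S : Subgroup G) ⊓ centralizer (V₀ : Set G) := iSup_le fun a => le_inf (hmem a).le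
    (le_trans (hcomm 1 a) (by rw [hV1]))
  have hWne : W ≠ ⊥ := fun e => hm₀.four.zne (mem_bot.1 (e.le (hVW hm₀.four.zmem)))
  have hx : x₀ ∈ normalizer (W : Set G) := Coprime.mem_normalizer_of_forall fun w hw => by
    rw [show x₀ * w * x₀⁻¹ = (x₀ * w * x₀⁻¹ * w⁻¹) * w by group]
    exact mul_mem (hVW (hm₀.blk.comm w (hWle hw))) hw
  have hc := H.centralizes (PLocal.elemAb_isPGroup hWe) hWne hWinv hx hm₀.blk.odd
  exact hm₀.four.zne (hm₀.blk.fpf z hm₀.four.zmem
    (mem_centralizer_iff.1 hc z (hVW hm₀.four.zmem)).symm)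

/-- The even case. -/
theorem false_of_hyp {φ : A →* MulAut G} {S : Sylow 2 G} (H : Hyp φ S) : False := by
  obtain ⟨D, P, t⟩ := exists_top H
  obtain ⟨V, x, z, ho⟩ := t.exists_orb H
  by_cases hle : jSub (S : Subgroup G) ≤ P
  · have hsub : ∀ B ∈ elemMax (S : Subgroup G), B ≤ P := fun B hB => (EvenNilp.le_jSub hB).trans hle
    obtain ⟨B₀, hB₀⟩ := PLocal.exists_maxIn (Q := PLocal.elemAb 2) PLocal.elemAb_bot (S : Subgroup G)
    have heq : jSub (S : Subgroup G) = jSub P := by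
      rw [jSub_eq, jSub_eq]
      exact le_antisymm (sSup_le_sSup fun B hB => PLocal.maxIn_of_mem_le hB (hsub B hB) t.le_S)
        (sSup_le_sSup (PLocal.maxIn_subset hB₀ (hsub B₀ hB₀) t.le_S))
    obtain ⟨zJ, hR⟩ := ho.rblk t.isPGroup
    refine false_of_invariant H ((PLocal.thompsonSubgroupOf_le P).trans t.le_S) (fun a => ?_) hR
    show (jSub P).map (φ a : G ≃* G).toMonoidHom = jSub P
    rw [← heq]
    exact (isCh_jSub _).map_eq (φ a) (H.inv a)
  · have c : CB φ S D P V x z := ⟨H, t, ho, hle⟩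
    obtain ⟨z', hm⟩ := c.exists_mem
    exact false_of_mem H hm

end Cfsg.Agent.EvenNilp
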