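import Cfsg.Agent.Lib.EvenNilp.CaseB

/-!
# Counting in `S₂ = N_S(J(P))` (helper46)

* `CB.all_fix`: every member of largest order fixes the involutions of the conjugates of `V`
* `CB.fix_max`, `CB.fix_priv`: the equality case
-/

set_option autoImplicit false
set_option linter.unusedSectionVars false
set_option linter.style.haveILetI false

namespace Cfsg.Agent.EvenNilp

open Subgroup CoprimeNilMax
open scoped Pointwise

universe u v

variable {A : Type v} [Group A] [Finite A] {G : Type u} [Group G] [Finite G]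

theorem relIndex_famSup_le (g : Subgroup G → Subgroup G) (F : Finset (Subgroup G)) (B : Subgroup G) :
    (centralizer (famSup g F : Set G)).relIndex B ≤ ∏ U ∈ F, (centralizer (g U : Set G)).relIndex B := by
  classical
  induction F using Finset.induction with
  | empty =>
    have : centralizer ({1} : Set G) = ⊤ := top_le_iff.1 fun g _ =>
      mem_centralizer_singleton_iff.2 (by rw [one_mul, mul_one])
    simp [famSup, this]
  | @insert U s hnot ih =>
    rw [show famSup g (insert U s) = g U ⊔ famSup g s from Finset.sup_insert, PLocal.centralizer_sup,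
      Finset.prod_insert hnot]
    exact relIndex_inf_le.trans (Nat.mul_le_mul_left _ ih)

theorem relIndex_inf_finset_le {ι : Type*} [DecidableEq ι] (K : ι → Subgroup G) (s : Finset ι)
    (B : Subgroup G) : (s.inf K).relIndex B ≤ ∏ i ∈ s, (K i).relIndex B := by
  induction s using Finset.induction with
  | empty => simp
  | @insert i s hnot ih =>
    rw [Finset.inf_insert, Finset.prod_insert hnot]
    exact relIndex_inf_le.trans (Nat.mul_le_mul_left _ ih)

theorem relIndex_le_of_inf_le {H K B : Subgroup G} (h : B ⊓ H ≤ K) : K.relIndex B ≤ H.relIndex B := by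
  rw [← inf_relIndex_left B K, ← inf_relIndex_left B H]
  exact Nat.le_of_dvd (Nat.pos_of_ne_zero index_ne_zero_of_finite)
    (relIndex_dvd_of_le_left B (le_inf inf_le_left h))

theorem famSup_erase [DecidableEq (Subgroup G)] {F : Finset (Subgroup G)} {U : Subgroup G} (hU : U ∈ F) :
    famSup id F = U ⊔ famSup id (F.erase U) := by
  conv_lhs => rw [← Finset.insert_erase hU]
  exact Finset.sup_insert

namespace CB

variable {φ : A →* MulAut G} {S : Sylow 2 G} {D P V : Subgroup G} {x z : G} (c : CB φ S D P V x z)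
include c

/-- An orbit on the involutions has at most two elements. -/
theorem orbit_pair {B : Subgroup G} (hB : B ∈ elemMax c.S2) {t : G} (ht : t ∈ zSet (jSub P)) {y : G}
    (hy : y ∈ B) (hyt : y * t ≠ t * y) :
    (∀ a ∈ B, a * t * a⁻¹ = t ∨ a * t * a⁻¹ = y * t * y⁻¹) ∧
      (B ⊓ centralizer ({t} : Set G)) ⊔ Subgroup.closure ({t, y * t * y⁻¹} : Set G) ∈ elemMax c.S2 := by
  classical
  set R := jSub P with hR
  set O : Finset G := (Set.toFinite ((fun a : G => a * t * a⁻¹) '' (B : Set G))).toFinset with hO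
  have hmemO : ∀ s, s ∈ O ↔ ∃ a ∈ B, a * t * a⁻¹ = s := fun s => by simp [hO, Set.mem_image]
  have hOz : ∀ s ∈ O, s ∈ zSet R := fun s hs => by
    obtain ⟨a, ha, rfl⟩ := (hmemO s).1 hs
    obtain ⟨U, hU, rfl⟩ := ht
    exact ⟨cj a U, c.mr_cj hU (hB.1 ha), c.zR_cj hU (hB.1 ha)⟩
  have htO : t ∈ O := (hmemO t).2 ⟨1, one_mem _, by group⟩
  have hne : y * t * y⁻¹ ≠ t := fun e => hyt (mul_inv_eq_iff_eq_mul.1 e)
  set Z := Subgroup.closure (O : Set G) with hZ
  have hZS : Z ≤ c.S2 := (zClosure_le hOz).trans c.R_le_S2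
  have hcent : ∀ s ∈ O, ∀ b ∈ B, b * t = t * b → b * s = s * b := fun s hs b hb hbt => by
    obtain ⟨a, ha, rfl⟩ := (hmemO s).1 hs
    have hab : Commute b a := PLocal.elemAb_comm hB.2.1 hb ha
    exact ((hab.mul_right hbt).mul_right hab.inv_right).eq
  have hCZ : B ⊓ centralizer ({t} : Set G) = B ⊓ centralizer (Z : Set G) := by
    refine le_antisymm (le_inf inf_le_left ?_) (inf_le_inf_left B (centralizer_le
      (Set.singleton_subset_iff.2 (show t ∈ (Z : Set G) from subset_closure htO))))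
    intro b hb
    refine mem_centralizer_iff.2 fun u hu => ?_
    have hle : Z ≤ centralizer ({b} : Set G) := by
      rw [hZ, Subgroup.closure_le]
      exact fun s hs => mem_centralizer_singleton_iff.2
        (hcent s hs b hb.1 (mem_centralizer_singleton_iff.1 hb.2)).symm
    exact mem_centralizer_singleton_iff.1 (hle hu)
  have hindex : (centralizer ({t} : Set G)).relIndex B = O.card := by
    letI : MulAction ↥B G := MulAction.compHom G ((MulAut.conj : G →* MulAut G).comp B.subtype)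
    have hst : MulAction.stabilizer ↥B t = (centralizer ({t} : Set G)).subgroupOf B := by
      ext a
      rw [MulAction.mem_stabilizer_iff, Subgroup.mem_subgroupOf, mem_centralizer_singleton_iff]
      exact mul_inv_eq_iff_eq_mul
    have horb : MulAction.orbit ↥B t = (O : Set G) := by
      ext s
      rw [Finset.mem_coe, hmemO]
      exact ⟨fun ⟨a, ha⟩ => ⟨a, a.2, ha⟩, fun ⟨a, ha, e⟩ => ⟨⟨a, ha⟩, e⟩⟩
    rw [relIndex, ← hst, MulAction.index_stabilizer, horb, Set.ncard_coe_finset]
  have hrel : (centralizer (Z : Set G)).relIndex B = O.card := by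
    rw [← hindex, ← inf_relIndex_left B (centralizer (Z : Set G)), ← hCZ, inf_relIndex_left]
  -- `|Z ∩ B| ≤ 2`
  have hdisj : (Z ⊓ B) ⊓ Subgroup.closure ((O.erase t : Finset G) : Set G) = ⊥ := by
    refine (eq_bot_iff_forall _).2 fun u hu => eq_one_of_forall_erase hOz hu.1.1 fun s hs => ?_
    obtain ⟨a, ha, rfl⟩ := (hmemO s).1 hs
    have hle : (Subgroup.closure ((O.erase t : Finset G) : Set G)).map (MulAut.conj a).toMonoidHom ≤
        Subgroup.closure ((O.erase (a * t * a⁻¹) : Finset G) : Set G) := by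
      rw [MonoidHom.map_closure]
      refine Subgroup.closure_mono ?_
      rintro _ ⟨s', hs', rfl⟩
      obtain ⟨hne', hs'O⟩ := Finset.mem_erase.1 hs'
      obtain ⟨b, hb, rfl⟩ := (hmemO s').1 hs'O
      refine Finset.mem_erase.2 ⟨fun e => hne' (by simpa using e), (hmemO _).2 ⟨a * b, B.mul_mem ha hb, ?_⟩⟩
      show a * b * t * (a * b)⁻¹ = a * (b * t * b⁻¹) * a⁻¹
      group
    have hau : a * u * a⁻¹ = u := by rw [PLocal.elemAb_comm hB.2.1 ha hu.1.2, mul_inv_cancel_right]
    exact hau ▸ hle ⟨u, hu.2, rfl⟩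
  have hX : Nat.card ↥(Z ⊓ B) ≤ 2 := by
    have h1 : Nat.card ↥(Z ⊓ B) * Nat.card ↥(Subgroup.closure ((O.erase t : Finset G) : Set G)) ≤ Nat.card Z := by
      refine (PLocal.card_mul_card_le _ _).trans ?_
      rw [hdisj, Subgroup.card_bot, mul_one]
      exact Subgroup.card_le_of_le (sup_le inf_le_left
        (Subgroup.closure_mono (Finset.coe_subset.2 (Finset.erase_subset t O))))
    rw [zClosure_card fun s hs => hOz s (Finset.mem_of_mem_erase hs), zClosure_card hOz,
      Finset.card_erase_of_mem htO] at h1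
    refine Nat.le_of_mul_le_mul_right (h1.trans (le_of_eq ?_)) (pow_pos two_pos _)
    rw [← pow_succ', Nat.sub_add_cancel (Finset.card_pos.2 ⟨t, htO⟩)]
  obtain ⟨hineq, hmem⟩ := exchange hB (zClosure_elemAb hOz) hZS
  rw [hrel, zClosure_card hOz] at hineq hmem
  have hM : O.card ≤ 2 := by
    by_contra h3
    have key : ∀ n : ℕ, 3 ≤ n → n * 2 < 2 ^ n := fun n hn => by
      induction n, hn using Nat.le_induction with
      | base => norm_num
      | succ m _ ih => rw [pow_succ]; omega
    have := key O.card (by omega)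
    exact absurd (hineq.trans (Nat.mul_le_mul_left _ hX)) (not_le.2 this)
  have hyO : y * t * y⁻¹ ∈ O := (hmemO _).2 ⟨y, hy, rfl⟩
  have hOeq : O = {t, y * t * y⁻¹} := by
    refine (Finset.eq_of_subset_of_card_le (Finset.insert_subset htO (Finset.singleton_subset_iff.2 hyO)) ?_).symm
    rw [Finset.card_pair hne.symm]; exact hM
  refine ⟨fun a ha => ?_, ?_⟩
  · have : a * t * a⁻¹ ∈ O := (hmemO _).2 ⟨a, ha, rfl⟩
    rw [hOeq] at this
    simpa using this
  · have hc2 : O.card = 2 := by rw [hOeq, Finset.card_pair hne.symm]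
    rw [hZ] at hX
    have := hmem (by rw [hc2]; omega)
    rw [← hCZ, hOeq] at this
    simpa using this

theorem rel_fix_le_two {B : Subgroup G} (hB : B ∈ elemMax c.S2) {t : G} (ht : t ∈ zSet (jSub P)) :
    (centralizer ({t} : Set G)).relIndex B ≤ 2 := by
  by_cases h : B ≤ centralizer ({t} : Set G)
  · rw [relIndex_eq_one.2 h]; norm_num
  obtain ⟨y, hy, hyt⟩ := SetLike.not_le_iff_exists.1 h
  rw [mem_centralizer_singleton_iff] at hyt
  obtain ⟨horb, -⟩ := c.orbit_pair hB ht hy hyt
  refine le_of_eq (index_eq_two_iff.2 ⟨⟨y, hy⟩, fun b => ?_⟩)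
  simp only [Subgroup.mem_subgroupOf, Subgroup.coe_mul, mem_centralizer_singleton_iff]
  by_cases hb : (b : G) * t = t * b
  · refine Or.inr ⟨hb, fun h => hyt ?_⟩
    have := (show Commute (b : G) t from hb).inv_left.mul_left (show Commute ((b : G) * y) t from h)
    rwa [inv_mul_cancel_left] at this
  · refine Or.inl ⟨?_, hb⟩
    have e := (horb b b.2).resolve_left fun e => hb (mul_inv_eq_iff_eq_mul.1 e)
    have hby : (b : G) * y = y * b := PLocal.elemAb_comm hB.2.1 b.2 hy
    have hyy : y * y = 1 := by rw [← pow_two]; exact hB.2.1.2 y hy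
    refine mul_inv_eq_iff_eq_mul.1 ?_
    calc (b : G) * y * t * ((b : G) * y)⁻¹ = (b * y) * t * (b * y)⁻¹ := rfl
      _ = (y * b) * t * (y * b)⁻¹ := by rw [hby]
      _ = y * (b * t * (b : G)⁻¹) * y⁻¹ := by group
      _ = (y * y) * t * (y * y)⁻¹ := by rw [e]; group
      _ = t := by rw [hyy]; group

/-- Two moved involutions in different orbits. -/
theorem exists_separating {B : Subgroup G} (hB : B ∈ elemMax c.S2) {t t' : G} (ht : t ∈ zSet (jSub P))
    (ht' : t' ∈ zSet (jSub P)) {y y' : G} (hy : y ∈ B) (hyt : y * t ≠ t * y) (hy' : y' ∈ B)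
    (hyt' : y' * t' ≠ t' * y') (h1 : t' ≠ t) (h2 : t' ≠ y * t * y⁻¹) :
    ∃ a ∈ B, a * t' = t' * a ∧ a * t ≠ t * a := by
  classical
  by_contra hcon
  push Not at hcon
  obtain ⟨ho, -⟩ := c.orbit_pair hB ht hy hyt
  obtain ⟨ho', -⟩ := c.orbit_pair hB ht' hy' hyt'
  -- the two stabilisers are equal
  have hsame : ∀ a ∈ B, a * t = t * a → a * t' = t' * a := fun a ha hat => by
    by_contra hne
    have hne2 : y * t' ≠ t' * y := fun e => hyt (hcon y hy e)
    have hy2 : y * y = 1 := by rw [← pow_two]; exact hB.2.1.2 y hy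
    have hya : (y * a) * t' = t' * (y * a) := by
      refine mul_inv_eq_iff_eq_mul.1 ?_
      have e1 := (ho' a ha).resolve_left fun e => hne (mul_inv_eq_iff_eq_mul.1 e)
      have e2 := (ho' y hy).resolve_left fun e => hne2 (mul_inv_eq_iff_eq_mul.1 e)
      calc y * a * t' * (y * a)⁻¹ = y * (a * t' * a⁻¹) * y⁻¹ := by group
        _ = y * (y * t' * y⁻¹) * y⁻¹ := by rw [e1, ← e2]
        _ = (y * y) * t' * (y * y)⁻¹ := by group
        _ = t' := by rw [hy2]; group
    refine hyt ?_
    have := (show Commute (y * a) t from hcon _ (B.mul_mem hy ha) hya).mul_left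
      (show Commute a t from hat).inv_left
    rwa [mul_inv_cancel_right] at this
  set t2 := y * t * y⁻¹ with ht2
  set t4 := y * t' * y⁻¹ with ht4
  have hne2 : y * t' ≠ t' * y := fun e => hyt (hcon y hy e)
  have hz : ∀ s ∈ ({t, t2, t', t4} : Finset G), s ∈ zSet (jSub P) := by
    intro s hs
    simp only [Finset.mem_insert, Finset.mem_singleton] at hs
    have hcjz : ∀ r, r ∈ zSet (jSub P) → y * r * y⁻¹ ∈ zSet (jSub P) := by
      rintro _ ⟨U, hU, rfl⟩
      exact ⟨cj y U, c.mr_cj hU (hB.1 hy), c.zR_cj hU (hB.1 hy)⟩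
    rcases hs with rfl | rfl | rfl | rfl
    · exact ht
    · exact hcjz t ht
    · exact ht'
    · exact hcjz t' ht'
  set T : Finset G := {t, t2, t', t4} with hT
  have hy2 : y * y = 1 := by rw [← pow_two]; exact hB.2.1.2 y hy
  have hinv : y⁻¹ = y := inv_eq_of_mul_eq_one_right hy2
  have n12 : t ≠ t2 := fun e => hyt (mul_inv_eq_iff_eq_mul.1 (ht2 ▸ e.symm))
  have n14 : t ≠ t4 := fun e => h2 (by
    rw [ht2, e, ht4, hinv, show y * (y * t' * y) * y = (y * y) * t' * (y * y) by group, hy2, one_mul, mul_one])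
  have n34 : t' ≠ t4 := fun e => hne2 (mul_inv_eq_iff_eq_mul.1 (ht4 ▸ e.symm))
  have n24 : t2 ≠ t4 := fun e => h1 (by
    rw [ht2, ht4] at e
    exact (mul_left_cancel (mul_right_cancel e)).symm)
  have hT4 : T.card = 4 := by
    simp [hT, Finset.card_insert_of_notMem, n12, h1.symm, n14, h2.symm, n24, n34]
  set Z := Subgroup.closure (T : Set G)
  obtain ⟨hineq, -⟩ := exchange hB (zClosure_elemAb hz) ((zClosure_le hz).trans c.R_le_S2)
  have hrel : (centralizer (Z : Set G)).relIndex B ≤ 2 := by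
    refine le_trans (relIndex_le_of_inf_le (fun b hb => ?_)) (c.rel_fix_le_two hB ht)
    have hbt : b * t = t * b := mem_centralizer_singleton_iff.1 hb.2
    have hbt' := hsame b hb.1 hbt
    have hby : Commute b y := PLocal.elemAb_comm hB.2.1 hb.1 hy
    refine mem_centralizer_iff.2 fun u hu => ?_
    have hle : Z ≤ centralizer ({b} : Set G) := by
      rw [Subgroup.closure_le]
      intro s hs
      simp only [hT, Finset.coe_insert, Finset.coe_singleton, Set.mem_insert_iff, Set.mem_singleton_iff] at hs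
      refine mem_centralizer_singleton_iff.2 ?_
      rcases hs with rfl | rfl | rfl | rfl
      · exact hbt.symm
      · exact ((hby.mul_right (show Commute b t from hbt)).mul_right hby.inv_right).eq.symm
      · exact hbt'.symm
      · exact ((hby.mul_right (show Commute b t' from hbt')).mul_right hby.inv_right).eq.symm
    exact mem_centralizer_singleton_iff.1 (hle hu)
  set T0 : Finset G := {t, t'} with hT0
  have hz0 : ∀ s ∈ T0, s ∈ zSet (jSub P) := fun s hs => hz s (by
    simp only [hT0, Finset.mem_insert, Finset.mem_singleton] at hs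
    rcases hs with rfl | rfl <;> simp [hT])
  have hdisj : (Z ⊓ B) ⊓ Subgroup.closure (T0 : Set G) = ⊥ := by
    refine (eq_bot_iff_forall _).2 fun u hu => eq_one_of_forall_erase hz hu.1.1 fun s hs => ?_
    have hmapped : u ∈ Subgroup.closure (({t2, t4} : Finset G) : Set G) := by
      have hle : (Subgroup.closure (T0 : Set G)).map (MulAut.conj y).toMonoidHom ≤
          Subgroup.closure (({t2, t4} : Finset G) : Set G) := by
        rw [MonoidHom.map_closure]
        refine Subgroup.closure_mono ?_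
        rintro _ ⟨r, hr, rfl⟩
        simp only [hT0, Finset.coe_insert, Finset.coe_singleton, Set.mem_insert_iff, Set.mem_singleton_iff] at hr
        rcases hr with rfl | rfl <;> simp [t2, t4]
      have hyu : y * u * y⁻¹ = u := by rw [PLocal.elemAb_comm hB.2.1 hy hu.1.2, mul_inv_cancel_right]
      exact hyu ▸ hle ⟨u, hu.2, rfl⟩
    simp only [hT, Finset.mem_insert, Finset.mem_singleton] at hs
    rcases hs with rfl | rfl | rfl | rfl
    · refine Subgroup.closure_mono (Finset.coe_subset.2 ?_) hmapped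
      intro r hr; simp only [Finset.mem_insert, Finset.mem_singleton] at hr
      rcases hr with rfl | rfl <;> simp [hT, n12.symm, n14.symm]
    · refine Subgroup.closure_mono (Finset.coe_subset.2 ?_) hu.2
      intro r hr; simp only [hT0, Finset.mem_insert, Finset.mem_singleton] at hr
      rcases hr with rfl | rfl <;> simp [hT, n12, h2]
    · refine Subgroup.closure_mono (Finset.coe_subset.2 ?_) hmapped
      intro r hr; simp only [Finset.mem_insert, Finset.mem_singleton] at hr
      rcases hr with rfl | rfl <;> simp [hT, h2.symm, n34.symm]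
    · refine Subgroup.closure_mono (Finset.coe_subset.2 ?_) hu.2
      intro r hr; simp only [hT0, Finset.mem_insert, Finset.mem_singleton] at hr
      rcases hr with rfl | rfl <;> simp [hT, n14, n34]
  have h16 : Nat.card ↥(Z ⊓ B) * 4 ≤ 16 := by
    have h0 : Nat.card ↥(Subgroup.closure (T0 : Set G)) = 4 := by
      rw [zClosure_card hz0, hT0, Finset.card_pair h1.symm]; norm_num
    have h4 := PLocal.card_mul_card_le (Z ⊓ B) (Subgroup.closure (T0 : Set G))
    rw [hdisj, Subgroup.card_bot, mul_one, h0] at h4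
    refine h4.trans ((Subgroup.card_le_of_le (sup_le inf_le_left (Subgroup.closure_mono (Finset.coe_subset.2 ?_)))).trans ?_)
    · intro r hr; simp only [hT0, Finset.mem_insert, Finset.mem_singleton] at hr
      rcases hr with rfl | rfl <;> simp [hT]
    · rw [zClosure_card hz, hT4]; norm_num
  rw [zClosure_card hz, hT4] at hineq
  exact absurd (hineq.trans (Nat.mul_le_mul hrel (show Nat.card ↥(Z ⊓ B) ≤ 4 by omega))) (by norm_num)

/-- The stabiliser of a class. -/
def clsStab {U : Subgroup G} (c : CB φ S D P V x z) (hU : MR (jSub P) U) : Subgroup G where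
  carrier := {a | a ∈ c.S2 ∧ cls (jSub P) (cj a U) = cls (jSub P) U}
  one_mem' := ⟨one_mem _, by rw [cj_one]⟩
  mul_mem' := fun {a b} ha hb => ⟨mul_mem ha.1 hb.1, by
    rw [cj_mul, c.cls_cj (c.mr_cj hU hb.1) hU hb.2 ha.1, ha.2]⟩
  inv_mem' := fun {a} ha => ⟨inv_mem ha.1, by
    have h := c.cls_cj (c.mr_cj hU ha.1) hU ha.2 (inv_mem ha.1)
    rw [← cj_mul, inv_mul_cancel, cj_one] at h
    exact h.symm⟩

/-- The stabiliser of a class has index at most two among elements fixing the involution. -/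
theorem clsStab_rel {U : Subgroup G} (hU : MR (jSub P) U) {B : Subgroup G} (hB : B ≤ c.S2)
    (hfix : ∀ a ∈ B, a * zR (jSub P) U = zR (jSub P) U * a) :
    (c.clsStab hU).relIndex B ≤ 2 := by
  by_cases h : B ≤ c.clsStab hU
  · rw [relIndex_eq_one.2 h]; norm_num
  obtain ⟨a, ha, haK⟩ := SetLike.not_le_iff_exists.1 h
  refine le_of_eq (index_eq_two_iff.2 ⟨⟨a, ha⟩, fun b => ?_⟩)
  simp only [Subgroup.mem_subgroupOf, Subgroup.coe_mul]
  by_cases hb : (b : G) ∈ c.clsStab hU
  · exact Or.inr ⟨hb, fun h => haK ((Subgroup.mul_mem_cancel_left _ hb).1 h)⟩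
  refine Or.inl ⟨⟨mul_mem (hB b.2) (hB ha), ?_⟩, hb⟩
  have hz : ∀ g ∈ B, zR (jSub P) (cj g U) = zR (jSub P) U := fun g hg => by
    rw [c.zR_cj hU (hB hg), hfix g hg, mul_inv_cancel_right]
  rcases hU.two_values (c.mr_cj hU (hB b.2)) (c.mr_cj hU (hB (B.mul_mem b.2 ha))) (hz b b.2).symm
    (hz _ (B.mul_mem b.2 ha)).symm with q | q | q
  · exact absurd (show (b : G) ∈ c.clsStab hU from ⟨hB b.2, q.symm⟩) hb
  · exact q.symm
  · refine absurd (show a ∈ c.clsStab hU from ⟨hB ha, ?_⟩) haK
    rw [cj_mul] at q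
    exact (hU.cls_map_inj (c.mr_cj hU (hB ha)) _ (c.fixR (hB b.2)) q).symm

theorem cj_sib_eq {U : Subgroup G} (hU : Sib P V U) {b : G} (hb : b ∈ P)
    (hfix : b * zR (jSub P) U = zR (jSub P) U * b) : b ∈ normalizer (U : Set G) := by
  have hbS := c.P_le_S2 hb
  exact mem_normalizer_iff_map_conj_eq.2 (c.sib_z_inj (hU.conj hb) hU
    (by show zR (jSub P) (cj b U) = _; rw [c.zR_cj (c.sib_mr hU) hbS, hfix, mul_inv_cancel_right]))

/-- An element of `P` commuting with a flip of the class of `U` centralises `U`. -/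
theorem cent_of_flip {B : Subgroup G} (hB : B ∈ elemMax c.S2) {U : Subgroup G} (hU : Sib P V U) {y b : G}
    (hy : y ∈ B) (hyz : y * zR (jSub P) U = zR (jSub P) U * y)
    (hflip : cls (jSub P) (cj y U) ≠ cls (jSub P) U) (hb : b ∈ B) (hbP : b ∈ P)
    (hbz : b * zR (jSub P) U = zR (jSub P) U * b) : b ∈ centralizer (U : Set G) := by
  set R := jSub P with hR
  by_contra hbC
  have hm := c.sib_mr hU
  have hyS := hB.1 hy
  have hU' := c.mr_cj hm hyS
  set zU := zR R U
  have hz' : zR R (cj y U) = zU := by rw [c.zR_cj hm hyS, hyz, mul_inv_cancel_right]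
  obtain ⟨v', hv', hn, hv1, hvz⟩ := hm.choose_spec.exists_noncomm hU'.choose_spec
    (fun e => hflip (Prod.ext hz' e.symm)) hz'.symm
  obtain ⟨v, hv, rfl⟩ := hv'
  have hbN := c.cj_sib_eq hU hbP hbz
  have hv1' : v ≠ 1 := fun e => hv1 (by rw [e, map_one])
  have hvz' : v ≠ zU := fun e => hvz (by
    rw [e]; show y * zU * y⁻¹ = zU
    rw [hyz, mul_inv_cancel_right])
  have e1 : b * v * b⁻¹ = v * zU := hm.four.conj_eq_mul hbN hbz hbC hv hv1' hvz'
  set v' := y * v * y⁻¹ with hv'def
  have hv'R : v' ∈ R := hU'.le ⟨v, hv, rfl⟩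
  have hyb : b * y = y * b := PLocal.elemAb_comm hB.2.1 hb hy
  have e2 : b * v' * b⁻¹ = v' * zU := by
    calc b * v' * b⁻¹ = (b * y) * v * (b * y)⁻¹ := by rw [hv'def]; group
      _ = y * (b * v * b⁻¹) * y⁻¹ := by rw [hyb]; group
      _ = v' * (y * zU * y⁻¹) := by rw [e1, hv'def]; group
      _ = v' * zU := by rw [hyz, mul_inv_cancel_right]
  have hw : b * v' ∈ P ⊓ centralizer (U : Set G) := ⟨P.mul_mem hbP (c.R_le_P hv'R),
    hm.four.mul_mem_centralizer hbN hbz hbC (hm.norm hv'R) (hm.zc v' hv'R) hn⟩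
  have hsq : b * v' * (b * v') = zU := by
    have hv2 : v' * v' = 1 := hU'.four.sq v' ⟨v, hv, rfl⟩
    calc b * v' * (b * v') = (b * v' * b⁻¹) * (b * b) * v' := by group
      _ = v' * zU * v' := by rw [e2, ← pow_two, hB.2.1.2 b hb, mul_one]
      _ = v' * (v' * zU) := by rw [mul_assoc, hm.zc v' hv'R]
      _ = zU := by rw [← mul_assoc, hv2, one_mul]
  obtain ⟨xU, zU', ho⟩ := hU.orb c.orb
  have h0 := ho.blk.sq_eq_one hw (by rw [hsq]; exact hm.z_mem)
  rw [hsq] at h0
  exact hm.four.zne h0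

/-- A component is forced into `⟨z⟩` by a fixing element. -/
theorem comp_fixed {B : Subgroup G} (hB : B ∈ elemMax c.S2) {F : Finset (Subgroup G)}
    [DecidableEq (Subgroup G)] (hF : Fam (jSub P) F) {U : Subgroup G} (hU : U ∈ F) {b : G} (hb : b ∈ B)
    (hN : ∀ U' ∈ F, b ∈ normalizer (U' : Set G)) (hbz : b * zR (jSub P) U = zR (jSub P) U * b)
    (hbC : b ∉ centralizer (U : Set G)) {u : G} (hu : u ∈ famSup id F) (huB : u ∈ B) :
    u ∈ zpowers (zR (jSub P) U) ⊔ famSup id (F.erase U) := by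
  have hm := hF.mr U hU
  have hrest : famSup id (F.erase U) ≤ centralizer (U : Set G) :=
    Finset.sup_le fun U' hU' => hF.comm hU (Finset.mem_of_mem_erase hU')
  rw [famSup_erase hU,
    Coprime.mem_sup_iff (hrest.trans (centralizer_le_normalizer _))] at hu
  obtain ⟨v, hv, w, hw, rfl⟩ := hu
  have hbv := (mem_normalizer_iff.1 (hN U hU) v).1 hv
  have hbw : b * w * b⁻¹ ∈ famSup id (F.erase U) := by
    have hle : famSup id (F.erase U) ≤ (famSup id (F.erase U)).comap (MulAut.conj b).toMonoidHom :=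
      Finset.sup_le fun U' hU' t ht => Finset.le_sup (f := id) hU'
        ((mem_normalizer_iff.1 (hN U' (Finset.mem_of_mem_erase hU')) t).1 ht)
    exact hle hw
  have he : b * v * b⁻¹ * (b * w * b⁻¹) = v * w := by
    rw [show b * v * b⁻¹ * (b * w * b⁻¹) = b * (v * w) * b⁻¹ by group,
      PLocal.elemAb_comm hB.2.1 hb huB, mul_inv_cancel_right]
  have hd : v⁻¹ * (b * v * b⁻¹) ∈ U ⊓ famSup id (F.erase U) := by
    refine ⟨U.mul_mem (inv_mem hv) hbv, ?_⟩
    have h2 : v⁻¹ * (b * v * b⁻¹) = w * (b * w * b⁻¹)⁻¹ := by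
      rw [eq_mul_inv_iff_mul_eq, mul_assoc, he, inv_mul_cancel_left]
    rw [h2]; exact (famSup id (F.erase U)).mul_mem hw ((famSup id (F.erase U)).inv_mem hbw)
  rw [(hF.mono (Finset.erase_subset U F)).disjoint hm fun U' hU' e =>
    (Finset.mem_erase.1 hU').1 (hF.inj U hU U' (Finset.mem_of_mem_erase hU') e).symm,
    mem_bot, inv_mul_eq_one] at hd
  refine mul_mem (mem_sup_left ?_) (mem_sup_right hw)
  by_contra hne
  exact hbC (hm.four.centralizes_of_fix hbz hv (fun e => hne (e ▸ one_mem _))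
    (fun e => hne (e ▸ mem_zpowers _)) (mul_inv_eq_iff_eq_mul.1 hd.symm))

/-- A component is forced into `⟨z⟩` by a flip. -/
theorem comp_flip {B : Subgroup G} (hB : B ∈ elemMax c.S2) {F : Finset (Subgroup G)}
    [DecidableEq (Subgroup G)] (hF : Fam (jSub P) F) {U : Subgroup G} (hU : U ∈ F) {y : G} (hy : y ∈ B)
    (hyz : y * zR (jSub P) U = zR (jSub P) U * y)
    (hflip : cls (jSub P) (cj y U) ≠ cls (jSub P) U) {u : G} (hu : u ∈ famSup id F) (huB : u ∈ B) :
    u ∈ zpowers (zR (jSub P) U) ⊔ famSup id (F.erase U) := by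
  set R := jSub P with hR
  have hm := hF.mr U hU
  have hyS := hB.1 hy
  have hU' := c.mr_cj hm hyS
  have hz' : zR R (cj y U) = zR R U := by rw [c.zR_cj hm hyS, hyz, mul_inv_cancel_right]
  have huU : u ∈ centralizer (cj y U : Set G) := by
    refine mem_centralizer_iff.2 ?_
    rintro _ ⟨t, ht, rfl⟩
    show y * t * y⁻¹ * u = u * (y * t * y⁻¹)
    have h1 : Commute t u := mem_centralizer_iff.1 (hF.sup_le_cent hU hu) t ht
    have h2 : Commute y u := PLocal.elemAb_comm hB.2.1 hy huB
    exact ((h2.mul_left h1).mul_left h2.inv_left).eq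
  have hrest : famSup id (F.erase U) ≤ centralizer (U : Set G) :=
    Finset.sup_le fun U' hU'' => hF.comm hU (Finset.mem_of_mem_erase hU'')
  have hrest' : famSup id (F.erase U) ≤ centralizer (cj y U : Set G) :=
    Finset.sup_le fun U' hU'' => hU'.commute_of_ne (hF.mr U' (Finset.mem_of_mem_erase hU''))
      fun e => (Finset.mem_erase.1 hU'').1 (hF.inj U hU U' (Finset.mem_of_mem_erase hU'') (hz'.symm.trans e)).symm
  rw [famSup_erase hU,
    Coprime.mem_sup_iff (hrest.trans (centralizer_le_normalizer _))] at hu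
  obtain ⟨v, hv, w, hw, rfl⟩ := hu
  have hvU : v ∈ centralizer (cj y U : Set G) := (Subgroup.mul_mem_cancel_right _ (hrest' hw)).1 huU
  refine mul_mem (mem_sup_left ?_) (mem_sup_right hw)
  by_contra hne
  refine hflip (hm.cls_eq hU' hz'.symm (le_centralizer_iff.1 (hm.four.eq_of_two hv (fun e => hne (e ▸ one_mem _))
    (fun e => hne (e ▸ mem_zpowers _)) hvU ?_))).symm
  exact mem_centralizer_iff.2 fun t ht => hm.zc t (hU'.le ht)

/-- The conjugates of `V`. -/
noncomputable def sibs (_c : CB φ S D P V x z) : Finset (Subgroup G) :=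
  (Set.toFinite {U | Sib P V U}).toFinset

theorem mem_sibs {U : Subgroup G} : U ∈ c.sibs ↔ Sib P V U := by simp [sibs]

theorem sibs_fam : Fam (jSub P) c.sibs :=
  ⟨fun _ hU => c.sib_mr (c.mem_sibs.1 hU), fun _ hU _ hU' e => c.sib_z_inj (c.mem_sibs.1 hU) (c.mem_sibs.1 hU') e⟩

/-- `B` fixes all the involutions of the conjugates of `V`. -/
def FixZ (_c : CB φ S D P V x z) (B : Subgroup G) : Prop :=
  ∀ U, Sib P V U → ∀ a ∈ B, a * zR (jSub P) U = zR (jSub P) U * a

theorem mem_P_of_fix {a : G} (ha : a ∈ c.S2)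
    (h : ∀ U, Sib P V U → cls (jSub P) (cj a U) = cls (jSub P) U) : a ∈ P :=
  c.mem_P_of_perm ha fun U hU => ⟨U, hU, h U hU⟩

/-- The equality case. -/
theorem fix_data {B : Subgroup G} (hB : B ∈ elemMax c.S2) (hfix : c.FixZ B) :
    (B ⊓ centralizer (famSup id c.sibs : Set G)) ⊔ famSup id c.sibs ∈ elemMax c.S2 ∧
      ∀ U, Sib P V U → (∃ a ∈ B, cls (jSub P) (cj a U) ≠ cls (jSub P) U) →
        ∃ a ∈ B, cls (jSub P) (cj a U) ≠ cls (jSub P) U ∧
          ∀ U', Sib P V U' → U' ≠ U → cls (jSub P) (cj a U') = cls (jSub P) U' := by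
  classical
  set R := jSub P with hR
  set F := c.sibs
  have hF := c.sibs_fam
  let Fl : Subgroup G → Prop := fun U => ∃ a ∈ B, cls R (cj a U) ≠ cls R U
  let Mv : Subgroup G → Prop := fun U => ¬ B ⊓ P ≤ centralizer (U : Set G)
  let g : Subgroup G → Subgroup G := fun U => if Fl U ∨ Mv U then zpowers (zR R U) else U
  have hg : ∀ U ∈ F, g U ≤ U := fun U hU => by
    simp only [g]; split_ifs
    · exact zpowers_le.2 (hF.mr U hU).z_mem
    · exact le_rfl
  have hsub : famSup id F ⊓ B ≤ famSup g F := fun u hu => by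
    refine hF.mem_famSup g hg hu.1 fun U hU => ?_
    simp only [g]
    split_ifs with h
    · right
      rcases h with ⟨a, ha, hne⟩ | h
      · exact c.comp_flip hB hF hU ha (hfix U (c.mem_sibs.1 hU) a ha) hne hu.1 hu.2
      · obtain ⟨b, hb, hbC⟩ := SetLike.not_le_iff_exists.1 h
        exact c.comp_fixed hB hF hU hb.1 (fun U' hU' =>
          c.cj_sib_eq (c.mem_sibs.1 hU') hb.2 (hfix U' (c.mem_sibs.1 hU') b hb.1))
          (hfix U (c.mem_sibs.1 hU) b hb.1) hbC hu.1 hu.2
    · exact Or.inl rfl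
  have hEP : famSup id F ≤ c.S2 := hF.sup_le.trans c.R_le_S2
  -- for any set `s` of flipped blocks whose stabilisers cut out `B ∩ P`
  have key : ∀ s : Finset (Subgroup G), s ⊆ F → (∀ U ∈ s, Fl U) →
      (∀ a ∈ B, (∀ U ∈ s, cls R (cj a U) = cls R U) → a ∈ P) →
      (centralizer (famSup id F : Set G)).relIndex B * Nat.card ↥(famSup g F) * 2 ^ (F.filter Fl).card
        ≤ Nat.card ↥(famSup id F) * 2 ^ s.card := by
    intro s hsF hsFl hsP
    let K : {U // U ∈ F} → Subgroup G := fun U => c.clsStab (hF.mr U U.2)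
    set s' : Finset {U // U ∈ F} := s.subtype (fun U => U ∈ F)
    have hs'card : s'.card = s.card := by
      rw [Finset.card_subtype, Finset.filter_true_of_mem fun U hU => hsF hU]
    have h1 : (B ⊓ P).relIndex B ≤ 2 ^ s.card := by
      rw [inf_relIndex_left]
      refine (relIndex_le_of_inf_le (H := s'.inf K) ?_).trans ((relIndex_inf_finset_le K s' B).trans ?_)
      · intro a ha
        refine hsP a ha.1 fun U hU => ?_
        have : a ∈ K ⟨U, hsF hU⟩ :=
          (Finset.inf_le (f := K) (show (⟨U, hsF hU⟩ : {U // U ∈ F}) ∈ s' by simp [s', hU])) ha.2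
        exact this.2
      · rw [← hs'card]
        refine Finset.prod_le_pow_card _ _ _ fun U _ => ?_
        exact c.clsStab_rel _ hB.1 (hfix U (c.mem_sibs.1 U.2))
    have h2 : (centralizer (famSup id F : Set G)).relIndex (B ⊓ P) ≤ 2 ^ (F.filter Mv).card := by
      refine (relIndex_famSup_le id F (B ⊓ P)).trans ?_
      simp only [id]
      rw [← Finset.prod_filter_mul_prod_filter_not F Mv,
        Finset.prod_eq_one (s := F.filter fun U => ¬ Mv U) fun U hU =>
          relIndex_eq_one.2 (not_not.1 (Finset.mem_filter.1 hU).2), mul_one]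
      refine Finset.prod_le_pow_card _ _ _ fun U hU => ?_
      have hUs := c.mem_sibs.1 (Finset.mem_filter.1 hU).1
      exact relIndex_centralizer_le_two (c.sib_mr hUs).four
        (fun b hb => c.cj_sib_eq hUs hb.2 (hfix U hUs b hb.1)) fun b hb => hfix U hUs b hb.1
    have h3 : (centralizer (famSup id F : Set G)).relIndex B ≤ 2 ^ s.card * 2 ^ (F.filter Mv).card := by
      refine le_trans ?_ (Nat.mul_le_mul h1 h2)
      refine (relIndex_le_of_inf_le (H := (B ⊓ P) ⊓ centralizer (famSup id F : Set G)) (inf_le_right.trans inf_le_right)).trans ?_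
      rw [mul_comm, ← inf_relIndex_left (B ⊓ P) (centralizer (famSup id F : Set G)),
        relIndex_mul_relIndex _ _ _ inf_le_left inf_le_left]
    have hdisj : Disjoint (F.filter Fl) (F.filter Mv) := Finset.disjoint_filter.2 fun U hU hfl hmv => by
      obtain ⟨a, ha, hne⟩ := hfl
      obtain ⟨b, hb, hbC⟩ := SetLike.not_le_iff_exists.1 hmv
      exact hbC (c.cent_of_flip hB (c.mem_sibs.1 hU) ha (hfix U (c.mem_sibs.1 hU) a ha) hne hb.1 hb.2
        (hfix U (c.mem_sibs.1 hU) b hb.1))
    have hcards : Nat.card ↥(famSup g F) * 2 ^ ((F.filter Fl).card + (F.filter Mv).card) =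
        Nat.card ↥(famSup id F) := by
      rw [hF.card_sup g hg, hF.card_sup id fun U _ => le_rfl, ← Finset.card_union_of_disjoint hdisj,
        ← Finset.filter_or, ← Finset.prod_const, Finset.prod_filter, ← Finset.prod_mul_distrib]
      refine Finset.prod_congr rfl fun U hU => ?_
      have hm := hF.mr U hU
      simp only [g, id]
      split_ifs with h
      · rw [card_zpowers_invol (hm.four.sq _ hm.z_mem) hm.four.zne, hm.four.card]; norm_num
      · rw [mul_one]
    calc _ ≤ 2 ^ s.card * 2 ^ (F.filter Mv).card * Nat.card ↥(famSup g F) * 2 ^ (F.filter Fl).card := by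
          gcongr
      _ = Nat.card ↥(famSup g F) * 2 ^ ((F.filter Fl).card + (F.filter Mv).card) * 2 ^ s.card := by
          rw [pow_add]; ring
      _ = _ := by rw [hcards]
  have hall : ∀ a ∈ B, (∀ U ∈ F.filter Fl, cls R (cj a U) = cls R U) → a ∈ P := fun a ha h =>
    c.mem_P_of_fix (hB.1 ha) fun U hU => by
      by_contra hne
      exact hne (h U (Finset.mem_filter.2 ⟨c.mem_sibs.2 hU, a, ha, hne⟩))
  have hge := key (F.filter Fl) (Finset.filter_subset _ _) (fun U hU => (Finset.mem_filter.1 hU).2) hall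
  obtain ⟨hineq, hmem⟩ := exchange hB hF.elemAb hEP
  refine ⟨hmem (le_trans (Nat.mul_le_mul_left _ (Subgroup.card_le_of_le hsub))
    (Nat.le_of_mul_le_mul_right hge (pow_pos two_pos _))), fun U hU hfl => ?_⟩
  by_contra hcon
  push Not at hcon
  set s := (F.filter Fl).erase U
  have hUF : U ∈ F.filter Fl := Finset.mem_filter.2 ⟨c.mem_sibs.2 hU, hfl⟩
  have h := key s ((Finset.erase_subset _ _).trans (Finset.filter_subset _ _))
    (fun W hW => (Finset.mem_filter.1 (Finset.mem_of_mem_erase hW)).2) fun a ha h => hall a ha fun W hW => by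
      by_cases e : W = U
      · subst e
        by_contra hne
        obtain ⟨U', hU', hne', hbad⟩ := hcon a ha hne
        exact hbad (by
          by_contra hne2
          exact hne2 (h U' (Finset.mem_erase.2 ⟨hne', Finset.mem_filter.2 ⟨c.mem_sibs.2 hU', a, ha, hne2⟩⟩)))
      · exact h W (Finset.mem_erase.2 ⟨e, hW⟩)
  have h5 := le_trans (Nat.mul_le_mul_right (2 ^ (F.filter Fl).card)
    (hineq.trans (Nat.mul_le_mul_left _ (Subgroup.card_le_of_le hsub)))) h
  have h6 := Nat.le_of_mul_le_mul_left h5 Nat.card_pos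
  have h7 : s.card < (F.filter Fl).card := Finset.card_erase_lt_of_mem hUF
  exact absurd h6 (not_le.2 (Nat.pow_lt_pow_right (by norm_num) h7))

/-- Every member of largest order fixes the involutions. -/
theorem all_fix {B₀ : Subgroup G} (hB₀ : B₀ ∈ elemMax c.S2) : c.FixZ B₀ := by
  classical
  by_contra hmove
  simp only [FixZ] at hmove
  push Not at hmove
  obtain ⟨U₁, hU₁, a₀, ha₀, hne₀⟩ := hmove
  set R := jSub P with hR
  set t := zR R U₁ with ht
  let mv : Subgroup G → Finset (Subgroup G) := fun B =>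
    c.sibs.filter fun U => ¬ ∀ a ∈ B, a * zR R U = zR R U * a
  obtain ⟨B, ⟨hB, y, hy, hyt⟩, hmin⟩ := Set.exists_min_image
    {B : Subgroup G | B ∈ elemMax c.S2 ∧ ∃ y ∈ B, y * t ≠ t * y} (fun B => (mv B).card) (Set.toFinite _)
    ⟨B₀, hB₀, a₀, ha₀, hne₀⟩
  have hm₁ := c.sib_mr hU₁
  have hzt : t ∈ zSet R := hm₁.z_mem_zSet
  obtain ⟨horb, -⟩ := c.orbit_pair hB hzt hy hyt
  have hyS := hB.1 hy
  have hy2 : y * y = 1 := by rw [← pow_two]; exact hB.2.1.2 y hy
  set t2 := y * t * y⁻¹ with ht2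
  have hne12 : t ≠ t2 := fun e => hyt (mul_inv_eq_iff_eq_mul.1 (ht2 ▸ e.symm))
  -- all other moved involutions lie in the orbit
  have hother : ∀ U, Sib P V U → zR R U ≠ t → zR R U ≠ t2 → ∀ a ∈ B, a * zR R U = zR R U * a := by
    intro U hU h1 h2 a ha
    by_contra hne
    have hzU : zR R U ∈ zSet R := (c.sib_mr hU).z_mem_zSet
    obtain ⟨b, hb, hbU, hbt⟩ := c.exists_separating hB hzt hzU hy hyt ha hne h1 h2
    obtain ⟨-, hB'⟩ := c.orbit_pair hB hzU ha hne
    set B' := (B ⊓ centralizer ({zR R U} : Set G)) ⊔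
      Subgroup.closure ({zR R U, a * zR R U * a⁻¹} : Set G) with hB'def
    have hb' : b ∈ B' := mem_sup_left ⟨hb, mem_centralizer_singleton_iff.2 hbU⟩
    have hzc : ∀ W, Sib P V W → (∀ e ∈ B ⊓ centralizer ({zR R U} : Set G), e * zR R W = zR R W * e) →
        ∀ e ∈ B', e * zR R W = zR R W * e := by
      intro W hW hBW e he
      have hle : B' ≤ centralizer ({zR R W} : Set G) := by
        refine sup_le (fun d hd => mem_centralizer_singleton_iff.2 (hBW d hd)) ?_
        rw [Subgroup.closure_le]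
        intro d hd
        refine mem_centralizer_singleton_iff.2 ((c.sib_mr hW).zc d ?_)
        rcases hd with rfl | hd
        · exact (c.sib_mr hU).z_mem_R
        · rw [Set.mem_singleton_iff.1 hd, ← c.zR_cj (c.sib_mr hU) (hB.1 ha)]
          exact (c.mr_cj (c.sib_mr hU) (hB.1 ha)).z_mem_R
      exact mem_centralizer_singleton_iff.1 (hle he)
    have hsub : mv B' ⊆ (mv B).erase U := fun W hW => by
      obtain ⟨hWs, hWm⟩ := Finset.mem_filter.1 hW
      have hWs' := c.mem_sibs.1 hWs
      refine Finset.mem_erase.2 ⟨fun e => hWm (hzc W hWs' fun d hd => e ▸ mem_centralizer_singleton_iff.1 hd.2),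
        Finset.mem_filter.2 ⟨hWs, fun h => hWm (hzc W hWs' fun d hd => h d hd.1)⟩⟩
    have hUm : U ∈ mv B := Finset.mem_filter.2 ⟨c.mem_sibs.2 hU, fun h => hne (h a ha)⟩
    exact absurd ((hmin B' ⟨hB', b, hb', hbt⟩).trans (Finset.card_le_card hsub))
      (not_le.2 (Finset.card_erase_lt_of_mem hUm))
  set U₂ := cj y U₁ with hU₂
  have hm₂ : MR R U₂ := c.mr_cj hm₁ hyS
  have hz₂ : zR R U₂ = t2 := c.zR_cj hm₁ hyS
  set rest := c.sibs.filter fun U => zR R U ≠ t ∧ zR R U ≠ t2 with hrest
  have hrs : ∀ U ∈ rest, Sib P V U := fun U hU => c.mem_sibs.1 (Finset.mem_filter.1 hU).1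
  have hrfix : ∀ U ∈ rest, ∀ a ∈ B, a * zR R U = zR R U * a := fun U hU =>
    hother U (hrs U hU) (Finset.mem_filter.1 hU).2.1 (Finset.mem_filter.1 hU).2.2
  set F := insert U₁ (insert U₂ rest) with hFdef
  have hU₁₂ : U₁ ≠ U₂ := fun e => hne12 (by rw [← hz₂, ← e])
  have hU₁r : U₁ ∉ insert U₂ rest := by
    rw [Finset.mem_insert]
    rintro (e | e)
    · exact hU₁₂ e
    · exact (Finset.mem_filter.1 e).2.1 rfl
  have hU₂r : U₂ ∉ rest := fun e => (Finset.mem_filter.1 e).2.2 hz₂
  have hF : Fam R F := by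
    refine ⟨fun U hU => ?_, fun U hU U' hU' e => ?_⟩
    · rcases Finset.mem_insert.1 hU with rfl | hU
      · exact hm₁
      rcases Finset.mem_insert.1 hU with rfl | hU
      · exact hm₂
      · exact c.sib_mr (hrs U hU)
    · rcases Finset.mem_insert.1 hU with h | h
      · rcases Finset.mem_insert.1 hU' with h' | h'
        · rw [h, h']
        rcases Finset.mem_insert.1 h' with h'' | h''
        · exact absurd (by rw [h, h''] at e; exact e.trans hz₂) hne12
        · exact absurd (by rw [h] at e; exact e.symm) (Finset.mem_filter.1 h'').2.1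
      rcases Finset.mem_insert.1 h with h | h
      · rcases Finset.mem_insert.1 hU' with h' | h'
        · exact absurd (by rw [h, h'] at e; exact e.symm.trans hz₂) hne12
        rcases Finset.mem_insert.1 h' with h'' | h''
        · rw [h, h'']
        · exact absurd (by rw [h, hz₂] at e; exact e.symm) (Finset.mem_filter.1 h'').2.2
      · rcases Finset.mem_insert.1 hU' with h' | h'
        · exact absurd (by rw [h'] at e; exact e) (Finset.mem_filter.1 h).2.1
        rcases Finset.mem_insert.1 h' with h'' | h''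
        · exact absurd (by rw [h'', hz₂] at e; exact e) (Finset.mem_filter.1 h).2.2
        · exact c.sib_z_inj (hrs U h) (hrs U' h'') e
  set B₁ := B ⊓ centralizer ({t} : Set G) with hB₁
  have hB₁fix : ∀ a ∈ B₁, a * t = t * a ∧ a * t2 = t2 * a := fun a ha => by
    have h1 : Commute a t := mem_centralizer_singleton_iff.1 ha.2
    have h2 : Commute a y := PLocal.elemAb_comm hB.2.1 ha.1 hy
    exact ⟨h1.eq, ((h2.mul_right h1).mul_right h2.inv_right).eq⟩
  let Fl : Subgroup G → Prop := fun U => ∃ a ∈ B, cls R (cj a U) ≠ cls R U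
  let K : {U // U ∈ F} → Subgroup G := fun U => c.clsStab (hF.mr U U.2)
  let sF : Finset {U // U ∈ F} := (rest.filter Fl).subtype (fun U => U ∈ F)
  set B₂ := B₁ ⊓ c.clsStab hm₁ ⊓ sF.inf K with hB₂
  have hrestF : ∀ U ∈ rest, U ∈ F := fun U hU => Finset.mem_insert_of_mem (Finset.mem_insert_of_mem hU)
  have hB₂P : ∀ b ∈ B₂, b ∈ P := by
    intro b hb
    obtain ⟨⟨hbB, hb1⟩, hbF⟩ := hb
    refine c.mem_P_of_fix (hB.1 hbB.1) fun U hU => ?_
    have hbt := hB₁fix b hbB
    by_cases hzt1 : zR R U = t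
    · rw [c.sib_z_inj hU hU₁ hzt1]; exact hb1.2
    by_cases hzt2 : zR R U = t2
    · have hmU := c.sib_mr hU
      have hbS := hB.1 hbB.1
      have hb2 : cls R (cj b U₂) = cls R U₂ := by
        rw [hU₂, ← cj_mul, PLocal.elemAb_comm hB.2.1 hbB.1 hy, cj_mul]
        exact c.cls_cj (c.mr_cj hm₁ hbS) hm₁ hb1.2 hyS
      by_cases e2 : cls R U = cls R U₂
      · rw [c.cls_cj hmU hm₂ e2 hbS, hb2, e2]
      have hzb : zR R (cj b U) = zR R U := by
        rw [c.zR_cj hmU hbS, hzt2, hbt.2, mul_inv_cancel_right]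
      rcases hm₂.two_values hmU (c.mr_cj hmU hbS) (hz₂.trans hzt2.symm) (hz₂.trans (hzb.trans hzt2).symm) with
        q | q | q
      · exact absurd q.symm e2
      · exact absurd (hm₂.cls_map_inj hmU _ (c.fixR hbS) (hb2.trans q)).symm e2
      · exact q.symm
    have hUr : U ∈ rest := Finset.mem_filter.2 ⟨c.mem_sibs.2 hU, hzt1, hzt2⟩
    by_contra hne
    have : b ∈ K ⟨U, hrestF U hUr⟩ := (Finset.inf_le (f := K)
      (show (⟨U, hrestF U hUr⟩ : {U // U ∈ F}) ∈ sF by
        simp only [sF, Finset.mem_subtype, Finset.mem_filter]; exact ⟨hUr, b, hbB.1, hne⟩)) hbF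
    exact hne this.2
  have hB₂B : B₂ ≤ B := inf_le_left.trans (inf_le_left.trans inf_le_left)
  have hB₂t : ∀ b ∈ B₂, b * t = t * b ∧ b * t2 = t2 * b := fun b hb => hB₁fix b hb.1.1
  have hN₁ : ∀ b ∈ B₂, b ∈ normalizer (U₁ : Set G) := fun b hb => c.cj_sib_eq hU₁ (hB₂P b hb) (hB₂t b hb).1
  have hN₂ : ∀ b ∈ B₂, b ∈ normalizer (U₂ : Set G) := fun b hb => mem_normalizer_iff_map_conj_eq.2 (by
    show cj b (cj y U₁) = cj y U₁
    rw [← cj_mul, PLocal.elemAb_comm hB.2.1 (hB₂B hb) hy, cj_mul, cj_of_mem (hN₁ b hb)])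
  have hN : ∀ b ∈ B₂, ∀ U ∈ F, b ∈ normalizer (U : Set G) := fun b hb U hU => by
    rcases Finset.mem_insert.1 hU with rfl | hU
    · exact hN₁ b hb
    rcases Finset.mem_insert.1 hU with rfl | hU
    · exact hN₂ b hb
    · exact c.cj_sib_eq (hrs U hU) (hB₂P b hb) (hrfix U hU b (hB₂B hb))
  have hC12 : ∀ b ∈ B, b ∈ centralizer (U₁ : Set G) → b ∈ centralizer (U₂ : Set G) := fun b hb hbc => by
    refine mem_centralizer_iff.2 ?_
    rintro _ ⟨v, hv, rfl⟩
    have h1 : Commute b v := (mem_centralizer_iff.1 hbc v hv).symm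
    have h2 : Commute b y := PLocal.elemAb_comm hB.2.1 hb hy
    exact ((h2.mul_right h1).mul_right h2.inv_right).eq.symm
  let forced : Prop := (¬ B₁ ≤ c.clsStab hm₁) ∨ (¬ B₂ ≤ centralizer (U₁ : Set G))
  let Mv : Subgroup G → Prop := fun U => ¬ B₂ ≤ centralizer (U : Set G)
  let g : Subgroup G → Subgroup G := fun U =>
    if ((U = U₁ ∨ U = U₂) ∧ forced) ∨ (U ∈ rest ∧ (Fl U ∨ Mv U)) then zpowers (zR R U) else U
  have hg : ∀ U ∈ F, g U ≤ U := fun U hU => by
    simp only [g]; split_ifs
    · exact zpowers_le.2 (hF.mr U hU).z_mem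
    · exact le_rfl
  have hsub : famSup id F ⊓ B ≤ famSup g F := fun u hu => by
    refine hF.mem_famSup g hg hu.1 fun U hU => ?_
    simp only [g]
    split_ifs with h
    · right
      rcases h with ⟨hU12, hs | hmv⟩ | ⟨hUr, hfl | hmv⟩
      · obtain ⟨a, ha, haK⟩ := SetLike.not_le_iff_exists.1 hs
        have haS := hB.1 ha.1
        have hne : cls R (cj a U₁) ≠ cls R U₁ := fun e => haK ⟨haS, e⟩
        rcases hU12 with rfl | rfl
        · exact c.comp_flip hB hF hU ha.1 (hB₁fix a ha).1 hne hu.1 hu.2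
        · refine c.comp_flip hB hF hU ha.1 (by rw [hz₂]; exact (hB₁fix a ha).2) ?_ hu.1 hu.2
          intro e
          rw [hU₂, ← cj_mul, PLocal.elemAb_comm hB.2.1 ha.1 hy, cj_mul] at e
          exact hne ((c.mr_cj hm₁ haS).cls_map_inj hm₁ _ (c.fixR hyS) e)
      · obtain ⟨b, hb, hbC⟩ := SetLike.not_le_iff_exists.1 hmv
        rcases hU12 with rfl | rfl
        · exact c.comp_fixed hB hF hU (hB₂B hb) (hN b hb) (hB₂t b hb).1 hbC hu.1 hu.2
        · refine c.comp_fixed hB hF hU (hB₂B hb) (hN b hb) (by rw [hz₂]; exact (hB₂t b hb).2) ?_ hu.1 hu.2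
          intro hc
          refine hbC (mem_centralizer_iff.2 fun v hv => ?_)
          have h3 := mem_centralizer_iff.1 hc (y * v * y⁻¹) ⟨v, hv, rfl⟩
          have h2 : Commute b y := PLocal.elemAb_comm hB.2.1 (hB₂B hb) hy
          have h4 : Commute b (y⁻¹ * (y * v * y⁻¹) * y) :=
            (h2.inv_right.mul_right (show Commute b _ from h3.symm)).mul_right h2
          rw [show y⁻¹ * (y * v * y⁻¹) * y = v by group] at h4
          exact h4.eq.symm
      · obtain ⟨a, ha, hne⟩ := hfl
        exact c.comp_flip hB hF hU ha (hrfix U hUr a ha) hne hu.1 hu.2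
      · obtain ⟨b, hb, hbC⟩ := SetLike.not_le_iff_exists.1 hmv
        exact c.comp_fixed hB hF hU (hB₂B hb) (hN b hb) (hrfix U hUr b (hB₂B hb)) hbC hu.1 hu.2
    · exact Or.inl rfl
  have hdisj12 : U₁ ⊓ U₂ = ⊥ := by
    have hd := (hF.mono (F' := {U₂}) (by simp [hFdef])).disjoint hm₁ (by
      intro U' hU'; rw [Finset.mem_singleton.1 hU', hz₂]; exact hne12)
    simpa [famSup] using hd
  -- the bound on `E ∩ B`
  have hX : Nat.card ↥(famSup id F ⊓ B) ≤ Nat.card ↥(g U₂) * ∏ U ∈ rest, Nat.card ↥(g U) := by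
    have hg1 : g U₁ ≤ U₁ := hg U₁ (Finset.mem_insert_self _ _)
    have hd : (famSup id F ⊓ B) ⊓ g U₁ = ⊥ := (eq_bot_iff_forall _).2 fun u hu => by
      refine mem_bot.1 (hdisj12.le ⟨hg1 hu.2, ?_⟩)
      have : y * u * y⁻¹ = u := by rw [PLocal.elemAb_comm hB.2.1 hy hu.1.2, mul_inv_cancel_right]
      exact this ▸ ⟨u, hg1 hu.2, rfl⟩
    have h1 := PLocal.card_mul_card_le (famSup id F ⊓ B) (g U₁)
    rw [hd, Subgroup.card_bot, mul_one] at h1
    have h2 : Nat.card ↥((famSup id F ⊓ B) ⊔ g U₁ : Subgroup G) ≤ Nat.card ↥(famSup g F) :=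
      Subgroup.card_le_of_le (sup_le hsub (Finset.le_sup (f := g) (Finset.mem_insert_self _ _)))
    have h3 := h1.trans h2
    rw [hF.card_sup g hg, hFdef, Finset.prod_insert hU₁r, Finset.prod_insert hU₂r,
      mul_comm (Nat.card ↥(g U₁))] at h3
    exact Nat.le_of_mul_le_mul_right h3 Nat.card_pos
  -- the bound on the index
  set k := (rest.filter Fl).card with hk
  set l := (rest.filter Mv).card with hl
  set t1 := (c.clsStab hm₁).relIndex B₁ * (centralizer (U₁ : Set G)).relIndex B₂ with ht1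
  have hI : (centralizer (famSup id F : Set G)).relIndex B ≤ 2 * t1 * 2 ^ k * 2 ^ l := by
    have h1 : B₂.relIndex B ≤ 2 * (c.clsStab hm₁).relIndex B₁ * 2 ^ k := by
      have hKF : (sF.inf K).relIndex B ≤ 2 ^ k := by
        refine (relIndex_inf_finset_le K sF B).trans ?_
        have hsc : sF.card = k := by
          rw [Finset.card_subtype, Finset.filter_true_of_mem fun U hU => hrestF U (Finset.mem_filter.1 hU).1]
        rw [← hsc]
        refine Finset.prod_le_pow_card _ _ _ fun U hU => ?_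
        simp only [sF, Finset.mem_subtype, Finset.mem_filter] at hU
        exact c.clsStab_rel _ hB.1 (hrfix U hU.1)
      refine relIndex_inf_le.trans (Nat.mul_le_mul ?_ hKF)
      rw [← relIndex_mul_relIndex (B₁ ⊓ c.clsStab hm₁) B₁ B inf_le_left inf_le_left, inf_relIndex_left, mul_comm]
      refine Nat.mul_le_mul_right _ ?_
      rw [hB₁, inf_relIndex_left]
      exact c.rel_fix_le_two hB hzt
    have h2 : (centralizer (famSup id F : Set G)).relIndex B₂ ≤ (centralizer (U₁ : Set G)).relIndex B₂ * 2 ^ l := by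
      refine (relIndex_le_of_inf_le (H := centralizer (U₁ : Set G) ⊓ centralizer (famSup id rest : Set G)) ?_).trans
        (relIndex_inf_le.trans (Nat.mul_le_mul_left _ ?_))
      · intro b hb
        rw [hFdef, show famSup id (insert U₁ (insert U₂ rest)) = U₁ ⊔ (U₂ ⊔ famSup id rest) by
          simp [famSup, Finset.sup_insert], PLocal.centralizer_sup, PLocal.centralizer_sup]
        exact ⟨hb.2.1, hC12 b (hB₂B hb.1) hb.2.1, hb.2.2⟩
      · refine (relIndex_famSup_le id rest B₂).trans ?_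
        simp only [id]
        rw [← Finset.prod_filter_mul_prod_filter_not rest Mv,
          Finset.prod_eq_one (s := rest.filter fun U => ¬ Mv U) fun U hU =>
            relIndex_eq_one.2 (not_not.1 (Finset.mem_filter.1 hU).2), mul_one]
        refine Finset.prod_le_pow_card _ _ _ fun U hU => ?_
        have hUr := (Finset.mem_filter.1 hU).1
        exact relIndex_centralizer_le_two (c.sib_mr (hrs U hUr)).four (fun b hb => hN b hb U (hrestF U hUr))
          fun b hb => hrfix U hUr b (hB₂B hb)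
    refine (relIndex_le_of_inf_le (H := B₂ ⊓ centralizer (famSup id F : Set G))
      (inf_le_right.trans inf_le_right)).trans ?_
    rw [← relIndex_mul_relIndex (B₂ ⊓ centralizer (famSup id F : Set G)) B₂ B inf_le_left hB₂B, inf_relIndex_left]
    refine (Nat.mul_le_mul h2 h1).trans (le_of_eq ?_)
    rw [ht1]; ring
  have hdisj : Disjoint (rest.filter Fl) (rest.filter Mv) := Finset.disjoint_filter.2 fun U hU hfl hmv => by
    obtain ⟨a, ha, hne⟩ := hfl
    obtain ⟨b, hb, hbC⟩ := SetLike.not_le_iff_exists.1 hmv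
    exact hbC (c.cent_of_flip hB (hrs U hU) ha (hrfix U hU a ha) hne (hB₂B hb) (hB₂P b hb)
      (hrfix U hU b (hB₂B hb)))
  have hrest4 : (∏ U ∈ rest, Nat.card ↥(g U)) * (2 ^ k * 2 ^ l) = 4 ^ rest.card := by
    rw [hk, hl, ← pow_add, ← Finset.card_union_of_disjoint hdisj, ← Finset.filter_or, ← Finset.prod_const,
      Finset.prod_filter (s := rest), ← Finset.prod_mul_distrib, ← Finset.prod_const]
    refine Finset.prod_congr rfl fun U hU => ?_
    have hm := hF.mr U (hrestF U hU)
    have hn1 : U ≠ U₁ := fun e => hU₁r (Finset.mem_insert_of_mem (e ▸ hU))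
    have hn2 : U ≠ U₂ := fun e => hU₂r (e ▸ hU)
    by_cases h : Fl U ∨ Mv U
    · have hgz : g U = zpowers (zR R U) := if_pos (Or.inr ⟨hU, h⟩)
      rw [if_pos h, hgz, card_zpowers_invol (hm.four.sq _ hm.z_mem) hm.four.zne]; norm_num
    · have hgU : g U = U := if_neg (by
        rintro (⟨e | e, -⟩ | ⟨-, h'⟩)
        · exact hn1 e
        · exact hn2 e
        · exact h h')
      rw [if_neg h, hgU, hm.four.card]; norm_num
  have hprod : t1 * Nat.card ↥(g U₂) ≤ 4 := by
    by_cases hf : forced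
    · have hgz : g U₂ = zpowers (zR R U₂) := if_pos (Or.inl ⟨Or.inr rfl, hf⟩)
      rw [hgz, card_zpowers_invol (hm₂.four.sq _ hm₂.z_mem) hm₂.four.zne]
      have : t1 ≤ 2 := by
        by_cases hs : B₁ ≤ c.clsStab hm₁
        · rw [ht1, relIndex_eq_one.2 hs, one_mul]
          exact relIndex_centralizer_le_two hm₁.four hN₁ fun b hb => (hB₂t b hb).1
        · obtain ⟨a, ha, haK⟩ := SetLike.not_le_iff_exists.1 hs
          have hcc : B₂ ≤ centralizer (U₁ : Set G) := fun b hb => c.cent_of_flip hB hU₁ ha.1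
            (hB₁fix a ha).1 (fun e => haK ⟨hB.1 ha.1, e⟩) (hB₂B hb) (hB₂P b hb) (hB₂t b hb).1
          rw [ht1, relIndex_eq_one.2 hcc, mul_one]
          exact c.clsStab_rel hm₁ (inf_le_left.trans hB.1) fun b hb => (hB₁fix b hb).1
      omega
    · have hgU : g U₂ = U₂ := if_neg (by
        rintro (⟨-, h⟩ | ⟨h, -⟩)
        · exact hf h
        · exact hU₂r h)
      simp only [forced, not_or, not_not] at hf
      rw [hgU, ht1, relIndex_eq_one.2 hf.1, relIndex_eq_one.2 hf.2, hm₂.four.card]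
  obtain ⟨hineq, -⟩ := exchange hB hF.elemAb (hF.sup_le.trans c.R_le_S2)
  have hcardF : Nat.card ↥(famSup id F) = 16 * 4 ^ rest.card := by
    rw [hF.card_sup id fun U _ => le_rfl, hFdef, Finset.prod_insert hU₁r, Finset.prod_insert hU₂r]
    simp only [id]
    rw [hm₁.four.card, hm₂.four.card, Finset.prod_congr rfl fun U hU => (hF.mr U (hrestF U hU)).four.card,
      Finset.prod_const, ← mul_assoc]
    norm_num
  rw [hcardF] at hineq
  have := hineq.trans (Nat.mul_le_mul hI hX)
  have h8 : 2 * t1 * 2 ^ k * 2 ^ l * (Nat.card ↥(g U₂) * ∏ U ∈ rest, Nat.card ↥(g U)) ≤ 8 * 4 ^ rest.card := by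
    calc _ = 2 * (t1 * Nat.card ↥(g U₂)) * ((∏ U ∈ rest, Nat.card ↥(g U)) * (2 ^ k * 2 ^ l)) := by ring
      _ ≤ 2 * 4 * 4 ^ rest.card := by rw [hrest4]; gcongr
      _ = _ := by norm_num
  have hpos : 0 < 4 ^ rest.card := pow_pos (by norm_num) _
  omega

end CB

end Cfsg.Agent.EvenNilp
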