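import Cfsg.Agent.Lib.EvenNilp.MR

/-!
# Families of blocks with distinct involutions (helper46)

`R = J(P)`. Blocks with distinct involutions: the involutions are independent, the four groups form a
direct product, and the element of odd order of one block fixes the involutions of the others.
-/

set_option autoImplicit false
set_option linter.unusedSectionVars false
set_option linter.style.haveILetI false

namespace Cfsg.Agent.EvenNilp

open Subgroup
open scoped Pointwise

universe u

variable {G : Type u} [Group G] [Finite G]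

theorem conj_map_eq {g : G} {X : Subgroup G} (h : g ∈ normalizer (X : Set G)) :
    X.map (MulAut.conj g).toMonoidHom = X := mem_normalizer_iff_map_conj_eq.1 h

theorem card_zpowers_invol {z : G} (hz : z * z = 1) (h1 : z ≠ 1) : Nat.card ↥(zpowers z) = 2 := by
  haveI : Fact (Nat.Prime 2) := ⟨Nat.prime_two⟩
  rw [Nat.card_zpowers]
  exact orderOf_eq_prime (by rw [pow_two]; exact hz) h1


/-- The involutions of blocks. -/
def zSet (R : Subgroup G) : Set G := {z | ∃ U, MR R U ∧ zR R U = z}

theorem MR.z_mem_zSet {R U : Subgroup G} (h : MR R U) : zR R U ∈ zSet R := ⟨U, h, rfl⟩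

theorem zSet_central {R : Subgroup G} {z : G} (hz : z ∈ zSet R) :
    z ∈ R ∧ z * z = 1 ∧ z ≠ 1 ∧ ∀ r ∈ R, r * z = z * r := by
  obtain ⟨U, h, rfl⟩ := hz
  exact ⟨h.z_mem_R, h.four.sq _ h.z_mem, h.four.zne, h.zc⟩

variable {P : Subgroup G}

/-- A mover of one block centralising the other. -/
theorem exists_private {U U' : Subgroup G} (h : MR (jSub P) U) (h' : MR (jSub P) U')
    (hz : zR (jSub P) U ≠ zR (jSub P) U') :
    ∃ a ∈ jSub P, a ∉ centralizer (U : Set G) ∧ a ∈ centralizer (U' : Set G) := by
  set R := jSub P with hR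
  have hRP : R ≤ P := PLocal.thompsonSubgroupOf_le P
  obtain ⟨A, hA, hmove⟩ : ∃ A ∈ elemMax P, ¬ A ≤ centralizer (U : Set G) := by
    by_contra hcon
    push Not at hcon
    obtain ⟨r, hr, hrC⟩ := h.exists_mover
    rw [hR, jSub_eq] at hr
    exact hrC ((sSup_le hcon) hr)
  have hAR : A ≤ R := EvenNilp.le_jSub hA
  obtain ⟨a₀, ha₀, ha₀C⟩ := SetLike.not_le_iff_exists.1 hmove
  by_cases hb : ∃ b ∈ A, b ∈ centralizer (U : Set G) ∧ b ∉ centralizer (U' : Set G)
  · obtain ⟨b, hb, hbU, hbU'⟩ := hb
    by_cases ha' : a₀ ∈ centralizer (U' : Set G)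
    · exact ⟨a₀, hAR ha₀, ha₀C, ha'⟩
    refine ⟨a₀ * b, hAR (A.mul_mem ha₀ hb), fun hc => ha₀C ((Subgroup.mul_mem_cancel_right _ hbU).1 hc),
      h'.four.mul_mem_centralizer (h'.norm (hAR ha₀)) (h'.zc _ (hAR ha₀)) ha'
        (h'.norm (hAR hb)) (h'.zc _ (hAR hb)) hbU'⟩
  by_contra hcon
  push Not at hb hcon
  set z := zR R U
  set z' := zR R U'
  have hcomm : U' ≤ centralizer (U : Set G) := h.commute_of_ne h' hz
  have hWe : Cfsg.IsElementaryAbelian 2 (U ⊔ U') :=
    PLocal.elemAb_sup h.four.elemAb h'.four.elemAb (le_centralizer_iff.1 hcomm)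
  have hdisj : U ⊓ U' = ⊥ := by
    refine (eq_bot_iff_forall _).2 fun u hu => by_contra fun hu1 => ?_
    by_cases huc : ∀ r ∈ R, r * u = u * r
    · have e1 := (h.choose_spec.eq_of_central hu.1 huc).resolve_left hu1
      have e2 := (h'.choose_spec.eq_of_central hu.2 huc).resolve_left hu1
      exact hz (e1.symm.trans e2)
    · push Not at huc
      obtain ⟨r, hr, hne⟩ := huc
      have e1 := (h.choose_spec.conj_cases hr hu.1).resolve_left fun e => hne (mul_inv_eq_iff_eq_mul.1 e)
      have e2 := (h'.choose_spec.conj_cases hr hu.2).resolve_left fun e => hne (mul_inv_eq_iff_eq_mul.1 e)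
      exact hz (mul_left_cancel (e1.symm.trans e2))
  have hcard : Nat.card ↥(U ⊔ U') = 16 := by
    have hp := PLocal.card_sup_mul_card_inf (H := U) (K := U') (hcomm.trans (centralizer_le_normalizer _))
    rw [hdisj, Subgroup.card_bot, mul_one, h.four.card, h'.four.card] at hp
    exact hp
  have hrel : (centralizer ((U ⊔ U' : Subgroup G) : Set G)).relIndex A ≤ 2 := by
    refine le_trans (Nat.le_of_dvd (Nat.pos_of_ne_zero index_ne_zero_of_finite) ?_)
      (relIndex_centralizer_le_two h.four (hAR.trans h.norm) fun n hn => h.zc n (hAR hn))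
    show _ ∣ (centralizer (U : Set G)).relIndex A
    rw [← inf_relIndex_left A (centralizer ((U ⊔ U' : Subgroup G) : Set G)),
      ← inf_relIndex_left A (centralizer (U : Set G))]
    refine relIndex_dvd_of_le_left A fun b hb' => ⟨hb'.1, le_centralizer_iff.1 (sup_le ?_ ?_) (mem_zpowers b)⟩
    · exact le_centralizer_iff.1 (zpowers_le.2 hb'.2)
    · exact le_centralizer_iff.1 (zpowers_le.2 (hb b hb'.1 hb'.2))
  have hle : (U ⊔ U') ⊓ A ≤ zpowers z ⊔ zpowers z' := by
    intro u hu
    obtain ⟨v, hv, w, hw, rfl⟩ := (Coprime.mem_sup_iff (hcomm.trans (centralizer_le_normalizer _))).1 hu.1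
    have hav := (mem_normalizer_iff.1 (h.norm (hAR ha₀)) v).1 hv
    have haw := (mem_normalizer_iff.1 (h'.norm (hAR ha₀)) w).1 hw
    have he : a₀ * v * a₀⁻¹ * (a₀ * w * a₀⁻¹) = v * w := by
      rw [show a₀ * v * a₀⁻¹ * (a₀ * w * a₀⁻¹) = a₀ * (v * w) * a₀⁻¹ by group,
        PLocal.elemAb_comm hA.2.1 ha₀ hu.2, mul_inv_cancel_right]
    have hd : v⁻¹ * (a₀ * v * a₀⁻¹) ∈ U ⊓ U' := by
      refine ⟨U.mul_mem (inv_mem hv) hav, ?_⟩
      have h2 : v⁻¹ * (a₀ * v * a₀⁻¹) = w * (a₀ * w * a₀⁻¹)⁻¹ := by
        rw [eq_mul_inv_iff_mul_eq, mul_assoc, he, inv_mul_cancel_left]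
      rw [h2]; exact U'.mul_mem hw (inv_mem haw)
    rw [hdisj, mem_bot, inv_mul_eq_one] at hd
    have hfv : a₀ * v = v * a₀ := mul_inv_eq_iff_eq_mul.1 hd.symm
    have hfw : a₀ * w = w * a₀ := by
      refine mul_inv_eq_iff_eq_mul.1 ?_
      rw [← hd] at he
      exact mul_left_cancel he
    have ha₀C' : a₀ ∉ centralizer (U' : Set G) := hcon a₀ (hAR ha₀) ha₀C
    refine mul_mem (mem_sup_left ?_) (mem_sup_right ?_)
    · by_contra hne
      exact ha₀C (h.four.centralizes_of_fix (h.zc _ (hAR ha₀)) hv (fun e => hne (e ▸ one_mem _))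
        (fun e => hne (e ▸ mem_zpowers z)) hfv)
    · by_contra hne
      exact ha₀C' (h'.four.centralizes_of_fix (h'.zc _ (hAR ha₀)) hw (fun e => hne (e ▸ one_mem _))
        (fun e => hne (e ▸ mem_zpowers z')) hfw)
  have h4 : Nat.card ↥(zpowers z ⊔ zpowers z') ≤ 4 := by
    have hp := PLocal.card_sup_mul_card_inf (H := zpowers z) (K := zpowers z') ((zpowers_le.2
      (centralizer_le_normalizer _ (mem_centralizer_iff.2 fun t ht => by
        obtain ⟨j, rfl⟩ := ht
        exact ((show Commute z z' from h'.zc z h.z_mem_R).zpow_left j).eq))))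
    rw [card_zpowers_invol (h.four.sq z h.z_mem) h.four.zne,
      card_zpowers_invol (h'.four.sq z' h'.z_mem) h'.four.zne] at hp
    exact (Nat.le_mul_of_pos_right _ Nat.card_pos).trans hp.le
  have hfin := exchange_le hA hWe (sup_le (h.le.trans hRP) (h'.le.trans hRP)) hle
  rw [hcard] at hfin
  exact absurd (hfin.trans (Nat.mul_le_mul hrel h4)) (by norm_num)

/-- The element of odd order of a block fixes the other involutions. -/
theorem x_fixes {U U' : Subgroup G} {x : G} (h : RBlk (jSub P) U x (zR (jSub P) U)) (h' : MR (jSub P) U')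
    (hz : zR (jSub P) U ≠ zR (jSub P) U') : x * zR (jSub P) U' = zR (jSub P) U' * x := by
  set R := jSub P
  obtain ⟨a, ha, haU, haU'⟩ := exists_private h.mr h' hz
  have hU'Q : U' ≤ R ⊓ centralizer (U : Set G) := le_inf h'.le (h.mr.commute_of_ne h' hz)
  obtain ⟨r, hr, hrU'⟩ := h'.exists_mover
  obtain ⟨v', hv', hv'1, hv'z⟩ := h'.four.exists_other
  have hmv : r * v' * r⁻¹ = v' * zR R U' :=
    h'.four.conj_eq_mul (h'.norm hr) (h'.zc r hr) hrU' hv' hv'1 hv'z
  obtain ⟨e, he, hfix⟩ := h.blk.exists_fixed (hU'Q hv')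
  have hQ : v' * e ∈ R ⊓ centralizer (U : Set G) := mul_mem (hU'Q hv') (h.blk.vle he)
  have hcent : ∀ s ∈ R, s * e = e * s := by
    by_contra hcon
    push Not at hcon
    obtain ⟨s, hs, hse⟩ := hcon
    have he1 : e ≠ 1 := fun e1 => hse (by rw [e1, mul_one, one_mul])
    have hez : e ≠ zR R U := fun e1 => hse (e1 ▸ h.zc s hs)
    have hae : a * e * a⁻¹ = e * zR R U := h.four.conj_eq_mul (h.norm ha) (h.zc a ha) haU he he1 hez
    have h1 : x * (a * (v' * e) * a⁻¹) = (a * (v' * e) * a⁻¹) * x := h.inv a ha _ hQ hfix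
    have h2 : a * (v' * e) * a⁻¹ = (v' * e) * zR R U := by
      rw [show a * (v' * e) * a⁻¹ = (a * v' * a⁻¹) * (a * e * a⁻¹) by group, hae,
        ← mem_centralizer_iff.1 haU' v' hv', mul_inv_cancel_right, mul_assoc]
    rw [h2] at h1
    have h3 : Commute x (zR R U) := by
      have := (Commute.inv_right (show Commute x (v' * e) from hfix)).mul_right (show Commute x _ from h1)
      rwa [inv_mul_cancel_left] at this
    exact h.four.zne (h.blk.fpf _ h.four.zmem h3.eq)
  have h1 : x * (r * (v' * e) * r⁻¹) = (r * (v' * e) * r⁻¹) * x := h.inv r hr _ hQ hfix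
  have h2 : r * (v' * e) * r⁻¹ = zR R U' * (v' * e) := by
    rw [show r * (v' * e) * r⁻¹ = (r * v' * r⁻¹) * (r * e * r⁻¹) by group, hmv, hcent r hr,
      mul_inv_cancel_right, h'.four.comm hv' h'.z_mem]
    group
  rw [h2] at h1
  have := (show Commute x _ from h1).mul_right (Commute.inv_right (show Commute x (v' * e) from hfix))
  rw [mul_inv_cancel_right] at this
  exact this.eq

/-- The involutions are independent. -/
theorem zSet_not_mem {T : Finset G} (hT : ∀ t ∈ T, t ∈ zSet (jSub P)) {z : G} (hz : z ∈ zSet (jSub P))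
    (hnot : z ∉ T) : z ∉ Subgroup.closure (T : Set G) := by
  obtain ⟨U, h, rfl⟩ := hz
  obtain ⟨x, hx⟩ := id h
  intro hmem
  have hle : Subgroup.closure (T : Set G) ≤ centralizer ({x} : Set G) := by
    rw [Subgroup.closure_le]
    intro t ht
    obtain ⟨U', h', rfl⟩ := hT t ht
    exact mem_centralizer_singleton_iff.2 (x_fixes hx h' fun e => hnot (e ▸ ht)).symm
  exact hx.four.zne (hx.blk.fpf _ hx.four.zmem (mem_centralizer_singleton_iff.1 (hle hmem)).symm)

theorem zClosure_le {R : Subgroup G} {T : Finset G} (hT : ∀ t ∈ T, t ∈ zSet R) :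
    Subgroup.closure (T : Set G) ≤ R := by
  rw [Subgroup.closure_le]
  exact fun t ht => (zSet_central (hT t ht)).1

theorem zClosure_central {R : Subgroup G} {T : Finset G} (hT : ∀ t ∈ T, t ∈ zSet R) {g r : G}
    (hg : g ∈ Subgroup.closure (T : Set G)) (hr : r ∈ R) : r * g = g * r := by
  have hle : Subgroup.closure (T : Set G) ≤ centralizer ({r} : Set G) := by
    rw [Subgroup.closure_le]
    exact fun t ht => mem_centralizer_singleton_iff.2 ((zSet_central (hT t ht)).2.2.2 r hr).symm
  exact (mem_centralizer_singleton_iff.1 (hle hg)).symm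

theorem zClosure_elemAb {R : Subgroup G} {T : Finset G} (hT : ∀ t ∈ T, t ∈ zSet R) :
    Cfsg.IsElementaryAbelian 2 (Subgroup.closure (T : Set G)) :=
  PLocal.elemAb_closure (fun a ha b hb => ((zSet_central (hT b hb)).2.2.2 a (zSet_central (hT a ha)).1))
    fun a ha => by rw [pow_two]; exact (zSet_central (hT a ha)).2.1

theorem mem_closure_insert_invol {T : Set G} {t u : G} (ht : t * t = 1)
    (hc : ∀ s ∈ T, s * t = t * s) (hu : u ∈ Subgroup.closure (insert t T)) :
    u ∈ Subgroup.closure T ∨ t * u ∈ Subgroup.closure T := by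
  rw [Set.insert_eq, Subgroup.closure_union, ← zpowers_eq_closure] at hu
  have hn : Subgroup.closure T ≤ normalizer (zpowers t : Set G) := by
    refine le_trans ?_ (centralizer_le_normalizer _)
    rw [Subgroup.closure_le]
    intro s hs
    refine mem_centralizer_iff.2 ?_
    rintro _ ⟨j, rfl⟩
    exact ((show Commute t s from (hc s hs).symm).zpow_left j).eq
  obtain ⟨a, ha, b, hb, rfl⟩ := (Coprime.mem_sup_iff hn).1 hu
  rcases mem_zpowers_two ht ha with rfl | rfl
  · left; rwa [one_mul]
  · right; rwa [← mul_assoc, ht, one_mul]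

theorem zClosure_card {T : Finset G} (hT : ∀ t ∈ T, t ∈ zSet (jSub P)) :
    Nat.card ↥(Subgroup.closure (T : Set G)) = 2 ^ T.card := by
  classical
  induction T using Finset.induction with
  | empty => simp [Subgroup.closure_empty]
  | @insert t s hnot ih =>
    have hs : ∀ a ∈ s, a ∈ zSet (jSub P) := fun a ha => hT a (Finset.mem_insert_of_mem ha)
    have ht := hT t (Finset.mem_insert_self _ _)
    obtain ⟨-, ht2, ht1, -⟩ := zSet_central ht
    rw [Finset.coe_insert, Set.insert_eq, Subgroup.closure_union, ← zpowers_eq_closure]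
    have hp := PLocal.card_sup_mul_card_inf (H := zpowers t) (K := Subgroup.closure (s : Set G))
      ((show Subgroup.closure (s : Set G) ≤ centralizer (zpowers t : Set G) from fun g hg =>
        mem_centralizer_iff.2 fun c hc => by
          obtain ⟨j, rfl⟩ := hc
          exact ((show Commute t g from zClosure_central hs hg (zSet_central ht).1).zpow_left j).eq).trans
        (centralizer_le_normalizer _))
    have hinf : zpowers t ⊓ Subgroup.closure (s : Set G) = ⊥ := (eq_bot_iff_forall _).2 fun g hg =>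
      (mem_zpowers_two ht2 hg.1).resolve_right fun e => zSet_not_mem hs ht hnot (e ▸ hg.2)
    rw [hinf, Subgroup.card_bot, mul_one, card_zpowers_invol ht2 ht1, ih hs] at hp
    rw [hp, Finset.card_insert_of_notMem hnot, pow_succ']

/-- An element in every `closure (T ∖ {t})` is trivial. -/
theorem eq_one_of_forall_erase [DecidableEq G] {T : Finset G} (hT : ∀ t ∈ T, t ∈ zSet (jSub P)) {u : G}
    (hu : u ∈ Subgroup.closure (T : Set G))
    (h : ∀ t ∈ T, u ∈ Subgroup.closure ((T.erase t : Finset G) : Set G)) : u = 1 := by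
  induction T using Finset.induction generalizing u with
  | empty => simpa [Subgroup.closure_empty] using hu
  | @insert t s hnot ih =>
    have hs : ∀ a ∈ s, a ∈ zSet (jSub P) := fun a ha => hT a (Finset.mem_insert_of_mem ha)
    have ht := hT t (Finset.mem_insert_self _ _)
    obtain ⟨htR, ht2, -, -⟩ := zSet_central ht
    have hus : u ∈ Subgroup.closure (s : Set G) := by
      have := h t (Finset.mem_insert_self _ _)
      rwa [Finset.erase_insert hnot] at this
    refine ih hs hus fun a ha => ?_
    have hne : a ≠ t := fun e => hnot (e ▸ ha)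
    have h1 := h a (Finset.mem_insert_of_mem ha)
    rw [Finset.erase_insert_of_ne hne.symm, Finset.coe_insert] at h1
    refine (mem_closure_insert_invol ht2
      (fun b hb => (zSet_central ht).2.2.2 b (zSet_central (hs b (Finset.mem_of_mem_erase hb))).1) h1).resolve_right
      fun h2 => zSet_not_mem hs ht hnot ?_
    have := mul_mem (Subgroup.closure_mono (Finset.coe_subset.2 (Finset.erase_subset a s)) h2) (inv_mem hus)
    rwa [mul_inv_cancel_right] at this

/-- A family of blocks with distinct involutions. -/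
structure Fam (R : Subgroup G) (F : Finset (Subgroup G)) : Prop where
  mr : ∀ U ∈ F, MR R U
  inj : ∀ U ∈ F, ∀ U' ∈ F, zR R U = zR R U' → U = U'

/-- The join of subgroups of the members. -/
abbrev famSup (g : Subgroup G → Subgroup G) (F : Finset (Subgroup G)) : Subgroup G := F.sup g

theorem famSup_eq_iSup (F : Finset (Subgroup G)) : famSup id F = ⨆ U : F, (U : Subgroup G) := by
  rw [famSup, Finset.sup_eq_iSup, iSup_subtype']; rfl

namespace Fam

variable {R : Subgroup G} {F : Finset (Subgroup G)}

theorem mono (h : Fam R F) {F' : Finset (Subgroup G)} (hle : F' ⊆ F) : Fam R F' :=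
  ⟨fun U hU => h.mr U (hle hU), fun U hU U' hU' e => h.inj U (hle hU) U' (hle hU') e⟩

theorem comm (h : Fam R F) {U U' : Subgroup G} (hU : U ∈ F) (hU' : U' ∈ F) :
    U' ≤ centralizer (U : Set G) := by
  by_cases e : U = U'
  · exact e ▸ (h.mr U hU).four.le_centralizer
  · exact (h.mr U hU).commute_of_ne (h.mr U' hU') fun e' => e (h.inj U hU U' hU' e')

theorem sup_le_cent (h : Fam R F) {U : Subgroup G} (hU : U ∈ F) :
    famSup id F ≤ centralizer (U : Set G) := Finset.sup_le fun _ hU' => h.comm hU hU'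

theorem sup_le (h : Fam R F) : famSup id F ≤ R := Finset.sup_le fun U hU => (h.mr U hU).le

theorem elemAb (h : Fam R F) : Cfsg.IsElementaryAbelian 2 (famSup id F) := by
  rw [famSup_eq_iSup]
  exact PLocal.elemAb_iSup _ (fun U => (h.mr U U.2).four.elemAb) fun U U' => h.comm U'.2 U.2

theorem z_mem_zSet (h : Fam R F) : ∀ t ∈ (zR R '' (F : Set (Subgroup G))), t ∈ zSet R := by
  rintro _ ⟨U, hU, rfl⟩
  exact (h.mr U hU).z_mem_zSet

end Fam

variable {F : Finset (Subgroup G)}

/-- `⟨the involutions⟩`. -/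
abbrev zClo (R : Subgroup G) (F : Finset (Subgroup G)) : Subgroup G :=
  Subgroup.closure (zR R '' (F : Set (Subgroup G)))

theorem Fam.zR_not_mem (h : Fam (jSub P) F) {U : Subgroup G} (hU : MR (jSub P) U)
    (hnot : ∀ U' ∈ F, zR (jSub P) U ≠ zR (jSub P) U') : zR (jSub P) U ∉ zClo (jSub P) F := by
  classical
  have := zSet_not_mem (T := F.image (zR (jSub P))) (fun t ht => by
    obtain ⟨U', hU', rfl⟩ := Finset.mem_image.1 ht
    exact (h.mr U' hU').z_mem_zSet) hU.z_mem_zSet (by
      intro hm
      obtain ⟨U', hU', e⟩ := Finset.mem_image.1 hm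
      exact hnot U' hU' e.symm)
  rwa [Finset.coe_image] at this

theorem Fam.conj_mem_zClo {R : Subgroup G} (h : Fam R F) {r : G} (hr : r ∈ R) {w : G}
    (hw : w ∈ famSup id F) : r * w * r⁻¹ * w⁻¹ ∈ zClo R F := by
  let Y : Subgroup G :=
    { carrier := {g | g ∈ R ∧ r * g * r⁻¹ * g⁻¹ ∈ zClo R F}
      one_mem' := ⟨one_mem _, by simp⟩
      mul_mem' := by
        rintro a b ⟨ha, ha'⟩ ⟨hb, hb'⟩
        refine ⟨mul_mem ha hb, ?_⟩
        have hc : a * (r * b * r⁻¹ * b⁻¹) = (r * b * r⁻¹ * b⁻¹) * a := by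
          classical
          refine zClosure_central (T := F.image (zR R)) (fun t ht => ?_) ?_ ha
          · obtain ⟨U', hU', rfl⟩ := Finset.mem_image.1 ht
            exact (h.mr U' hU').z_mem_zSet
          · rwa [Finset.coe_image]
        rw [show r * (a * b) * r⁻¹ * (a * b)⁻¹ =
          (r * a * r⁻¹ * a⁻¹) * ((a * (r * b * r⁻¹ * b⁻¹)) * a⁻¹) by group, hc, mul_inv_cancel_right]
        exact mul_mem ha' hb'
      inv_mem' := by
        rintro a ⟨ha, ha'⟩
        refine ⟨inv_mem ha, ?_⟩
        have hc : a⁻¹ * (r * a * r⁻¹ * a⁻¹)⁻¹ = (r * a * r⁻¹ * a⁻¹)⁻¹ * a⁻¹ := by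
          classical
          refine zClosure_central (T := F.image (zR R)) (fun t ht => ?_) ?_ (inv_mem ha)
          · obtain ⟨U', hU', rfl⟩ := Finset.mem_image.1 ht
            exact (h.mr U' hU').z_mem_zSet
          · rw [Finset.coe_image]; exact inv_mem ha'
        rw [show r * a⁻¹ * r⁻¹ * a⁻¹⁻¹ = (a⁻¹ * (r * a * r⁻¹ * a⁻¹)⁻¹) * a by group, hc,
          inv_mul_cancel_right]
        exact inv_mem ha' }
  have hle : famSup id F ≤ Y := Finset.sup_le fun U hU v hv => ⟨(h.mr U hU).le hv, by
    rcases (h.mr U hU).choose_spec.conj_cases hr hv with e | e <;> rw [e]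
    · rw [mul_inv_cancel]; exact one_mem _
    · rw [(h.mr U hU).four.comm hv (h.mr U hU).z_mem, mul_inv_cancel_right]
      exact subset_closure ⟨U, hU, rfl⟩⟩
  exact (hle hw).2

/-- Central elements of the product. -/
theorem Fam.central_mem (h : Fam (jSub P) F) {u : G} (hu : u ∈ famSup id F)
    (hc : ∀ r ∈ jSub P, r * u = u * r) : u ∈ zClo (jSub P) F := by
  classical
  induction F using Finset.induction generalizing u with
  | empty =>
    have : u = 1 := by simpa [famSup] using hu
    rw [this]; exact one_mem _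
  | @insert U s hnot ih =>
    have hs : Fam (jSub P) s := h.mono (Finset.subset_insert U s)
    have hU := h.mr U (Finset.mem_insert_self _ _)
    have hne : ∀ U' ∈ s, zR (jSub P) U ≠ zR (jSub P) U' := fun U' hU' e =>
      hnot (h.inj U (Finset.mem_insert_self _ _) U' (Finset.mem_insert_of_mem hU') e ▸ hU')
    have hsC : famSup id s ≤ centralizer (U : Set G) :=
      Finset.sup_le fun U' hU' => h.comm (Finset.mem_insert_self _ _) (Finset.mem_insert_of_mem hU')
    rw [show famSup id (insert U s) = U ⊔ famSup id s from Finset.sup_insert,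
      Coprime.mem_sup_iff (hsC.trans (centralizer_le_normalizer _))] at hu
    obtain ⟨v, hv, w, hw, rfl⟩ := hu
    have hvc : ∀ r ∈ jSub P, r * v = v * r := fun r hr => by
      refine mul_inv_eq_iff_eq_mul.1 ((hU.choose_spec.conj_cases hr hv).resolve_right fun e => ?_)
      exact (hs.zR_not_mem hU hne (by
        have h1 := hs.conj_mem_zClo hr hw
        have h2 : r * (v * w) * r⁻¹ = v * w := by rw [hc r hr, mul_inv_cancel_right]
        rw [show r * (v * w) * r⁻¹ = (r * v * r⁻¹) * (r * w * r⁻¹) by group, e, mul_assoc] at h2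
        have h3 := mul_left_cancel h2
        rw [← inv_mem_iff,
          show (zR (jSub P) U)⁻¹ = r * w * r⁻¹ * w⁻¹ from eq_mul_inv_of_mul_eq (inv_mul_eq_iff_eq_mul.2 h3.symm)]
        exact h1))
    have hwc : ∀ r ∈ jSub P, r * w = w * r := fun r hr => by
      have := (Commute.inv_right (show Commute r v from hvc r hr)).mul_right (show Commute r (v * w) from hc r hr)
      rw [inv_mul_cancel_left] at this
      exact this.eq
    have hmono : zClo (jSub P) s ≤ zClo (jSub P) (insert U s) :=
      Subgroup.closure_mono (Set.image_mono (Finset.coe_subset.2 (Finset.subset_insert U s)))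
    refine mul_mem ?_ (hmono (ih hs hw hwc))
    rcases hU.choose_spec.eq_of_central hv hvc with rfl | rfl
    · exact one_mem _
    · exact subset_closure ⟨U, Finset.mem_insert_self _ _, rfl⟩

theorem Fam.disjoint (h : Fam (jSub P) F) {U : Subgroup G} (hU : MR (jSub P) U)
    (hne : ∀ U' ∈ F, zR (jSub P) U ≠ zR (jSub P) U') : U ⊓ famSup id F = ⊥ := by
  refine (eq_bot_iff_forall _).2 fun u hu => ?_
  have hc : ∀ r ∈ jSub P, r * u = u * r := fun r hr => by
    refine mul_inv_eq_iff_eq_mul.1 ((hU.choose_spec.conj_cases hr hu.1).resolve_right fun e => ?_)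
    have h1 := h.conj_mem_zClo hr hu.2
    rw [e, hU.four.comm hu.1 hU.z_mem, mul_inv_cancel_right] at h1
    exact h.zR_not_mem hU hne h1
  exact (hU.choose_spec.eq_of_central hu.1 hc).resolve_right fun e =>
    h.zR_not_mem hU hne (e ▸ h.central_mem hu.2 hc)

theorem Fam.card_sup (h : Fam (jSub P) F) (g : Subgroup G → Subgroup G) (hg : ∀ U ∈ F, g U ≤ U) :
    Nat.card ↥(famSup g F) = ∏ U ∈ F, Nat.card ↥(g U) := by
  classical
  induction F using Finset.induction with
  | empty => simp [famSup]
  | @insert U s hnot ih =>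
    have hs : Fam (jSub P) s := h.mono (Finset.subset_insert U s)
    have hU := h.mr U (Finset.mem_insert_self _ _)
    have hne : ∀ U' ∈ s, zR (jSub P) U ≠ zR (jSub P) U' := fun U' hU' e =>
      hnot (h.inj U (Finset.mem_insert_self _ _) U' (Finset.mem_insert_of_mem hU') e ▸ hU')
    have hgU := hg U (Finset.mem_insert_self _ _)
    have hle : famSup g s ≤ famSup id s :=
      Finset.sup_mono_fun fun U' hU' => hg U' (Finset.mem_insert_of_mem hU')
    rw [show famSup g (insert U s) = g U ⊔ famSup g s from Finset.sup_insert, Finset.prod_insert hnot]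
    have hc : famSup id s ≤ centralizer (U : Set G) :=
      Finset.sup_le fun U' hU' => h.comm (Finset.mem_insert_self _ _) (Finset.mem_insert_of_mem hU')
    have hp := PLocal.card_sup_mul_card_inf (H := g U) (K := famSup g s)
      ((hle.trans (hc.trans (centralizer_le (SetLike.coe_subset_coe.2 hgU)))).trans (centralizer_le_normalizer _))
    rw [le_bot_iff.1 ((inf_le_inf hgU hle).trans (hs.disjoint hU hne).le), Subgroup.card_bot, mul_one,
      ih hs fun U' hU' => hg U' (Finset.mem_insert_of_mem hU')] at hp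
    exact hp

/-- Coordinates: components forced into smaller subgroups. -/
theorem Fam.mem_famSup (h : Fam (jSub P) F) [DecidableEq (Subgroup G)] (g : Subgroup G → Subgroup G)
    (hg : ∀ U ∈ F, g U ≤ U) {u : G} (hu : u ∈ famSup id F)
    (hc : ∀ U ∈ F, g U = U ∨ u ∈ g U ⊔ famSup id (F.erase U)) : u ∈ famSup g F := by
  induction F using Finset.induction generalizing u with
  | empty => simpa [famSup] using hu
  | @insert U s hnot ih =>
    have hs : Fam (jSub P) s := h.mono (Finset.subset_insert U s)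
    have hU := h.mr U (Finset.mem_insert_self _ _)
    have hne : ∀ U' ∈ s, zR (jSub P) U ≠ zR (jSub P) U' := fun U' hU' e =>
      hnot (h.inj U (Finset.mem_insert_self _ _) U' (Finset.mem_insert_of_mem hU') e ▸ hU')
    have hd := hs.disjoint hU hne
    have hgU := hg U (Finset.mem_insert_self _ _)
    have hC : famSup id s ≤ normalizer (U : Set G) :=
      (Finset.sup_le fun U' hU' => h.comm (Finset.mem_insert_self _ _) (Finset.mem_insert_of_mem hU')).trans
        (centralizer_le_normalizer _)
    have huniq : ∀ a ∈ U, ∀ b ∈ famSup id s, ∀ a' ∈ U, ∀ b' ∈ famSup id s, a * b = a' * b' → a = a' ∧ b = b' := by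
      intro a ha b hb a' ha' b' hb' e
      have h1 : a'⁻¹ * a ∈ U ⊓ famSup id s := ⟨U.mul_mem (U.inv_mem ha') ha, by
        rw [show a'⁻¹ * a = b' * b⁻¹ from eq_mul_inv_of_mul_eq (by rw [mul_assoc, e, inv_mul_cancel_left])]
        exact (famSup id s).mul_mem hb' ((famSup id s).inv_mem hb)⟩
      rw [hd, mem_bot, inv_mul_eq_one] at h1
      exact ⟨h1.symm, mul_left_cancel (h1 ▸ e)⟩
    rw [show famSup id (insert U s) = U ⊔ famSup id s from Finset.sup_insert, Coprime.mem_sup_iff hC] at hu
    obtain ⟨v, hv, w, hw, rfl⟩ := hu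
    rw [show famSup g (insert U s) = g U ⊔ famSup g s from Finset.sup_insert]
    refine mul_mem (mem_sup_left ?_) (mem_sup_right (ih hs (fun U' hU' => hg U' (Finset.mem_insert_of_mem hU')) hw
      fun U' hU' => ?_))
    · rcases hc U (Finset.mem_insert_self _ _) with e | e
      · rw [e]; exact hv
      · have hC2 : famSup id s ≤ normalizer (g U : Set G) :=
          (Finset.sup_le fun U' hU' => (h.comm (Finset.mem_insert_self _ _) (Finset.mem_insert_of_mem hU')).trans
            (centralizer_le (SetLike.coe_subset_coe.2 hgU))).trans (centralizer_le_normalizer _)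
        rw [Finset.erase_insert hnot, Coprime.mem_sup_iff hC2] at e
        obtain ⟨v', hv', w', hw', e⟩ := e
        obtain ⟨rfl, -⟩ := huniq v hv w hw v' (hgU hv') w' hw' e.symm
        exact hv'
    · have hne' : U' ≠ U := fun e => hnot (e ▸ hU')
      refine (hc U' (Finset.mem_insert_of_mem hU')).imp_right fun e => ?_
      rw [Finset.erase_insert_of_ne hne'.symm,
        show famSup id (insert U (s.erase U')) = U ⊔ famSup id (s.erase U') from Finset.sup_insert,
        ← sup_assoc, sup_comm (g U'), sup_assoc] at e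
      have hle : g U' ⊔ famSup id (s.erase U') ≤ famSup id s :=
        _root_.sup_le ((hg U' (Finset.mem_insert_of_mem hU')).trans (Finset.le_sup (f := id) hU'))
          (Finset.sup_mono (Finset.erase_subset U' s))
      rw [Coprime.mem_sup_iff (hle.trans hC)] at e
      obtain ⟨v', hv', w', hw', e⟩ := e
      obtain ⟨-, rfl⟩ := huniq v hv w hw v' hv' w' (hle hw') e.symm
      exact hw'

end Cfsg.Agent.EvenNilp
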