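import Cfsg.Agent.Lib.EvenNilp.JCount

/-!
# A block over a largest Sylow subgroup (helper46)

`Top.exists_orb`: the block of the minimal non-2-nilpotent group over `P`, read in `G`.
-/

set_option autoImplicit false
set_option linter.unusedSectionVars false
set_option linter.style.haveILetI false

namespace Cfsg.Agent.EvenNilp

open Subgroup CoprimeNilMax
open scoped Pointwise commutatorElement

universe u v

variable {A : Type v} [Group A] [Finite A] {G : Type u} [Group G] [Finite G]

theorem map_cent_inf {H : Subgroup G} {U T : Subgroup H} :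
    ((T ⊓ centralizer (U : Set H)).map H.subtype) =
      T.map H.subtype ⊓ centralizer ((U.map H.subtype : Subgroup G) : Set G) := by
  refine le_antisymm ?_ ?_
  · rintro _ ⟨g, hg, rfl⟩
    refine ⟨⟨g, hg.1, rfl⟩, mem_centralizer_iff.2 ?_⟩
    rintro _ ⟨u, hu, rfl⟩
    exact congrArg H.subtype (mem_centralizer_iff.1 hg.2 u hu)
  · rintro _ ⟨⟨g, hg, rfl⟩, hc⟩
    exact ⟨g, ⟨hg, mem_centralizer_iff.2 fun u hu =>
      H.subtype_injective (mem_centralizer_iff.1 hc _ ⟨u, hu, rfl⟩)⟩, rfl⟩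

theorem jSub_map_subtype {H : Subgroup G} (T : Subgroup H) :
    (jSub T).map H.subtype = jSub (T.map H.subtype) :=
  PLocal.map_thompsonSubgroupOf _ H.subtype_injective.injOn

theorem Top.exists_orb {φ : A →* MulAut G} {S : Sylow 2 G} {D P : Subgroup G} (H : Hyp φ S)
    (t : Top S D P) : ∃ V x z, Orb P V x z := by
  classical
  obtain ⟨M, ⟨hPM, hMN, hMnc⟩, hmin⟩ := Set.exists_min_image
    {M : Subgroup G | P ≤ M ∧ M ≤ normalizer (D : Set G) ∧ ¬ Cfsg.HasNormalPComplement 2 M}
    (fun M => Nat.card M) (Set.toFinite _) ⟨_, t.le_norm, le_rfl, t.nn⟩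
  have hmap : (P.subgroupOf M).map M.subtype = P := by
    rw [subgroupOf_map_subtype, inf_eq_left.2 hPM]
  let PM : Sylow 2 M :=
    { toSubgroup := P.subgroupOf M
      isPGroup' := t.isPGroup.of_equiv (subgroupOfEquivOfLe hPM).symm
      is_maximal' := fun {Q} hQ hle => by
        have h1 := t.maximal (Q.map M.subtype) (hQ.map _) (by
          intro g hg
          exact ⟨⟨g, hPM hg⟩, hle hg, rfl⟩) ((map_subtype_le Q).trans hMN)
        rw [subgroupOf, ← h1, comap_map_eq_self_of_injective M.subtype_injective] }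
  have hPM' : (PM : Subgroup M) = P.subgroupOf M := rfl
  have hD2 : IsPGroup 2 (D.subgroupOf M) :=
    t.good.1.of_equiv (subgroupOfEquivOfLe (t.D_le.trans hPM)).symm
  haveI hDn : (D.subgroupOf M).Normal := (normal_subgroupOf_iff_le_normalizer (t.D_le.trans hPM)).2 hMN
  have hMin : Min PM := by
    refine ⟨hMnc, fun Y hY hne => ?_, ?_, fun W hW hn hz => ?_⟩
    · by_contra hnc
      have hP : P ≤ Y.map M.subtype := fun g hg => ⟨⟨g, hPM hg⟩, hY hg, rfl⟩
      have h2 := hmin (Y.map M.subtype) ⟨hP, (map_subtype_le Y).trans hMN, fun h => hnc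
        (Transfer.hasNormalPComplement_of_equiv h (Y.equivMapOfInjective _ M.subtype_injective).symm)⟩
      rw [card_map_of_injective M.subtype_injective] at h2
      exact hne ((card_eq_iff_eq_top Y).1 (le_antisymm (card_le_card_group Y) h2))
    · set C := centralizer (Cfsg.pCore 2 M : Set M)
      have hle : C.map M.subtype ≤ centralizer (D : Set G) := by
        rintro _ ⟨g, hg, rfl⟩
        exact mem_centralizer_iff.2 fun d hd => congrArg M.subtype
          (mem_centralizer_iff.1 hg ⟨d, hPM (t.D_le hd)⟩ (Cores.le_pCore hDn hD2 hd))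
      exact Transfer.hasNormalPComplement_of_equiv (hnpc_mono hle t.good.2)
        (C.equivMapOfInjective _ M.subtype_injective).symm
    · -- a characteristic subgroup of `P` normalised by `M`
      have hW0 : IsCh (W.map M.subtype) P := by
        refine ⟨(map_mono hW.1).trans hmap.le, fun f a ha => ?_⟩
        obtain ⟨w, hw, hwa⟩ := ha
        let e : ↥(P.subgroupOf M) ≃* P := subgroupOfEquivOfLe hPM
        let f' : ↥(PM : Subgroup M) ≃* ↥(PM : Subgroup M) := (e.trans f).trans e.symm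
        have h1 := hW.2 f' ⟨w, hW.1 hw⟩ hw
        have he : e ⟨w, hW.1 hw⟩ = a := Subtype.ext hwa
        refine ⟨_, h1, ?_⟩
        show M.subtype ((e.symm (f (e ⟨w, hW.1 hw⟩)) : ↥(P.subgroupOf M)) : M) = (f a : G)
        rw [he]; rfl
      have hz0 : zSub P ≤ W.map M.subtype := fun g hg => by
        obtain ⟨hgP, hgc, hg2⟩ := mem_zSub.1 hg
        refine ⟨⟨g, hPM hgP⟩, hz (mem_zSub.2 ⟨hgP, fun p hp => Subtype.ext (hgc p hp), Subtype.ext hg2⟩), rfl⟩
      have hg0 := t.good_of_le H (t.isPGroup.to_le hW0.1) hz0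
      refine t.not_nn_of_char H hW0 hg0 (fun e => t.zP_ne_bot H (le_bot_iff.1 (e ▸ hz0))) ?_
      intro hcomp
      refine hMnc (hnpc_mono ?_ hcomp)
      intro m hm
      refine Coprime.mem_normalizer_of_forall ?_
      rintro _ ⟨w, hw, rfl⟩
      exact ⟨⟨m, hm⟩ * w * ⟨m, hm⟩⁻¹, hn.conj_mem w hw _, rfl⟩
  obtain ⟨V, x, z, ho⟩ := hMin.exists_orb
  set V' := V.map M.subtype with hV'
  have hQ : ((PM : Subgroup M) ⊓ centralizer (V : Set M)).map M.subtype = P ⊓ centralizer (V' : Set G) := by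
    rw [map_cent_inf, hPM', hmap]
  have hmapconj : ∀ r : M, (V.map (MulAut.conj r).toMonoidHom).map M.subtype =
      V'.map (MulAut.conj (r : G)).toMonoidHom := fun r => by
    rw [hV', map_map, map_map]; congr 1
  refine ⟨V', (x : G), (z : G), ?_, ?_, ?_, ?_, ?_, ?_⟩
  · exact (map_mono ho.vP).trans hmap.le
  · exact ⟨by rw [hV', card_map_of_injective M.subtype_injective, ho.four.card],
      by rintro _ ⟨v, hv, rfl⟩; exact congrArg M.subtype (ho.four.sq v hv),
      ⟨z, ho.four.zmem, rfl⟩, fun e => ho.four.zne (Subtype.ext e)⟩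
  · exact
    { vle := hQ ▸ map_mono ho.blk.vle
      four := ⟨(z : G), by rw [hV', card_map_of_injective M.subtype_injective, ho.four.card],
        by rintro _ ⟨v, hv, rfl⟩; exact congrArg M.subtype (ho.four.sq v hv),
        ⟨z, ho.four.zmem, rfl⟩, fun e => ho.four.zne (Subtype.ext e)⟩
      vcent := by
        rintro _ ⟨v, hv, rfl⟩ q hq
        obtain ⟨q, hq', rfl⟩ := hQ.ge hq
        exact congrArg M.subtype (ho.blk.vcent v hv q hq')
      odd := by rw [Subgroup.orderOf_coe]; exact ho.blk.odd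
      conjQ := fun q hq => by
        obtain ⟨q, hq', rfl⟩ := hQ.ge hq
        exact hQ.le ⟨_, ho.blk.conjQ q hq', rfl⟩
      comm := fun q hq => by
        obtain ⟨q, hq', rfl⟩ := hQ.ge hq
        exact ⟨_, ho.blk.comm q hq', rfl⟩
      fpf := by
        rintro _ ⟨v, hv, rfl⟩ he
        rw [show v = 1 from ho.blk.fpf v hv (Subtype.ext he), map_one] }
  · intro r hr hrN q hq hx
    obtain ⟨q, hq', rfl⟩ := hQ.ge hq
    have hrN' : (⟨r, hPM hr⟩ : M) ∈ normalizer (V : Set M) := Coprime.mem_normalizer_of_forall fun v hv => by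
      obtain ⟨w, hw, he⟩ := (mem_normalizer_iff.1 hrN (v : G)).1 ⟨v, hv, rfl⟩
      have : w = (⟨r, hPM hr⟩ : M) * v * (⟨r, hPM hr⟩ : M)⁻¹ := Subtype.ext he
      exact this ▸ hw
    exact congrArg M.subtype (ho.inv ⟨r, hPM hr⟩ hr hrN' q hq' (Subtype.ext hx))
  · intro r hr hne
    have e := hmapconj ⟨r, hPM hr⟩
    rw [show ((⟨r, hPM hr⟩ : M) : G) = r from rfl] at e
    obtain ⟨h1, h2⟩ := ho.sep ⟨r, hPM hr⟩ hr fun e' => hne (by rw [← e, e'])
    rw [← e]
    refine ⟨mem_centralizer_iff.2 ?_, ?_⟩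
    · rintro _ ⟨w, hw, rfl⟩
      exact congrArg M.subtype (mem_centralizer_iff.1 h1 w hw)
    · rintro _ ⟨w, hw, rfl⟩
      refine mem_centralizer_iff.2 ?_
      rintro _ ⟨v, hv, rfl⟩
      exact congrArg M.subtype (mem_centralizer_iff.1 (h2 hw) v hv)
  · intro hle
    refine ho.move fun j hj => mem_centralizer_iff.2 fun v hv => Subtype.ext ?_
    have hj' : (j : G) ∈ jSub P := by
      rw [← hmap, ← jSub_map_subtype]; exact ⟨j, hj, rfl⟩
    exact mem_centralizer_iff.1 (hle hj') (v : G) ⟨v, hv, rfl⟩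

end Cfsg.Agent.EvenNilp
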