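import Cfsg.Agent.Lib.EvenNilp.Lift
import Cfsg.Agent.Lib.Signalizer.PAction

/-!
# Counting in `P` (helper46)

For a block `(V, x)` in `P` with its conjugates: every elementary abelian subgroup of largest order of `P`
normalises `V`, and `V ≤ J(P)`; so `V` is a block in `J(P)`.
-/

set_option autoImplicit false
set_option linter.unusedSectionVars false
set_option linter.style.haveILetI false

namespace Cfsg.Agent.EvenNilp

open Subgroup
open scoped Pointwise commutatorElement

universe u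

variable {G : Type u} [Group G] [Finite G]

theorem exists_fixed_invol {V N : Subgroup G} {z : G} (hV : IsFour V z) (hN : IsPGroup 2 N)
    (hNV : N ≤ normalizer (V : Set G)) : ∃ z', IsFour V z' ∧ ∀ n ∈ N, n * z' = z' * n := by
  classical
  have hcard : Nat.card ↥((V : Set G) \ {1}) = 3 := by
    rw [Nat.card_coe_set_eq, Set.ncard_sdiff_singleton_of_mem V.one_mem,
      show (V : Set G).ncard = Nat.card V from rfl, hV.card]
  obtain ⟨x, ⟨hxV, hx1⟩, hx⟩ := Signalizer.exists_fixed_mem hN ((V : Set G) \ {1})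
    (by rw [hcard]; norm_num) fun a ha y hy =>
      ⟨(mem_normalizer_iff.1 (hNV ha) y).1 hy.1, fun e => hy.2 (by simpa using e)⟩
  exact ⟨x, ⟨hV.card, hV.sq, hxV, hx1⟩, fun n hn => mul_inv_eq_iff_eq_mul.1 (hx n hn)⟩

theorem relIndex_centralizer_le_two {V N : Subgroup G} {z : G} (hV : IsFour V z)
    (hNV : N ≤ normalizer (V : Set G)) (hz : ∀ n ∈ N, n * z = z * n) :
    (centralizer (V : Set G)).relIndex N ≤ 2 := by
  by_cases h : N ≤ centralizer (V : Set G)
  · rw [relIndex_eq_one.2 h]; norm_num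
  obtain ⟨a, ha, haC⟩ := SetLike.not_le_iff_exists.1 h
  refine le_of_eq (index_eq_two_iff.2 ⟨⟨a, ha⟩, fun b => ?_⟩)
  simp only [Subgroup.mem_subgroupOf, Subgroup.coe_mul]
  by_cases hb : (b : G) ∈ centralizer (V : Set G)
  · exact Or.inr ⟨hb, fun h => haC ((Subgroup.mul_mem_cancel_left _ hb).1 h)⟩
  · exact Or.inl ⟨hV.mul_mem_centralizer (hNV b.2) (hz b b.2) hb (hNV ha) (hz a ha) haC, hb⟩

/-- One four group normalised by a member. -/
theorem elemMax_step {X A V : Subgroup G} {z : G} (hA : A ∈ elemMax X) (hV : IsFour V z)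
    (hVX : V ≤ X) (hN : A ≤ normalizer (V : Set G)) :
    (A ⊓ centralizer (V : Set G)) ⊔ V ∈ elemMax X := by
  refine (exchange hA hV.elemAb hVX).2 ?_
  rw [hV.card]
  by_cases h : A ≤ centralizer (V : Set G)
  · rw [relIndex_eq_one.2 h, one_mul, ← hV.card]
    exact Subgroup.card_le_of_le inf_le_left
  obtain ⟨z', hV', hfix⟩ := exists_fixed_invol hV (PLocal.elemAb_isPGroup hA.2.1) hN
  obtain ⟨a, ha, haC⟩ := SetLike.not_le_iff_exists.1 h
  have hle : V ⊓ A ≤ zpowers z' := fun v hv => by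
    by_contra hne
    refine haC (hV'.centralizes_of_fix (hfix a ha) hv.1 (fun e => hne (e ▸ one_mem _))
      (fun e => hne (e ▸ mem_zpowers z')) (PLocal.elemAb_comm hA.2.1 ha hv.2))
  have h2 : Nat.card ↥(zpowers z') ≤ 2 := by
    rw [Nat.card_zpowers]
    exact orderOf_le_of_pow_eq_one two_pos (by rw [pow_two]; exact hV'.sq z' hV'.zmem)
  exact le_trans (Nat.mul_le_mul (relIndex_centralizer_le_two hV' hN hfix)
    ((Subgroup.card_le_of_le hle).trans h2)) le_rfl

theorem four_mul_lt_pow {M : ℕ} (hM : 2 ≤ M) : 4 * M < 4 ^ M := by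
  induction M, hM using Nat.le_induction with
  | base => norm_num
  | succ n hn ih => rw [pow_succ]; omega

/-- Conjugation preserves the data of a block. -/
theorem Orb.conj {P V : Subgroup G} {x z : G} (h : Orb P V x z) {g : G} (hg : g ∈ P) :
    Orb P (V.map (MulAut.conj g).toMonoidHom) (g * x * g⁻¹) (g * z * g⁻¹) := by
  set e := MulAut.conj g with he
  have hP : P.map e.toMonoidHom = P := mem_normalizer_iff_map_conj_eq.1 (le_normalizer hg)
  have hQ : (P ⊓ centralizer (V : Set G)).map e.toMonoidHom =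
      P ⊓ centralizer ((V.map e.toMonoidHom : Subgroup G) : Set G) :=
    (Subgroup.map_inf _ _ _ e.injective).trans (congrArg₂ (· ⊓ ·) hP (map_cent e V))
  refine ⟨hP ▸ map_mono h.vP, h.four.map e, ?_, ?_, ?_, ?_⟩
  · have := h.blk.map e
    rw [hQ] at this
    exact this
  · intro r hr hrN q hq hxq
    obtain ⟨s, hs, rfl⟩ := hQ.ge hq
    have hN : g⁻¹ * r * g ∈ normalizer (V : Set G) := by
      obtain ⟨n, hn, hne⟩ := (map_norm e V).ge hrN
      have : g * n * g⁻¹ = r := hne
      rw [← this]; simpa [mul_assoc] using hn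
    have hxs : x * s = s * x := by
      have h1 : (g * x * g⁻¹) * (g * s * g⁻¹) = (g * s * g⁻¹) * (g * x * g⁻¹) := hxq
      calc x * s = g⁻¹ * ((g * x * g⁻¹) * (g * s * g⁻¹)) * g := by group
        _ = g⁻¹ * ((g * s * g⁻¹) * (g * x * g⁻¹)) * g := by rw [h1]
        _ = s * x := by group
    have h2 := h.inv _ (P.mul_mem (P.mul_mem (inv_mem hg) hr) hg) hN s hs hxs
    show (g * x * g⁻¹) * (r * (g * s * g⁻¹) * r⁻¹) = (r * (g * s * g⁻¹) * r⁻¹) * (g * x * g⁻¹)
    calc (g * x * g⁻¹) * (r * (g * s * g⁻¹) * r⁻¹)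
        = g * (x * ((g⁻¹ * r * g) * s * (g⁻¹ * r * g)⁻¹)) * g⁻¹ := by group
      _ = g * (((g⁻¹ * r * g) * s * (g⁻¹ * r * g)⁻¹) * x) * g⁻¹ := by rw [h2]
      _ = _ := by group
  · intro r hr hne
    have hmap : (V.map e.toMonoidHom).map (MulAut.conj r).toMonoidHom =
        (V.map (MulAut.conj (g⁻¹ * r * g)).toMonoidHom).map e.toMonoidHom := by
      rw [map_map, map_map]; congr 1; ext t; simp [he, mul_assoc]
    rw [hmap] at hne ⊢
    have hne' : V.map (MulAut.conj (g⁻¹ * r * g)).toMonoidHom ≠ V := fun e' => hne (by rw [e'])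
    obtain ⟨h1, h2⟩ := h.sep _ (P.mul_mem (P.mul_mem (inv_mem hg) hr) hg) hne'
    exact ⟨(map_cent e _).le ⟨x, h1, rfl⟩, (map_mono h2).trans (map_cent e V).le⟩
  · intro hle
    refine h.move fun j hj => mem_centralizer_iff.2 fun v hv => ?_
    have h1 : g * j * g⁻¹ ∈ jSub P :=
      (mem_normalizer_iff.1 ((isCh_jSub P).le_normalizer' hg) j).1 hj
    have h2 := mem_centralizer_iff.1 (hle h1) (g * v * g⁻¹) ⟨v, hv, rfl⟩
    have h3 : g * (v * j) * g⁻¹ = g * (j * v) * g⁻¹ := by
      calc g * (v * j) * g⁻¹ = g * v * g⁻¹ * (g * j * g⁻¹) := by group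
        _ = g * j * g⁻¹ * (g * v * g⁻¹) := h2
        _ = g * (j * v) * g⁻¹ := by group
    simpa using h3

/-- A conjugate of `V` under `P`. -/
def Sib (P V U : Subgroup G) : Prop := ∃ g ∈ P, V.map (MulAut.conj g).toMonoidHom = U

theorem Sib.orb {P V U : Subgroup G} {x z : G} (h : Orb P V x z) (hU : Sib P V U) :
    ∃ xU zU, Orb P U xU zU := by
  obtain ⟨g, hg, rfl⟩ := hU
  exact ⟨_, _, h.conj hg⟩

theorem Sib.self (P V : Subgroup G) : Sib P V V := by
  refine ⟨1, one_mem _, ?_⟩
  conv_rhs => rw [← Subgroup.map_id V]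
  congr 1; ext t; simp

theorem Sib.conj {P V U : Subgroup G} (hU : Sib P V U) {g : G} (hg : g ∈ P) :
    Sib P V (U.map (MulAut.conj g).toMonoidHom) := by
  obtain ⟨h, hh, rfl⟩ := hU
  refine ⟨g * h, P.mul_mem hg hh, ?_⟩
  rw [map_map]; congr 1; ext t; simp [mul_assoc]

/-- Distinct conjugates separate. -/
theorem Sib.sep {P V U U' : Subgroup G} {x z xU zU : G} (h : Orb P V x z) (hU : Sib P V U)
    (hU' : Sib P V U') (ho : Orb P U xU zU) (hne : U' ≠ U) :
    xU ∈ centralizer (U' : Set G) ∧ U' ≤ centralizer (U : Set G) := by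
  obtain ⟨g, hg, rfl⟩ := hU
  obtain ⟨g', hg', rfl⟩ := hU'
  have e : (V.map (MulAut.conj g).toMonoidHom).map (MulAut.conj (g' * g⁻¹)).toMonoidHom =
      V.map (MulAut.conj g').toMonoidHom := by
    rw [map_map]; congr 1; ext t; simp [mul_assoc]
  have := ho.sep _ (P.mul_mem hg' (inv_mem hg)) (e.symm ▸ hne)
  rwa [e] at this

theorem Sib.commute {P V U U' : Subgroup G} {x z : G} (h : Orb P V x z) (hU : Sib P V U)
    (hU' : Sib P V U') : U' ≤ centralizer (U : Set G) := by
  obtain ⟨xU, zU, ho⟩ := hU.orb h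
  by_cases e : U' = U
  · exact e ▸ ho.four.le_centralizer
  · exact (Sib.sep h hU hU' ho e).2

/-- The join of a finite set of conjugates. -/
abbrev sibSup (s : Finset (Subgroup G)) : Subgroup G := s.sup id

theorem sibSup_le_centralizer {P V : Subgroup G} {x z : G} (h : Orb P V x z) {s : Finset (Subgroup G)}
    (hs : ∀ U ∈ s, Sib P V U) {U : Subgroup G} (hU : Sib P V U) :
    sibSup s ≤ centralizer (U : Set G) :=
  Finset.sup_le fun _ hW => Sib.commute h hU (hs _ hW)

theorem sibSup_le_cent_x {P V : Subgroup G} {x z : G} (h : Orb P V x z) {s : Finset (Subgroup G)}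
    (hs : ∀ U ∈ s, Sib P V U) {U : Subgroup G} (hU : Sib P V U) {xU zU : G} (ho : Orb P U xU zU)
    (hnot : U ∉ s) : sibSup s ≤ centralizer ({xU} : Set G) :=
  Finset.sup_le fun W hW u hu => mem_centralizer_singleton_iff.2
    (mem_centralizer_iff.1 (Sib.sep h hU (hs _ hW) ho (ne_of_mem_of_not_mem hW hnot)).1 u hu)

theorem sibSup_disjoint {P V : Subgroup G} {x z : G} (h : Orb P V x z) {s : Finset (Subgroup G)}
    (hs : ∀ U ∈ s, Sib P V U) {U : Subgroup G} (hU : Sib P V U) (hnot : U ∉ s) :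
    U ⊓ sibSup s = ⊥ := by
  obtain ⟨xU, zU, ho⟩ := hU.orb h
  refine (eq_bot_iff_forall _).2 fun u hu => ho.blk.fpf u hu.1 ?_
  exact (mem_centralizer_singleton_iff.1 (sibSup_le_cent_x h hs hU ho hnot hu.2)).symm

theorem sibSup_elemAb {P V : Subgroup G} {x z : G} (h : Orb P V x z) {s : Finset (Subgroup G)}
    (hs : ∀ U ∈ s, Sib P V U) :
    Cfsg.IsElementaryAbelian 2 (sibSup s) ∧ Nat.card ↥(sibSup s) = 4 ^ s.card := by
  classical
  induction s using Finset.induction with
  | empty => exact ⟨PLocal.elemAb_bot, by simp [sibSup]⟩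
  | @insert U s hnot ih =>
    obtain ⟨h1, h2⟩ := ih fun W hW => hs W (Finset.mem_insert_of_mem hW)
    obtain ⟨xU, zU, ho⟩ := (hs U (Finset.mem_insert_self _ _)).orb h
    have hc := sibSup_le_centralizer h (fun W hW => hs W (Finset.mem_insert_of_mem hW))
      (hs U (Finset.mem_insert_self _ _))
    rw [show sibSup (insert U s) = U ⊔ sibSup s from Finset.sup_insert]
    refine ⟨PLocal.elemAb_sup ho.four.elemAb h1 (le_centralizer_iff.1 hc), ?_⟩
    have hp := PLocal.card_sup_mul_card_inf (H := U) (K := sibSup s) (hc.trans (centralizer_le_normalizer _))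
    rw [sibSup_disjoint h (fun W hW => hs W (Finset.mem_insert_of_mem hW))
      (hs U (Finset.mem_insert_self _ _)) hnot, Subgroup.card_bot, mul_one, ho.four.card, h2] at hp
    rw [hp, Finset.card_insert_of_notMem hnot, pow_succ']

/-- An element centralised by all the elements `x` of the members is trivial. -/
theorem sibSup_fpf {P V : Subgroup G} {x z : G} (h : Orb P V x z) {s : Finset (Subgroup G)}
    (hs : ∀ U ∈ s, Sib P V U) {u : G} (hu : u ∈ sibSup s)
    (hall : ∀ U ∈ s, ∃ xU zU, Orb P U xU zU ∧ xU * u = u * xU) : u = 1 := by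
  classical
  induction s using Finset.induction generalizing u with
  | empty => simpa [sibSup] using hu
  | @insert U s hnot ih =>
    have hs' : ∀ W ∈ s, Sib P V W := fun W hW => hs W (Finset.mem_insert_of_mem hW)
    have hUs := hs U (Finset.mem_insert_self _ _)
    rw [show sibSup (insert U s) = U ⊔ sibSup s from Finset.sup_insert,
      Coprime.mem_sup_iff ((sibSup_le_centralizer h hs' hUs).trans (centralizer_le_normalizer _))] at hu
    obtain ⟨v, hv, w, hw, rfl⟩ := hu
    obtain ⟨xU, zU, ho, hx⟩ := hall U (Finset.mem_insert_self _ _)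
    have hxw : Commute xU w :=
      (mem_centralizer_singleton_iff.1 (sibSup_le_cent_x h hs' hUs ho hnot hw)).symm
    have hxv : Commute xU v := by
      have := (show Commute xU (v * w) from hx).mul_right hxw.inv_right
      rwa [mul_inv_cancel_right] at this
    rw [ho.blk.fpf v hv hxv.eq, one_mul]
    refine ih hs' hw fun W hW => ?_
    obtain ⟨xW, zW, hoW, hxW⟩ := hall W (Finset.mem_insert_of_mem hW)
    rw [ho.blk.fpf v hv hxv.eq, one_mul] at hxW
    exact ⟨xW, zW, hoW, hxW⟩

/-- Every member normalises `V`. -/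
theorem Orb.max_normalizes {P V : Subgroup G} {x z : G} (hP : IsPGroup 2 P) (h : Orb P V x z)
    {A : Subgroup G} (hA : A ∈ elemMax P) : A ≤ normalizer (V : Set G) := by
  classical
  by_contra hnot
  set A1 := A ⊓ normalizer (V : Set G) with hA1
  have hA1N : A1 ≤ normalizer (V : Set G) := inf_le_right
  obtain ⟨z', hF, hz'⟩ := exists_fixed_invol h.four (hP.to_le (inf_le_left.trans hA.1)) hA1N
  set O : Finset (Subgroup G) :=
    (Set.toFinite ((fun a : G => V.map (MulAut.conj a).toMonoidHom) '' (A : Set G))).toFinset with hO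
  have hmemO : ∀ U, U ∈ O ↔ ∃ a ∈ A, V.map (MulAut.conj a).toMonoidHom = U := fun U => by
    simp [hO, Set.mem_image]
  have hsib : ∀ U ∈ O, Sib P V U := fun U hU => by
    obtain ⟨a, ha, rfl⟩ := (hmemO U).1 hU
    exact ⟨a, hA.1 ha, rfl⟩
  have hV1 : V.map (MulAut.conj (1 : G)).toMonoidHom = V := by
    conv_rhs => rw [← Subgroup.map_id V]
    congr 1; ext t; simp
  have hVO : V ∈ O := (hmemO V).2 ⟨1, one_mem _, hV1⟩
  have hindex : A1.relIndex A = O.card := by
    letI : MulAction ↥A (Subgroup G) := MulAction.compHom (Subgroup G) ((MulAut.conj : G →* MulAut G).comp A.subtype)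
    have hst : MulAction.stabilizer ↥A V = (normalizer (V : Set G)).subgroupOf A := by
      ext a
      rw [MulAction.mem_stabilizer_iff, Subgroup.mem_subgroupOf, mem_normalizer_iff_map_conj_eq]
      rfl
    have horb : (MulAction.orbit ↥A V) = (O : Set (Subgroup G)) := by
      ext U
      rw [Finset.mem_coe, hmemO]
      exact ⟨fun ⟨a, ha⟩ => ⟨a, a.2, ha⟩, fun ⟨a, ha, e⟩ => ⟨⟨a, ha⟩, e⟩⟩
    rw [hA1, inf_relIndex_left, relIndex, ← hst, MulAction.index_stabilizer, horb, Set.ncard_coe_finset]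
  have hcard2 : 2 ≤ O.card := by
    obtain ⟨a, ha, haN⟩ := SetLike.not_le_iff_exists.1 hnot
    have hne : V.map (MulAut.conj a).toMonoidHom ≠ V := fun e => haN (mem_normalizer_iff_map_conj_eq.2 e)
    exact Finset.one_lt_card.2 ⟨_, (hmemO _).2 ⟨a, ha, rfl⟩, V, hVO, hne⟩
  set U := sibSup O with hUdef
  obtain ⟨hUe, hUc⟩ := sibSup_elemAb h hsib
  have hUP : U ≤ P := Finset.sup_le fun W hW => by
    obtain ⟨_, _, ho⟩ := (hsib W hW).orb h
    exact ho.vP
  have hcent : A1 ⊓ centralizer (V : Set G) ≤ A ⊓ centralizer (U : Set G) := fun b hb =>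
    ⟨hb.1.1, le_centralizer_iff.1 (Finset.sup_le fun W hW => by
      obtain ⟨a, ha, rfl⟩ := (hmemO W).1 hW
      rintro _ ⟨v, hv, rfl⟩
      refine mem_centralizer_iff.2 fun c hc => ?_
      obtain ⟨j, rfl⟩ := (hc : c ∈ zpowers b)
      have h1 : Commute b v := (mem_centralizer_iff.1 hb.2 v hv).symm
      have h2 : Commute b a := PLocal.elemAb_comm hA.2.1 hb.1.1 ha
      exact (((h2.mul_right h1).mul_right h2.inv_right).zpow_left j).eq) (mem_zpowers b)⟩
  have hrel : (centralizer (U : Set G)).relIndex A ≤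
      (centralizer (V : Set G)).relIndex A1 * O.card := by
    rw [← hindex, ← inf_relIndex_left A (centralizer (U : Set G)), ← inf_relIndex_left A1,
      relIndex_mul_relIndex _ _ _ inf_le_left inf_le_left]
    exact Nat.le_of_dvd (Nat.pos_of_ne_zero index_ne_zero_of_finite) (relIndex_dvd_of_le_left A hcent)
  set U0 := sibSup (O.erase V) with hU0def
  have hs0 : ∀ W ∈ O.erase V, Sib P V W := fun W hW => hsib W (Finset.mem_of_mem_erase hW)
  have hUsplit : U = V ⊔ U0 := by
    rw [hUdef, ← Finset.insert_erase hVO]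
    exact Finset.sup_insert
  have hnormU0 : U0 ≤ normalizer (V : Set G) :=
    (sibSup_le_centralizer h hs0 (Sib.self P V)).trans (centralizer_le_normalizer _)
  obtain ⟨hU0e, hU0c⟩ := sibSup_elemAb h hs0
  have hdisj : (U ⊓ A) ⊓ U0 = ⊥ := (eq_bot_iff_forall _).2 fun u hu =>
    sibSup_fpf h hsib hu.1.1 fun W hW => by
      obtain ⟨a, ha, rfl⟩ := (hmemO W).1 hW
      refine ⟨_, _, h.conj (hA.1 ha), ?_⟩
      have hxu : x * u = u * x :=
        (mem_centralizer_singleton_iff.1 (sibSup_le_cent_x h hs0 (Sib.self P V) h (by simp) hu.2)).symm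
      have hau : Commute a u := PLocal.elemAb_comm hA.2.1 ha hu.1.2
      exact (((show Commute a u from hau).mul_left hxu).mul_left hau.inv_left).eq
  have hmul : ∀ E : Subgroup G, U ⊓ A ≤ E → U0 ≤ E → Nat.card ↥(U ⊓ A) * Nat.card U0 ≤ Nat.card E := by
    intro E h1 h2
    refine (PLocal.card_mul_card_le _ _).trans ?_
    rw [hdisj, Subgroup.card_bot, mul_one]
    exact Subgroup.card_le_of_le (sup_le h1 h2)
  have hU0pos : 0 < Nat.card U0 := Nat.card_pos
  have hUcard : Nat.card U = 4 * Nat.card U0 := by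
    rw [hUc, hU0c, ← pow_succ', Finset.card_erase_of_mem hVO, Nat.sub_add_cancel (by omega)]
  have h1 := (exchange hA hUe hUP).1
  rw [hUc] at h1
  have key : (centralizer (V : Set G)).relIndex A1 * Nat.card ↥(U ⊓ A) ≤ 4 := by
    by_cases hc : A1 ≤ centralizer (V : Set G)
    · rw [relIndex_eq_one.2 hc, one_mul]
      exact Nat.le_of_mul_le_mul_right ((hmul U inf_le_left (hUsplit ▸ le_sup_right)).trans hUcard.le) hU0pos
    · obtain ⟨b, hb, hbC⟩ := SetLike.not_le_iff_exists.1 hc
      have hsub : U ⊓ A ≤ U0 ⊔ zpowers z' := by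
        intro u hu
        have huU : u ∈ V ⊔ U0 := hUsplit ▸ hu.1
        obtain ⟨v, hv, w, hw, rfl⟩ := (Coprime.mem_sup_iff hnormU0).1 huU
        have hbw : b * w * b⁻¹ ∈ U0 := by
          have hle : U0.map (MulAut.conj b).toMonoidHom ≤ U0 := by
            rw [map_le_iff_le_comap]
            refine Finset.sup_le fun W hW => map_le_iff_le_comap.1 ?_
            obtain ⟨hne, hWO⟩ := Finset.mem_erase.1 hW
            obtain ⟨a, ha, rfl⟩ := (hmemO W).1 hWO
            have hne2 : (V.map (MulAut.conj a).toMonoidHom).map (MulAut.conj b).toMonoidHom =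
                V.map (MulAut.conj (b * a)).toMonoidHom := by
              rw [map_map]; congr 1; ext t; simp [mul_assoc]
            refine Finset.le_sup (f := id) (Finset.mem_erase.2 ⟨fun e => hne ?_, ?_⟩)
            · have hbV := mem_normalizer_iff_map_conj_eq.1 hb.2
              exact map_injective (f := (MulAut.conj b).toMonoidHom) (MulAut.conj b).injective (e.trans hbV.symm)
            · show (V.map (MulAut.conj a).toMonoidHom).map (MulAut.conj b).toMonoidHom ∈ O
              rw [hne2]; exact (hmemO _).2 ⟨b * a, A.mul_mem hb.1 ha, rfl⟩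
          exact hle ⟨w, hw, rfl⟩
        have hbv := (mem_normalizer_iff.1 hb.2 v).1 hv
        have he : b * v * b⁻¹ * (b * w * b⁻¹) = v * w := by
          rw [show b * v * b⁻¹ * (b * w * b⁻¹) = b * (v * w) * b⁻¹ by group,
            PLocal.elemAb_comm hA.2.1 hb.1 hu.2, mul_inv_cancel_right]
        have hd : v⁻¹ * (b * v * b⁻¹) ∈ V ⊓ U0 := by
          refine ⟨V.mul_mem (inv_mem hv) hbv, ?_⟩
          have h2 : v⁻¹ * (b * v * b⁻¹) = w * (b * w * b⁻¹)⁻¹ := by
            rw [eq_mul_inv_iff_mul_eq, mul_assoc, he, inv_mul_cancel_left]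
          rw [h2]; exact U0.mul_mem hw (inv_mem hbw)
        rw [sibSup_disjoint h hs0 (Sib.self P V) (by simp), mem_bot, inv_mul_eq_one] at hd
        have hfix : b * v = v * b := mul_inv_eq_iff_eq_mul.1 hd.symm
        refine mul_mem ?_ (mem_sup_left hw)
        refine mem_sup_right ?_
        by_contra hne
        exact hbC (hF.centralizes_of_fix (hz' b hb) hv (fun e => hne (e ▸ one_mem _))
          (fun e => hne (e ▸ mem_zpowers z')) hfix)
      have h2 : Nat.card ↥(U0 ⊔ zpowers z') ≤ Nat.card U0 * 2 := by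
        have hp := PLocal.card_sup_mul_card_inf (H := U0) (K := zpowers z') ((zpowers_le.2
          ((centralizer_le_normalizer _) ((le_centralizer_iff.1 (sibSup_le_centralizer h hs0 (Sib.self P V))) hF.zmem))))
        have hz2 : Nat.card ↥(zpowers z') ≤ 2 := by
          rw [Nat.card_zpowers]
          exact orderOf_le_of_pow_eq_one two_pos (by rw [pow_two]; exact hF.sq z' hF.zmem)
        calc Nat.card ↥(U0 ⊔ zpowers z') ≤ Nat.card ↥(U0 ⊔ zpowers z') * Nat.card ↥(U0 ⊓ zpowers z') :=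
              Nat.le_mul_of_pos_right _ Nat.card_pos
          _ ≤ Nat.card U0 * 2 := hp.le.trans (Nat.mul_le_mul_left _ hz2)
      have h3 : Nat.card ↥(U ⊓ A) ≤ 2 := Nat.le_of_mul_le_mul_right
        (((hmul _ hsub le_sup_left).trans h2).trans (mul_comm _ _).le) hU0pos
      exact le_trans (Nat.mul_le_mul (relIndex_centralizer_le_two hF hA1N hz') h3) le_rfl
  have h2 := h1.trans (Nat.mul_le_mul_right _ hrel)
  rw [mul_right_comm] at h2
  exact absurd (h2.trans (Nat.mul_le_mul_right _ key)) (four_mul_lt_pow hcard2).not_ge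

/-- Some member contains all the conjugates of `V`. -/
theorem Orb.exists_max_ge {P V : Subgroup G} {x z : G} (hP : IsPGroup 2 P) (h : Orb P V x z) :
    ∃ A ∈ elemMax P, ∀ U, Sib P V U → U ≤ A := by
  classical
  suffices key : ∀ s : Finset (Subgroup G), (∀ U ∈ s, Sib P V U) →
      ∃ A ∈ elemMax P, ∀ U ∈ s, U ≤ A by
    obtain ⟨A, hA, hle⟩ := key (Set.toFinite {U | Sib P V U}).toFinset (fun U hU => by simpa using hU)
    exact ⟨A, hA, fun U hU => hle U (by simpa using hU)⟩
  intro s
  induction s using Finset.induction with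
  | empty =>
    intro _
    obtain ⟨A, hA⟩ := PLocal.exists_maxIn (Q := PLocal.elemAb 2) PLocal.elemAb_bot P
    exact ⟨A, hA, by simp⟩
  | @insert U s hnot ih =>
    intro hs
    obtain ⟨A, hA, hle⟩ := ih fun W hW => hs W (Finset.mem_insert_of_mem hW)
    have hUs := hs U (Finset.mem_insert_self _ _)
    obtain ⟨xU, zU, ho⟩ := hUs.orb h
    refine ⟨_, elemMax_step hA ho.four ho.vP (ho.max_normalizes hP hA), fun W hW => ?_⟩
    rcases Finset.mem_insert.1 hW with rfl | hW
    · exact le_sup_right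
    · exact le_sup_of_le_left (le_inf (hle W hW) (Sib.commute h hUs (hs W (Finset.mem_insert_of_mem hW))))

theorem Orb.le_jSub {P V : Subgroup G} {x z : G} (hP : IsPGroup 2 P) (h : Orb P V x z) : V ≤ jSub P := by
  obtain ⟨A, hA, hle⟩ := h.exists_max_ge hP
  exact (hle V (Sib.self P V)).trans (EvenNilp.le_jSub hA)

theorem Orb.jSub_normalizes {P V : Subgroup G} {x z : G} (hP : IsPGroup 2 P) (h : Orb P V x z) :
    jSub P ≤ normalizer (V : Set G) := by
  rw [jSub_eq]
  exact sSup_le fun A hA => h.max_normalizes hP hA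

/-- A block in `P` gives a block in `J(P)`. -/
theorem Orb.rblk {P V : Subgroup G} {x z : G} (hP : IsPGroup 2 P) (h : Orb P V x z) :
    ∃ zJ, RBlk (jSub P) V x zJ := by
  have hJP : jSub P ≤ P := PLocal.thompsonSubgroupOf_le P
  have hJN := h.jSub_normalizes hP
  obtain ⟨zJ, hF, hz⟩ := exists_fixed_invol h.four (hP.to_le hJP) hJN
  have hsub : jSub P ⊓ centralizer (V : Set G) ≤ P ⊓ centralizer (V : Set G) := inf_le_inf_right _ hJP
  refine ⟨zJ, ⟨?_, hF, h.le_jSub hP, hJN, hz, h.move, fun r hr q hq hx =>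
    h.inv r (hJP hr) (hJN hr) q (hsub hq) hx⟩⟩
  exact
  { vle := le_inf (h.le_jSub hP) hF.le_centralizer
    four := ⟨zJ, hF⟩
    vcent := fun v hv q hq => h.blk.vcent v hv q (hsub hq)
    odd := h.blk.odd
    conjQ := fun q hq => by
      refine ⟨?_, (h.blk.conjQ q (hsub hq)).2⟩
      rw [show x * q * x⁻¹ = (x * q * x⁻¹ * q⁻¹) * q by group]
      exact (jSub P).mul_mem (h.le_jSub hP (h.blk.comm q (hsub hq))) hq.1
    comm := fun q hq => h.blk.comm q (hsub hq)
    fpf := h.blk.fpf }

end Cfsg.Agent.EvenNilp
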