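import Cfsg.Agent.Lib.EvenNilp.Local

/-!
# Lifting a block (helper46)

`Min.exists_orb`: a block `(V, x)` in the minimal group, with its conjugates under `P`.
-/

set_option autoImplicit false
set_option linter.unusedSectionVars false
set_option linter.style.haveILetI false

namespace Cfsg.Agent.EvenNilp

open Subgroup
open scoped Pointwise commutatorElement

universe u

variable {X : Type u} [Group X] [Finite X]

/-- A block in `P` with its conjugates under `P`. -/
structure Orb (P V : Subgroup X) (x z : X) : Prop where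
  vP : V ≤ P
  four : IsFour V z
  blk : Blk (P ⊓ centralizer (V : Set X)) V x
  inv : ∀ r ∈ P, r ∈ normalizer (V : Set X) → ∀ q ∈ P ⊓ centralizer (V : Set X), x * q = q * x →
    x * (r * q * r⁻¹) = (r * q * r⁻¹) * x
  sep : ∀ r ∈ P, V.map (MulAut.conj r).toMonoidHom ≠ V →
    x ∈ centralizer ((V.map (MulAut.conj r).toMonoidHom : Subgroup X) : Set X) ∧
      V.map (MulAut.conj r).toMonoidHom ≤ centralizer (V : Set X)
  move : ¬ jSub P ≤ centralizer (V : Set X)

theorem exists_odd_lift {Y : Type u} [Group Y] [Finite Y] (f : X →* Y) {g : X} {y : Y}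
    (hg : f g = y) (hy : (orderOf y).Coprime 2) :
    ∃ b ∈ zpowers g, (orderOf b).Coprime 2 ∧ f b = y := by
  obtain ⟨a, b, hab, ⟨i, hi⟩, hb, ⟨k, hk⟩, hbo⟩ := exists_parts g
  refine ⟨b, hb, hbo, ?_⟩
  have ha : f a = y ^ i := by rw [← hi, ← hg]; exact map_zpow f g i
  have h1 : orderOf (f a) ∣ orderOf y := by
    rw [ha]; exact orderOf_dvd_of_pow_eq_one (by
      rw [← zpow_natCast, ← zpow_mul, mul_comm, zpow_mul, zpow_natCast, pow_orderOf_eq_one, one_zpow])
  have h2 : orderOf (f a) ∣ 2 ^ k := orderOf_dvd_of_pow_eq_one (by rw [← map_pow, hk, map_one])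
  rw [← hg, hab, map_mul, orderOf_eq_one_iff.1 (Nat.eq_one_of_dvd_coprimes (hy.pow_right k) h1 h2), one_mul]

/-- The closure property used for commutators with powers. -/
theorem pow_comm_mem {W : Subgroup X} {o y : X} (hW : ∀ w ∈ W, y * w * y⁻¹ ∈ W)
    (h : o * y * o⁻¹ * y⁻¹ ∈ W) (n : ℕ) : o * y ^ n * o⁻¹ * (y ^ n)⁻¹ ∈ W := by
  induction n with
  | zero => simp
  | succ n ih =>
    rw [show o * y ^ (n + 1) * o⁻¹ * (y ^ (n + 1))⁻¹ =
      (o * y * o⁻¹ * y⁻¹) * (y * (o * y ^ n * o⁻¹ * (y ^ n)⁻¹) * y⁻¹) by rw [pow_succ']; group]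
    exact mul_mem h (hW _ ih)

theorem zpowers_solvable (x : X) : Group.IsSolvable (zpowers x) :=
  haveI : IsMulCommutative (zpowers x) := inferInstance
  inferInstance

theorem coprime_card_two {Y : Subgroup X} (hY : IsPGroup 2 Y) {x : X} (ho : (orderOf x).Coprime 2) :
    (Nat.card (zpowers x)).Coprime (Nat.card Y) := by
  obtain ⟨j, hj⟩ := IsPGroup.iff_card.1 hY
  rw [hj, Nat.card_zpowers]
  exact ho.pow_right j

theorem Min.exists_orb {P : Sylow 2 X} (hM : Min P) : ∃ V x z, Orb (P : Subgroup X) V x z := by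
  classical
  obtain ⟨Y, _, _, f, W, z', y, hf, hker, hcore, hW⟩ := hM.exists_blk4
  set K := Cfsg.pPrimeCore 2 X with hKdef
  set OT := Cfsg.pCore 2 X with hOTdef
  set C := cMax P with hCdef
  haveI := Cores.pPrimeCore_normal 2 X
  haveI := hM.cMax_normal
  have hOP : OT ≤ (P : Subgroup X) := Cores.pCore_le_sylow P
  have hO2 : IsPGroup 2 OT := Cores.isPGroup_pCore 2 X
  have hCO : C ≤ OT := hM.cMax_le_Q
  have hkerP : ∀ g, f g = 1 → g ∈ (P : Subgroup X) → g ∈ C := fun g hg hP =>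
    hM.ker_inf (hker ▸ hg) hP
  have hy1 : y ≠ 1 := fun e => by
    obtain ⟨v, hv, hv1, -⟩ := hW.four.exists_other
    exact hv1 (hW.fpf v hv (by rw [e, one_mul, mul_one]))
  have hyo : (orderOf y).Coprime 2 := by
    have := orderOf_eq_prime (p := 3) (hp := ⟨Nat.prime_three⟩) hW.y3 hy1
    rw [this]; norm_num
  have hlift : ∀ w ∈ W, ∃ q ∈ OT, f q = w := fun w hw => by
    obtain ⟨q, hq, he⟩ := hcore.le (hW.le_core hw)
    exact ⟨q, hq, he⟩
  have hyy : ¬ (∀ w ∈ W, y * w * y⁻¹ = y⁻¹ * w * y) := fun h => by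
    obtain ⟨v, hv, hv1, -⟩ := hW.four.exists_other
    refine hv1 (hW.fpf v hv (commute_of_sq hyo (show y ^ 2 * v = v * y ^ 2 from ?_)).eq)
    calc y ^ 2 * v = y * (y * v * y⁻¹) * y := by rw [pow_two]; group
      _ = y * (y⁻¹ * v * y) * y := by rw [h v hv]
      _ = v * y ^ 2 := by rw [pow_two]; group
  -- elements fixing `W`
  have hfix : ∀ g : Y, W.map (MulAut.conj g).toMonoidHom = W → (∀ w ∈ W, g * w = w * g) →
      g * y * g⁻¹ * y⁻¹ ∈ W := fun g hg hc => (hW.conj_eq g hg).resolve_right fun h2 => hyy fun w hw => by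
    set w₂ := g * y * g⁻¹ * y with hw2
    have hgy : g * y * g⁻¹ = w₂ * y⁻¹ := by rw [hw2]; group
    have hgw : g⁻¹ * w * g = w := by rw [mul_assoc, ← hc w hw, inv_mul_cancel_left]
    have hwy : y⁻¹ * w * y ∈ W := by
      have h3 := hW.conjW _ (hW.conjW w hw)
      have e3 : y⁻¹ = y * y := by
        refine inv_eq_of_mul_eq_one_right ?_
        rw [← hW.y3, pow_three]
      rw [show y⁻¹ * w * y = y⁻¹ * w * y⁻¹⁻¹ by rw [inv_inv], e3]
      rw [show y * y * w * (y * y)⁻¹ = y * (y * w * y⁻¹) * y⁻¹ by group]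
      exact h3
    calc y * w * y⁻¹ = g * (y * w * y⁻¹) * g⁻¹ := by
          rw [hc _ (hW.conjW w hw), mul_inv_cancel_right]
      _ = (g * y * g⁻¹) * (g * w * g⁻¹) * (g * y * g⁻¹)⁻¹ := by group
      _ = (g * y * g⁻¹) * w * (g * y * g⁻¹)⁻¹ := by rw [hc w hw, mul_inv_cancel_right]
      _ = w₂ * (y⁻¹ * w * y) * w₂⁻¹ := by rw [hgy]; group
      _ = y⁻¹ * w * y := by rw [hW.four.comm h2 hwy, mul_inv_cancel_right]
  -- the stabiliser of `W` in `P`
  set QW : Subgroup X := (P : Subgroup X) ⊓ (centralizer (W : Set Y)).comap f with hQWdef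
  have hO_QW : ∀ q ∈ OT, f q ∈ W → q ∈ QW := fun q hq hqW =>
    ⟨hOP hq, mem_centralizer_iff.2 fun w hw => hW.four.comm hw hqW⟩
  have hC_QW : C ≤ QW := fun c hc => hO_QW c (hCO hc) (by
    rw [show f c = 1 from hker.ge (mem_sup_right hc)]; exact one_mem W)
  obtain ⟨g₀, hg₀⟩ := hf y
  obtain ⟨x₀, -, hx₀o, hfx₀⟩ := exists_odd_lift f hg₀ hyo
  have hQWfix : ∀ q ∈ QW, W.map (MulAut.conj (f q)).toMonoidHom = W := fun q hq =>
    mem_normalizer_iff_map_conj_eq.1 (centralizer_le_normalizer _ hq.2)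
  have hQWy : ∀ q ∈ QW, f q * y * (f q)⁻¹ * y⁻¹ ∈ W := fun q hq =>
    hfix _ (hQWfix q hq) fun w hw => (mem_centralizer_iff.1 hq.2 w hw).symm
  set M₁ := K ⊔ QW with hM₁
  have hdmem : ∀ d : X, f d ∈ W → d ∈ M₁ := fun d hd => by
    obtain ⟨q, hq, he⟩ := hlift _ hd
    have h1 : q⁻¹ * d ∈ K ⊔ C := hker ▸ (show f (q⁻¹ * d) = 1 by rw [map_mul, map_inv, he, inv_mul_cancel])
    rw [show d = q * (q⁻¹ * d) by group]
    exact mul_mem (mem_sup_right (hO_QW q hq (he ▸ hd))) ((sup_le_sup_left hC_QW K) h1)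
  -- a lift normalising `QW`
  obtain ⟨x, hxo, hfx, hxN⟩ : ∃ x, (orderOf x).Coprime 2 ∧ f x = y ∧ x ∈ normalizer (QW : Set X) := by
    have hsub : QW.map (MulAut.conj x₀).toMonoidHom ≤ M₁ := by
      rintro _ ⟨q, hq, rfl⟩
      show x₀ * q * x₀⁻¹ ∈ M₁
      rw [show x₀ * q * x₀⁻¹ = (q * x₀ * q⁻¹ * x₀⁻¹)⁻¹ * q by group]
      refine mul_mem (inv_mem (hdmem _ ?_)) (mem_sup_right hq)
      simp only [map_mul, map_inv, hfx₀]
      exact hQWy q hq
    have hrel : ¬ 2 ∣ QW.relIndex M₁ := by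
      have h0 : K ⊓ QW = ⊥ := (eq_bot_iff_forall _).2 fun k hk => Min.K_inf_two P.2 hk.1 hk.2.1
      have hcard := PLocal.card_sup_mul_card_inf (H := K) (K := QW)
        (normalizer_eq_top_iff.2 (Cores.pPrimeCore_normal 2 X) ▸ le_top)
      rw [h0, Subgroup.card_bot, mul_one] at hcard
      have h1 : Nat.card QW * QW.relIndex M₁ = Nat.card M₁ := by
        rw [← relIndex_bot_left QW, relIndex_mul_relIndex _ _ _ bot_le (le_sup_right (a := K)),
          relIndex_bot_left]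
      rw [hcard, mul_comm (Nat.card K)] at h1
      rw [Nat.eq_of_mul_eq_mul_left Nat.card_pos h1]
      exact fun hd => absurd (Nat.eq_one_of_dvd_coprimes (Cores.coprime_card_pPrimeCore (G := X) 2) hd dvd_rfl)
        (by norm_num)
    obtain ⟨c, hc, hle⟩ := Transfer.exists_conj_le_of_not_dvd_relIndex (le_sup_right (a := K))
      (P.2.to_le inf_le_left) hrel hsub ((P.2.to_le (inf_le_left : QW ≤ P)).map _)
    obtain ⟨k, hk, q, hq, rfl⟩ := mem_sup_of_normal_left.1 hc
    have hN : k * q * x₀ ∈ normalizer (QW : Set X) := mem_normalizer_iff_map_conj_eq.2 <|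
      Subgroup.eq_of_le_of_card_ge (by
        rw [map_map] at hle
        convert hle using 2
        ext t; simp [mul_assoc]) (card_map_of_injective (MulAut.conj _).injective).ge
    have hfg : f (q⁻¹ * (k * q * x₀)) = y := by
      rw [map_mul, map_mul, map_mul, show f k = 1 from hker.ge (mem_sup_left hk), hfx₀, map_inv]
      group
    obtain ⟨b, hb, hbo, hfb⟩ := exists_odd_lift f hfg hyo
    exact ⟨b, hbo, hfb, zpowers_le.2 (mul_mem (inv_mem (le_normalizer hq)) hN) hb⟩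
  have hxK : x ∉ K := fun h => hy1 (by rw [← hfx]; exact hker.ge (mem_sup_left h))
  have hgen := hM.sup_zpowers hxo hxK
  have hOn : zpowers x ≤ normalizer (OT : Set X) := by
    rw [normalizer_eq_top_iff.2 (Cores.pCore_normal 2 X)]; exact le_top
  have hcop := coprime_card_two hO2 hxo
  have hsolv : Group.IsSolvable (zpowers x) ∨ Group.IsSolvable OT := Or.inl (zpowers_solvable x)
  have hfpow : ∀ a ∈ zpowers x, ∃ n : ℕ, a = x ^ n := fun a ha => by
    obtain ⟨n, rfl⟩ := (mem_powers_iff_mem_zpowers.2 ha : a ∈ Submonoid.powers x)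
    exact ⟨n, rfl⟩
  -- the four group
  set V : Subgroup X := ⁅OT, zpowers x⁆ with hVdef
  have hVO : V ≤ OT := Coprime.commutator_le_left' hOn
  have hfO : ∀ q ∈ OT, f q ∈ Cfsg.pCore 2 Y := fun q hq => hcore.ge ⟨q, hq, rfl⟩
  have hfV : ∀ v ∈ V, f v ∈ W := by
    intro v hv
    refine (show V ≤ W.comap f from commutator_le.2 fun q hq a ha => ?_) hv
    obtain ⟨n, rfl⟩ := hfpow a ha
    show f ⁅q, x ^ n⁆ ∈ W
    rw [map_commutatorElement, map_pow, hfx, commutatorElement_def]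
    exact pow_comm_mem hW.conjW (hW.comm _ (hfO q hq)) n
  have hVC : ∀ v ∈ V, ∀ c ∈ C, v * c = c * v := by
    intro v hv c hc
    have hle : V ≤ centralizer ({c} : Set X) := commutator_le.2 fun q _ a ha => by
      obtain ⟨n, rfl⟩ := hfpow a ha
      refine mem_centralizer_singleton_iff.2 ?_
      have c1 : Commute (x ^ n) c := hM.cMax_cent (coprime_orderOf_pow hxo n) hc
      have c2 : Commute (q * x ^ n * q⁻¹) c := hM.cMax_cent
        (show (orderOf (MulAut.conj q (x ^ n))).Coprime 2 from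
          coprime_orderOf_conj (coprime_orderOf_pow hxo n) _) hc
      rw [commutatorElement_def]
      exact (c2.mul_left c1.inv_left).eq
    exact mem_centralizer_singleton_iff.1 (hle hv)
  have hVconj : ∀ v ∈ V, x * v * x⁻¹ ∈ V := fun v hv =>
    (mem_normalizer_iff.1 (Subgroup.normalizer_commutator_ge_right OT (zpowers x) (mem_zpowers x)) v).1 hv
  have hxC : ∀ c ∈ C, x * c = c * x := fun c hc => hM.cMax_cent hxo hc
  -- a lift in `V` of every element of `W`
  have hsurj : ∀ w ∈ W, ∃ v ∈ V, f v = w := by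
    let d : W → W := fun w => ⟨w * (y * w * y⁻¹)⁻¹, mul_mem w.2 (inv_mem (hW.conjW w w.2))⟩
    have hd : Function.Injective d := fun a b hab => by
      have h1 : (a : Y) * (y * a * y⁻¹)⁻¹ = b * (y * b * y⁻¹)⁻¹ := congrArg Subtype.val hab
      refine Subtype.ext (mul_inv_eq_one.1 (hW.fpf _ (mul_mem a.2 (inv_mem b.2)) ?_))
      have h2 : y * a * y⁻¹ = (y * b * y⁻¹) * ((b : Y)⁻¹ * a) := by
        have h3 := mul_inv_eq_iff_eq_mul.1 h1
        calc y * a * y⁻¹ = (y * b * y⁻¹) * ((b : Y)⁻¹ * (b * (y * b * y⁻¹)⁻¹ * (y * a * y⁻¹))) := by group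
          _ = (y * b * y⁻¹) * ((b : Y)⁻¹ * a) := by rw [← h3]
      have hba := mul_mem (inv_mem b.2) a.2
      refine mul_inv_eq_iff_eq_mul.1 ?_
      calc y * ((a : Y) * (b : Y)⁻¹) * y⁻¹ = (y * a * y⁻¹) * (y * b * y⁻¹)⁻¹ := by group
        _ = (y * b * y⁻¹) * ((b : Y)⁻¹ * a) * (y * b * y⁻¹)⁻¹ := by rw [h2]
        _ = (b : Y)⁻¹ * a := by rw [hW.four.comm (hW.conjW b b.2) hba, mul_inv_cancel_right]
        _ = (a : Y) * (b : Y)⁻¹ := hW.four.comm (inv_mem b.2) a.2
    intro w hw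
    obtain ⟨w₁, hw₁⟩ := Finite.surjective_of_injective hd ⟨w, hw⟩
    obtain ⟨q, hq, hfq⟩ := hlift _ w₁.2
    refine ⟨⁅q, x⁆, Subgroup.commutator_mem_commutator hq (mem_zpowers x), ?_⟩
    rw [map_commutatorElement, hfq, hfx, commutatorElement_def]
    have h3 : (w₁ : Y) * (y * w₁ * y⁻¹)⁻¹ = w := congrArg Subtype.val hw₁
    rw [← h3]; group
  have hzx : ∃ c ∈ V, (∀ q ∈ OT, q * c = c * q) ∧ f c ≠ 1 := by
    by_contra hcon
    push Not at hcon
    refine hM.hch _ (isCh_zSub _) ?_ le_rfl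
    refine normalizer_eq_top_iff.1 (top_le_iff.1 (hgen.ge.trans (sup_le (isCh_zSub _).le_normalizer'
      (zpowers_le.2 (Coprime.mem_normalizer_of_forall fun q hq => ?_)))))
    have hqO : q ∈ OT := hM.zP_le hq
    have hcV : ⁅q, x⁆ ∈ V := Subgroup.commutator_mem_commutator hqO (mem_zpowers x)
    have hqc : ∀ t ∈ OT, t * q = q * t := fun t ht => (mem_zSub.1 hq).2.1 t (hOP ht)
    have hqc' : ∀ t ∈ OT, t * (x * q⁻¹ * x⁻¹) = (x * q⁻¹ * x⁻¹) * t := fun t ht => by
      have h1 := hqc _ ((Cores.pCore_normal 2 X).conj_mem t ht x⁻¹)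
      rw [inv_inv] at h1
      calc t * (x * q⁻¹ * x⁻¹) = x * ((x⁻¹ * t * x) * q⁻¹) * x⁻¹ := by group
        _ = x * (q⁻¹ * (x⁻¹ * t * x)) * x⁻¹ := by rw [(show Commute (x⁻¹ * t * x) q from h1).inv_right.eq]
        _ = x * q⁻¹ * x⁻¹ * t := by group
    have hc1 := hkerP _ (hcon _ hcV fun t ht => by
      rw [commutatorElement_def, show q * x * q⁻¹ * x⁻¹ = q * (x * q⁻¹ * x⁻¹) by group]
      exact ((show Commute t q from hqc t ht).mul_right (hqc' t ht)).eq) (hOP (hVO hcV))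
    set c := ⁅q, x⁆ with hc
    have h2 := eq_one_of_step (P.2.to_le hM.cMax_ch.1) (inv_mem hc1) hxo
      ((show Commute x c from hxC c hc1).inv_right).eq (g := q) (by
        rw [hc, commutatorElement_def, hqc (q * x * q⁻¹ * x⁻¹)⁻¹ (inv_mem (hVO hcV)) |>.symm]
        group)
    rw [inv_eq_one, hc, commutatorElement_def, mul_inv_eq_one] at h2
    have h3 : x * q * x⁻¹ = q := by
      rw [mul_inv_eq_iff_eq_mul] at h2
      calc x * q * x⁻¹ = (q * x) * x⁻¹ := by rw [h2]
        _ = q := by group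
    rw [h3]; exact hq
  obtain ⟨c₀, hc₀, hc₀c, hfc₀⟩ := hzx
  set c₁ := x * c₀ * x⁻¹ with hc₁def
  have hc₁c : ∀ q ∈ OT, q * c₁ = c₁ * q := fun q hq => by
    have h1 := hc₀c _ ((Cores.pCore_normal 2 X).conj_mem q hq x⁻¹)
    rw [inv_inv] at h1
    calc q * c₁ = x * ((x⁻¹ * q * x) * c₀) * x⁻¹ := by rw [hc₁def]; group
      _ = x * (c₀ * (x⁻¹ * q * x)) * x⁻¹ := by rw [h1]
      _ = c₁ * q := by rw [hc₁def]; group
  have hfc₁ : f c₁ ≠ f c₀ ∧ f c₁ ≠ 1 := by
    refine ⟨fun e => hfc₀ (hW.fpf _ (hfV _ hc₀) ?_), fun e => hfc₀ ?_⟩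
    · rw [hc₁def, map_mul, map_mul, map_inv, hfx] at e
      exact mul_inv_eq_iff_eq_mul.1 e
    · rw [hc₁def, map_mul, map_mul, map_inv, hfx] at e
      simpa using e
  have hdec : ∀ v ∈ V, ∃ a ∈ centralizer (OT : Set X), a ∈ V ∧ ∃ c ∈ C, v = a * c := by
    intro v hv
    have key : ∀ a ∈ V, a ∈ centralizer (OT : Set X) → f v = f a →
        ∃ a ∈ centralizer (OT : Set X), a ∈ V ∧ ∃ c ∈ C, v = a * c := fun a haV ha he =>
      ⟨a, ha, haV, a⁻¹ * v, hkerP _ (by rw [map_mul, map_inv, he, inv_mul_cancel])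
        (hOP (hVO (mul_mem (inv_mem haV) hv))), by group⟩
    have h0 : c₀ ∈ centralizer (OT : Set X) := mem_centralizer_iff.2 hc₀c
    have h1 : c₁ ∈ centralizer (OT : Set X) := mem_centralizer_iff.2 hc₁c
    have hF : IsFour W (f c₁) :=
      ⟨hW.four.card, hW.four.sq, hfV _ (hVconj _ hc₀), hfc₁.2⟩
    rcases hF.mem_cases (hfV _ hc₀) hfc₀ hfc₁.1.symm (hfV _ hv) with e | e | e | e
    · exact key 1 (one_mem _) (one_mem _) (by rw [e, map_one])
    · exact key c₁ (hVconj _ hc₀) h1 e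
    · exact key c₀ hc₀ h0 e
    · exact key (c₀ * c₁) (mul_mem hc₀ (hVconj _ hc₀)) (mul_mem h0 h1) (e.trans (map_mul f c₀ c₁).symm)
  have hVcomm : ∀ v ∈ V, ∀ w ∈ V, v * w = w * v := by
    intro v hv w hw
    obtain ⟨a, ha, -, c, hc, rfl⟩ := hdec v hv
    exact ((show Commute a w from (mem_centralizer_iff.1 ha w (hVO hw)).symm).mul_left
      (show Commute c w from (hVC w hw c hc).symm)).eq
  haveI : IsMulCommutative V := ⟨⟨fun a b => Subtype.ext (hVcomm a a.2 b b.2)⟩⟩
  have hVn : zpowers x ≤ normalizer (V : Set X) := zpowers_le.2 (Coprime.mem_normalizer_of_forall hVconj)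
  have hVC1 : ∀ v ∈ V, x * v = v * x → v = 1 := by
    intro v hv hvx
    have h0 := Coprime.abelian_inf_eq_bot hVn (coprime_card_two (hO2.to_le hVO) hxo)
    rw [Coprime.commutator_commutator_eq hOn hcop hsolv] at h0
    have : v ∈ (V ⊓ centralizer (zpowers x : Set X)) ⊓ V := ⟨⟨hv, mem_centralizer_iff.2 fun t ht => by
      obtain ⟨j, rfl⟩ := ht
      exact ((show Commute x v from hvx).zpow_left j).eq⟩, hv⟩
    rwa [h0, mem_bot] at this
  have hinj : ∀ v ∈ V, f v = 1 → v = 1 := fun v hv he => hVC1 v hv (hxC v (hkerP v he (hOP (hVO hv))))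
  have heq : ∀ a ∈ V, ∀ b ∈ V, f a = f b → a = b := fun a ha b hb he =>
    mul_inv_eq_one.1 (hinj _ (mul_mem ha (inv_mem hb)) (by rw [map_mul, map_inv, he, mul_inv_cancel]))
  have hV4 : Nat.card V = 4 := by
    rw [← hW.four.card]
    refine Nat.card_eq_of_bijective (fun v : V => (⟨f v, hfV v v.2⟩ : W)) ⟨fun a b h => ?_, fun w => ?_⟩
    · exact Subtype.ext (heq a a.2 b b.2 (congrArg Subtype.val h))
    · obtain ⟨v, hv, he⟩ := hsurj w w.2; exact ⟨⟨v, hv⟩, Subtype.ext he⟩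
  obtain ⟨zV, hzV, hzV'⟩ := hsurj z' hW.four.zmem
  have hF : IsFour V zV := ⟨hV4, fun v hv => hinj _ (mul_mem hv hv)
    (by rw [map_mul, hW.four.sq _ (hfV v hv)]), hzV, fun e => hW.four.zne (by rw [← hzV', e, map_one])⟩
  have hVZ : ∀ v ∈ V, ∀ q ∈ OT, q * v = v * q := by
    intro v hv q hq
    obtain ⟨a, ha, haV, c, hc, rfl⟩ := hdec v hv
    have hcV : c ∈ V := by simpa using mul_mem (inv_mem haV) hv
    rw [hinj c hcV (hker.ge (mem_sup_right hc)), mul_one]
    exact mem_centralizer_iff.1 ha q hq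
  -- `U₀ = V C`
  have hU₀ : ∀ d ∈ OT, f d ∈ W → ∃ v ∈ V, ∃ c ∈ C, d = v * c := fun d hd hdW => by
    obtain ⟨v, hv, he⟩ := hsurj _ hdW
    exact ⟨v, hv, v⁻¹ * d, hkerP _ (by rw [map_mul, map_inv, he, inv_mul_cancel])
      (hOP (mul_mem (inv_mem (hVO hv)) hd)), by group⟩
  -- conjugates of `V` under `P`
  have hmapf : ∀ r : X, ∀ w ∈ W.map (MulAut.conj (f r)).toMonoidHom,
      ∃ v ∈ V.map (MulAut.conj r).toMonoidHom, f v = w := by
    rintro r _ ⟨w, hw, rfl⟩
    obtain ⟨v, hv, rfl⟩ := hsurj w hw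
    exact ⟨r * v * r⁻¹, ⟨v, hv, rfl⟩, by simp⟩
  have hfVr : ∀ r : X, ∀ v ∈ V.map (MulAut.conj r).toMonoidHom,
      v ∈ OT ∧ f v ∈ W.map (MulAut.conj (f r)).toMonoidHom := by
    rintro r _ ⟨v, hv, rfl⟩
    exact ⟨(Cores.pCore_normal 2 X).conj_mem v (hVO hv) r, f v, hfV v hv, by simp⟩
  -- elements acting on `W` like powers of `y`
  have hform : ∀ x' : X, f x' * y⁻¹ ∈ W ∨ f x' * y ∈ W →
      ∃ e : X, (e = x ∨ e = x⁻¹) ∧ ∃ u ∈ V, ∃ k ∈ K, ∃ c ∈ C, x' = u * e * (k * c) := by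
    intro x' hx'
    have key : ∀ e : X, f x' * (f e)⁻¹ ∈ W → ∃ u ∈ V, ∃ k ∈ K, ∃ c ∈ C, x' = u * e * (k * c) := by
      intro e he
      obtain ⟨u, hu, hue⟩ := hsurj _ he
      have h1 : (u * e)⁻¹ * x' ∈ K ⊔ C := hker ▸ (show f ((u * e)⁻¹ * x') = 1 by
        rw [map_mul, map_inv, map_mul, hue]; group)
      obtain ⟨k, hk, c, hc, hkc⟩ := mem_sup_of_normal_left.1 h1
      exact ⟨u, hu, k, hk, c, hc, by rw [hkc]; group⟩
    rcases hx' with h | h
    · exact ⟨x, Or.inl rfl, key x (by rwa [hfx])⟩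
    · exact ⟨x⁻¹, Or.inr rfl, key x⁻¹ (by rwa [map_inv, inv_inv, hfx])⟩
  have hkey : ∀ r ∈ (P : Subgroup X), W.map (MulAut.conj (f r)).toMonoidHom = W →
      V.map (MulAut.conj r).toMonoidHom = V := by
    intro r hr hrW
    refine Subgroup.eq_of_le_of_card_ge ?_ (card_map_of_injective (MulAut.conj r).injective).ge
    have he : V.map (MulAut.conj r).toMonoidHom =
        ⁅V.map (MulAut.conj r).toMonoidHom, zpowers (r * x * r⁻¹)⁆ := by
      conv_lhs => rw [hVdef, ← Coprime.commutator_commutator_eq hOn hcop hsolv]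
      rw [map_commutator, MonoidHom.map_zpowers]
      rfl
    rw [he, commutator_le]
    intro v' hv' a ha
    obtain ⟨hv'O, hv'W⟩ := hfVr r v' hv'
    rw [hrW] at hv'W
    obtain ⟨v, hv, c, hc, rfl⟩ := hU₀ v' hv'O hv'W
    have hb' : (orderOf (r * x * r⁻¹)).Coprime 2 := coprime_orderOf_conj hxo (MulAut.conj r)
    have hcc : ∀ b ∈ zpowers (r * x * r⁻¹), Commute b c := by
      rintro _ ⟨j, rfl⟩
      exact (show Commute (r * x * r⁻¹) c from hM.cMax_cent hb' hc).zpow_left j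
    have hxr : r * x * r⁻¹ ∈ normalizer (V : Set X) := by
      obtain ⟨e, he, u, hu, k, hk, c', hc', hxe⟩ := hform (r * x * r⁻¹) (by
        rw [map_mul, map_mul, map_inv, hfx]
        exact hW.conj_eq (f r) hrW)
      rw [hxe]
      refine mul_mem (mul_mem (le_normalizer hu) ?_) (mul_mem ?_ ?_)
      · rcases he with he | he <;> rw [he]
        · exact hVn (mem_zpowers x)
        · exact inv_mem (hVn (mem_zpowers x))
      · exact centralizer_le_normalizer _ (mem_centralizer_iff.2 fun t ht =>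
          (Min.K_comm_Q hk (hVO ht)).symm)
      · exact centralizer_le_normalizer _ (mem_centralizer_iff.2 fun t ht => hVC t ht c' hc')
    have haV : a * v⁻¹ * a⁻¹ ∈ V := (mem_normalizer_iff.1 ((zpowers_le.2 hxr) ha) _).1 (inv_mem hv)
    have e2 : ⁅v * c, a⁆ = v * (c * (a * c⁻¹) * v⁻¹ * a⁻¹) := by
      rw [commutatorElement_def]; group
    rw [e2, (hcc a ha).inv_right.eq, ← mul_assoc c, mul_inv_cancel, one_mul]
    exact mul_mem hv haV
  -- `QW = C_P(V)`
  have hQW : QW = (P : Subgroup X) ⊓ centralizer (V : Set X) := by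
    apply le_antisymm
    · intro q hq
      refine ⟨hq.1, mem_centralizer_iff.2 fun v hv => ?_⟩
      have h1 := hkey q hq.1 (hQWfix q hq)
      have h2 : q * v * q⁻¹ = v := heq _ (h1.le ⟨v, hv, rfl⟩) v hv (by
        show f (q * v * q⁻¹) = f v
        rw [map_mul, map_mul, map_inv, ← mem_centralizer_iff.1 hq.2 _ (hfV v hv), mul_inv_cancel_right])
      exact (mul_inv_eq_iff_eq_mul.1 h2).symm
    · intro q hq
      refine ⟨hq.1, mem_centralizer_iff.2 fun w hw => ?_⟩
      obtain ⟨v, hv, rfl⟩ := hsurj w hw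
      rw [← map_mul, ← map_mul, mem_centralizer_iff.1 hq.2 v hv]
  have hVQW : V ≤ QW := fun v hv => hO_QW v (hVO hv) (hfV v hv)
  have hQ2 : IsPGroup 2 QW := P.2.to_le inf_le_left
  have hAQ : zpowers x ≤ normalizer (QW : Set X) := zpowers_le.2 hxN
  have hcommQ : ⁅QW, zpowers x⁆ ≤ V := by
    rw [← Coprime.commutator_commutator_eq hAQ (coprime_card_two hQ2 hxo) (Or.inl (zpowers_solvable x)),
      commutator_le]
    intro d hd a ha
    have hdQ : d ∈ QW := Coprime.commutator_le_left' hAQ hd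
    have hdW : f d ∈ W := by
      refine (show ⁅QW, zpowers x⁆ ≤ W.comap f from commutator_le.2 fun q hq b hb => ?_) hd
      obtain ⟨n, rfl⟩ := hfpow b hb
      show f ⁅q, x ^ n⁆ ∈ W
      rw [map_commutatorElement, map_pow, hfx, commutatorElement_def]
      exact pow_comm_mem hW.conjW (hQWy q hq) n
    obtain ⟨v, hv, he⟩ := hsurj _ hdW
    have hcC : v⁻¹ * d ∈ C := hkerP _ (by rw [map_mul, map_inv, he, inv_mul_cancel])
      ((P : Subgroup X).mul_mem (inv_mem (hOP (hVO hv))) hdQ.1)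
    obtain ⟨n, rfl⟩ := hfpow a ha
    have hc : Commute (x ^ n) (v⁻¹ * d) := (show Commute x _ from hxC _ hcC).pow_left n
    have e2 : ⁅d, x ^ n⁆ = v * ((v⁻¹ * d) * (x ^ n * (v⁻¹ * d)⁻¹) * v⁻¹ * (x ^ n)⁻¹) := by
      rw [commutatorElement_def]; group
    rw [e2, hc.inv_right.eq, ← mul_assoc (v⁻¹ * d), mul_inv_cancel, one_mul]
    exact mul_mem hv ((mem_normalizer_iff.1 (hVn (pow_mem (mem_zpowers x) n)) _).1 (inv_mem hv))
  have hblk : Blk ((P : Subgroup X) ⊓ centralizer (V : Set X)) V x := by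
    rw [← hQW]
    exact
    { vle := hVQW
      four := ⟨zV, hF⟩
      vcent := fun v hv q hq => by
        rw [hQW] at hq
        exact (mem_centralizer_iff.1 hq.2 v hv).symm
      odd := hxo
      conjQ := fun q hq => (mem_normalizer_iff.1 hxN q).1 hq
      comm := fun q hq => by
        rw [show x * q * x⁻¹ * q⁻¹ = (⁅q, x⁆)⁻¹ by rw [commutatorElement_def]; group]
        exact inv_mem (hcommQ (Subgroup.commutator_mem_commutator hq (mem_zpowers x)))
      fpf := hVC1 }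
  refine ⟨V, x, zV, hOP.trans' hVO, hF, hblk, ?_, fun r hr hne => ?_, ?_⟩
  · -- invariance of the fixed points
    intro r hr hrN q hq hxq
    rw [← hQW] at hq
    have hrN' : r ∈ normalizer (QW : Set X) := hQW ▸ Coprime.mem_normalizer_of_forall fun t ht =>
      ⟨(P : Subgroup X).mul_mem ((P : Subgroup X).mul_mem hr ht.1) (inv_mem hr), mem_centralizer_iff.2 fun v hv => by
        have h1 : r⁻¹ * v * r ∈ V := (mem_normalizer_iff''.1 hrN v).1 hv
        have h2 := mem_centralizer_iff.1 ht.2 _ h1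
        calc v * (r * t * r⁻¹) = r * ((r⁻¹ * v * r) * t) * r⁻¹ := by group
          _ = r * (t * (r⁻¹ * v * r)) * r⁻¹ := by rw [h2]
          _ = r * t * r⁻¹ * v := by group⟩
    have hWr : W.map (MulAut.conj (f r⁻¹)).toMonoidHom = W := by
      refine Subgroup.eq_of_le_of_card_ge ?_ (card_map_of_injective (MulAut.conj _).injective).ge
      rintro _ ⟨w, hw, rfl⟩
      obtain ⟨v, hv, rfl⟩ := hsurj w hw
      have := hfV _ ((mem_normalizer_iff.1 (inv_mem hrN) v).1 hv)
      simpa using this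
    set x' := r⁻¹ * x * r with hx'def
    have hx'o : (orderOf x').Coprime 2 := by
      have := coprime_orderOf_conj hxo (MulAut.conj r⁻¹)
      simpa [hx'def] using this
    have hx'N : x' ∈ normalizer (QW : Set X) := mul_mem (mul_mem (inv_mem hrN') hxN) hrN'
    obtain ⟨e, he, u, hu, k, hk, c, hc, hxe⟩ := hform x' (by
      have := hW.conj_eq _ hWr
      rw [map_inv, inv_inv] at this
      rwa [hx'def, map_mul, map_mul, map_inv, hfx])
    have heN : e ∈ normalizer (QW : Set X) := by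
      rcases he with he | he <;> rw [he]
      · exact hxN
      · exact inv_mem hxN
    have hkN : k ∈ normalizer (QW : Set X) := by
      have h1 : k = (u * e)⁻¹ * x' * c⁻¹ := by rw [hxe]; group
      rw [h1]
      exact mul_mem (mul_mem (inv_mem (mul_mem (le_normalizer (hVQW hu)) heN)) hx'N)
        (inv_mem (le_normalizer (hC_QW hc)))
    have hkc : ∀ t ∈ QW, k * t = t * k := fun t ht => by
      have h1 : k * t * k⁻¹ * t⁻¹ ∈ K := by
        rw [show k * t * k⁻¹ * t⁻¹ = k * (t * k⁻¹ * t⁻¹) by group]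
        exact mul_mem hk ((Cores.pPrimeCore_normal 2 X).conj_mem _ (inv_mem hk) t)
      have h2 : k * t * k⁻¹ * t⁻¹ ∈ QW := mul_mem ((mem_normalizer_iff.1 hkN t).1 ht) (inv_mem ht)
      exact mul_inv_eq_iff_eq_mul.1 (mul_inv_eq_one.1 (Min.K_inf_two hQ2 h1 h2))
    have hex : ∀ t, x * t = t * x → Commute e t := fun t ht => by
      rcases he with he | he <;> rw [he]
      · exact ht
      · exact (show Commute x t from ht).inv_left
    have hxc : x * c = c * x := hxC c hc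
    have hact : ∀ n : ℕ, x' ^ n * q * (x' ^ n)⁻¹ = c ^ n * q * (c ^ n)⁻¹ := by
      intro n
      induction n with
      | zero => simp
      | succ n ih =>
        set t := c ^ (n + 1) * q * (c ^ (n + 1))⁻¹ with htdef
        have hcQ : c ∈ QW := hC_QW hc
        have ht : t ∈ QW := mul_mem (mul_mem (pow_mem hcQ _) hq) (inv_mem (pow_mem hcQ _))
        have htx : Commute x t := by
          have h5 : Commute x (c ^ (n + 1)) := (show Commute x c from hxc).pow_right _
          exact (h5.mul_right hxq).mul_right h5.inv_right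
        calc x' ^ (n + 1) * q * (x' ^ (n + 1))⁻¹ = x' * (x' ^ n * q * (x' ^ n)⁻¹) * x'⁻¹ := by
              rw [pow_succ']; group
          _ = u * e * (k * (c * (c ^ n * q * (c ^ n)⁻¹) * c⁻¹) * k⁻¹) * e⁻¹ * u⁻¹ := by
              rw [ih, hxe]; group
          _ = u * e * (k * t * k⁻¹) * e⁻¹ * u⁻¹ := by rw [htdef, pow_succ']; group
          _ = u * (e * t * e⁻¹) * u⁻¹ := by rw [hkc t ht, mul_inv_cancel_right]; group
          _ = u * t * u⁻¹ := by rw [(hex t htx).eq, mul_inv_cancel_right]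
          _ = t := by
              rw [hQW] at ht
              rw [mem_centralizer_iff.1 ht.2 u hu, mul_inv_cancel_right]
    have hcq : Commute c q := by
      set N := orderOf x'
      have h1 := hact N
      rw [pow_orderOf_eq_one, one_mul, inv_one, mul_one] at h1
      have h2 : Commute (c ^ N) q := mul_inv_eq_iff_eq_mul.1 h1.symm
      obtain ⟨j, hj⟩ := hO2 ⟨c, hCO hc⟩
      have hj' : c ^ 2 ^ j = 1 := congrArg Subtype.val hj
      obtain ⟨m, hm⟩ := exists_pow_eq_self_of_coprime (x := c) (n := N)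
        ((hx'o.pow_right j).coprime_dvd_right (orderOf_dvd_of_pow_eq_one hj'))
      rw [← hm]
      exact h2.pow_left m
    have h1 := hact 1
    rw [pow_one, pow_one, hcq.eq, mul_inv_cancel_right] at h1
    have h4 : x' * q = q * x' := mul_inv_eq_iff_eq_mul.1 h1
    calc x * (r * q * r⁻¹) = r * (x' * q) * r⁻¹ := by rw [hx'def]; group
      _ = r * (q * x') * r⁻¹ := by rw [h4]
      _ = r * q * r⁻¹ * x := by rw [hx'def]; group
  · -- separation
    have hne' : W.map (MulAut.conj (f r)).toMonoidHom ≠ W := fun e => hne (hkey r hr e)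
    obtain ⟨hWc, hyc⟩ := hW.conj_ne _ hne'
    have hxv : ∀ v' ∈ V.map (MulAut.conj r).toMonoidHom, x * v' = v' * x := by
      intro v' hv'
      obtain ⟨hv'O, hv'W⟩ := hfVr r v' hv'
      set c := v'⁻¹ * (x * v' * x⁻¹) with hc
      have hcC : c ∈ C := hkerP _ (by
        rw [hc, map_mul, map_inv, map_mul, map_mul, map_inv, hfx,
          ← mem_centralizer_iff.1 hyc _ hv'W]; group)
        (hOP (mul_mem (inv_mem hv'O) ((Cores.pCore_normal 2 X).conj_mem v' hv'O x)))
      have h1 := eq_one_of_step (P.2.to_le hM.cMax_ch.1) hcC hxo (hxC c hcC)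
        (show x * v' * x⁻¹ = v' * c by rw [hc]; group)
      rw [h1, eq_comm, inv_mul_eq_one] at hc
      exact mul_inv_eq_iff_eq_mul.1 hc.symm
    refine ⟨mem_centralizer_iff.2 fun v' hv' => (hxv v' hv').symm,
      fun v' hv' => mem_centralizer_iff.2 fun v hv => ?_⟩
    obtain ⟨hv'O, -⟩ := hfVr r v' hv'
    exact (hVZ v hv v' hv'O).symm
  · -- the Thompson subgroup moves `V`
    intro hle
    set J := jSub (P : Subgroup X)
    set M : Subgroup X := (P : Subgroup X) ⊓
      centralizer ((⨆ r : ↥(P : Subgroup X), V.map (MulAut.conj (r : X)).toMonoidHom : Subgroup X) : Set X) with hMdef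
    have hV1 : V ≤ ⨆ r : ↥(P : Subgroup X), V.map (MulAut.conj (r : X)).toMonoidHom :=
      PMinimal.le_iSup_conj _ _
    have hMQ : ∀ g ∈ M, g ∈ (P : Subgroup X) ⊓ centralizer (V : Set X) := fun g hg =>
      ⟨hg.1, centralizer_le (SetLike.coe_subset_coe.2 hV1) hg.2⟩
    have hVM : V ≤ M := le_inf (hOP.trans' hVO) (le_centralizer_iff.1 (iSup_le fun r => ?_))
    · have hPM : (P : Subgroup X) ≤ normalizer (M : Set X) := fun p hp => by
        have h1 := PMinimal.le_normalizer_iSup_conj (P : Subgroup X) V hp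
        refine mem_normalizer_iff_map_conj_eq.2 ((Subgroup.map_inf _ _ _ (MulAut.conj p).injective).trans ?_)
        exact congrArg₂ (· ⊓ ·) (mem_normalizer_iff_map_conj_eq.1 (le_normalizer hp))
          ((map_cent (MulAut.conj p) _).trans
            (congrArg (fun Z : Subgroup X => centralizer (Z : Set X)) (mem_normalizer_iff_map_conj_eq.1 h1)))
      have hxM : x ∈ normalizer (M : Set X) := Coprime.mem_normalizer_of_forall fun g hg => by
        rw [show x * g * x⁻¹ = (x * g * x⁻¹ * g⁻¹) * g by group]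
        exact mul_mem (hVM (hblk.comm g (hMQ g hg))) hg
      have hMn : M.Normal := normalizer_eq_top_iff.1
        (top_le_iff.1 (hgen.ge.trans (sup_le hPM (zpowers_le.2 hxM))))
      refine hM.jSub_not_le (le_trans ?_ (Cores.le_pCore hMn (P.2.to_le inf_le_left)))
      refine le_inf (PLocal.thompsonSubgroupOf_le _) (le_centralizer_iff.1 (iSup_le fun r => ?_))
      refine le_centralizer_iff.1 fun j hj => ?_
      refine mem_centralizer_iff.2 ?_
      rintro _ ⟨v, hv, rfl⟩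
      have h1 : (r : X)⁻¹ * j * r ∈ J :=
        (mem_normalizer_iff''.1 ((isCh_jSub _).le_normalizer' r.2) j).1 hj
      have h2 := mem_centralizer_iff.1 (hle h1) v hv
      show (r : X) * v * (r : X)⁻¹ * j = j * ((r : X) * v * (r : X)⁻¹)
      calc (r : X) * v * (r : X)⁻¹ * j = r * (v * ((r : X)⁻¹ * j * r)) * (r : X)⁻¹ := by group
        _ = r * (((r : X)⁻¹ * j * r) * v) * (r : X)⁻¹ := by rw [h2]
        _ = j * ((r : X) * v * (r : X)⁻¹) := by group
    · intro v' hv'
      exact mem_centralizer_iff.2 fun v hv => (hVZ v hv v' (hfVr r v' hv').1).symm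

end Cfsg.Agent.EvenNilp
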