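import Cfsg.Agent.Lib.EvenNilp.Blocks

/-!
# The minimal non-2-nilpotent group over the Sylow subgroup (helper46)

* `Min P`: every proper overgroup of `P` is 2-nilpotent, `C(O₂)` is 2-nilpotent, and no characteristic
  subgroup of `P` containing `Ω₁Z(P)` is normal
* `Min.exists_blk4`: a block in the quotient by `O(X) C`
-/

set_option autoImplicit false
set_option linter.unusedSectionVars false
set_option linter.style.haveILetI false

namespace Cfsg.Agent.EvenNilp

open Subgroup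
open scoped Pointwise commutatorElement

universe u

variable {X : Type u} [Group X] [Finite X]

instance fact_two : Fact (Nat.Prime 2) := ⟨Nat.prime_two⟩

theorem exists_parts (g : X) : ∃ a b : X, g = a * b ∧ a ∈ zpowers g ∧ b ∈ zpowers g ∧
    (∃ k, a ^ 2 ^ k = 1) ∧ (orderOf b).Coprime 2 := by
  obtain ⟨a, b, h1, h2, h3, ⟨k, hk⟩, h4⟩ := Transfer.exists_pPart_mul (p := 2) g
  exact ⟨a, b, h1, h2, h3, ⟨k, by rw [← hk, pow_orderOf_eq_one]⟩, h4⟩

theorem isPGroup_two_of_odd {Y : Subgroup X} (h : ∀ x ∈ Y, (orderOf x).Coprime 2 → x = 1) :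
    IsPGroup 2 Y := by
  rintro ⟨g, hg⟩
  obtain ⟨a, b, hab, -, hb, ⟨k, hk⟩, hbo⟩ := exists_parts g
  rw [h b ((zpowers_le.2 hg) hb) hbo, mul_one] at hab
  exact ⟨k, Subtype.ext (by rw [Subgroup.coe_pow]; exact hab ▸ hk)⟩

/-- The image of an element of odd order in a 2-group is trivial. -/
theorem map_eq_one_of_odd {Y : Type*} [Group Y] [Finite Y] (f : X →* Y) {T : Subgroup Y} (hT : IsPGroup 2 T)
    {x : X} (ho : (orderOf x).Coprime 2) (hx : f x ∈ T) : f x = 1 :=
  eq_one_of_two_of_odd hT hx (ho.coprime_dvd_left (orderOf_map_dvd f x))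

/-- A minimal non-2-nilpotent group over a Sylow 2-subgroup. -/
structure Min (P : Sylow 2 X) : Prop where
  nc : ¬ Cfsg.HasNormalPComplement 2 X
  proper : ∀ Y : Subgroup X, (P : Subgroup X) ≤ Y → Y ≠ ⊤ → Cfsg.HasNormalPComplement 2 Y
  hcq : Cfsg.HasNormalPComplement 2 (centralizer (Cfsg.pCore 2 X : Set X))
  hch : ∀ W : Subgroup X, IsCh W P → W.Normal → zSub (P : Subgroup X) ≤ W → False

theorem IsCh.refl (Y : Subgroup X) : IsCh Y Y := ⟨le_rfl, fun f a _ => (f a).2⟩

theorem IsCh.sSup_le {T : Subgroup X} {s : Set (Subgroup X)} (h : ∀ W ∈ s, IsCh W T) : IsCh (sSup s) T := by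
  have hle : sSup s ≤ T := _root_.sSup_le fun W hW => (h W hW).1
  refine ⟨hle, fun f a ha => ?_⟩
  let Y : Subgroup X := (((sSup s).subgroupOf T).comap f.toMonoidHom).map T.subtype
  have hY : sSup s ≤ Y := _root_.sSup_le fun W hW w hw =>
    ⟨⟨w, (h W hW).1 hw⟩, le_sSup (α := Subgroup X) hW ((h W hW).2 f ⟨w, (h W hW).1 hw⟩ hw), rfl⟩
  obtain ⟨b, hb, hba⟩ := hY ha
  obtain rfl := Subtype.ext hba
  exact hb

theorem IsCh.sup {T W W' : Subgroup X} (h : IsCh W T) (h' : IsCh W' T) : IsCh (W ⊔ W') T := by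
  rw [← sSup_pair]
  exact IsCh.sSup_le fun V hV => by rcases hV with rfl | rfl <;> assumption

theorem IsCh.cent {T W : Subgroup X} (h : IsCh W T) : IsCh (T ⊓ centralizer (W : Set X)) T := by
  refine ⟨inf_le_left, fun f a ha => ⟨(f a).2, mem_centralizer_iff.2 fun w hw => ?_⟩⟩
  set b : T := f.symm ⟨w, h.1 hw⟩ with hbdef
  have hb : (b : X) ∈ W := h.2 f.symm ⟨w, h.1 hw⟩ hw
  have hab : b * a = a * b := Subtype.ext (mem_centralizer_iff.1 ha.2 (b : X) hb)
  have := congrArg (fun c : T => (f c : X)) hab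
  simpa [hbdef] using this

namespace Min

variable {P : Sylow 2 X} (hM : Min P)

/-- `O(X)`. -/
local notation "K" => Cfsg.pPrimeCore 2 X
/-- `O₂(X)`. -/
local notation "OT" => Cfsg.pCore 2 X

theorem K_inf_two {T : Subgroup X} (hT : IsPGroup 2 T) {g : X} (hK : g ∈ K) (hg : g ∈ T) : g = 1 :=
  eq_one_of_two_of_odd hT hg
    ((Cores.coprime_card_pPrimeCore 2).coprime_dvd_left (orderOf_dvd_natCard _ hK))

theorem K_odd {g : X} (hK : g ∈ K) : (orderOf g).Coprime 2 :=
  (Cores.coprime_card_pPrimeCore 2).coprime_dvd_left (orderOf_dvd_natCard _ hK)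

theorem Q_le : OT ≤ (P : Subgroup X) := Cores.pCore_le_sylow P

theorem K_comm_Q {k q : X} (hk : k ∈ K) (hq : q ∈ OT) : k * q = q * k := by
  have h1 : k * q * k⁻¹ * q⁻¹ ∈ K := by
    rw [show k * q * k⁻¹ * q⁻¹ = k * (q * k⁻¹ * q⁻¹) by group]
    exact mul_mem hk ((Cores.pPrimeCore_normal 2 X).conj_mem _ (inv_mem hk) q)
  have h2 : k * q * k⁻¹ * q⁻¹ ∈ OT := mul_mem ((Cores.pCore_normal 2 X).conj_mem q hq k) (inv_mem hq)
  have h3 := K_inf_two (Cores.isPGroup_pCore 2 X) h1 h2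
  exact mul_inv_eq_iff_eq_mul.1 (mul_inv_eq_one.1 h3)

theorem odd_mem_K_of_mem_sup {x : X} (hx : x ∈ K ⊔ OT) (ho : (orderOf x).Coprime 2) : x ∈ K := by
  haveI := Cores.pPrimeCore_normal 2 X
  obtain ⟨k, hk, q, hq, rfl⟩ := mem_sup_of_normal_left.1 hx
  set π := QuotientGroup.mk' K
  have h1 : π (k * q) ∈ (OT).map π :=
    ⟨q, hq, by rw [map_mul, show π k = 1 from (QuotientGroup.eq_one_iff k).2 hk, one_mul]⟩
  exact (QuotientGroup.eq_one_iff _).1
    (map_eq_one_of_odd π ((Cores.isPGroup_pCore 2 X).map π) ho h1)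

include hM

theorem odd_mem_K_of_cent {x : X} (hx : x ∈ centralizer (OT : Set X)) (ho : (orderOf x).Coprime 2) : x ∈ K := by
  set C := centralizer (OT : Set X)
  haveI : C.Normal := Subgroup.normal_centralizer
  haveI : (Cfsg.pResidual 2 C).Characteristic :=
    characteristic_iff_map_eq.2 fun e => Transfer.map_pResidual_equiv e
  have hn : ((Cfsg.pResidual 2 C).map C.subtype).Normal := inferInstance
  have hco : (Nat.card ((Cfsg.pResidual 2 C).map C.subtype)).Coprime 2 := by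
    rw [card_map_of_injective C.subtype_injective]
    exact Transfer.hasNormalPComplement_iff_coprime.1 hM.hcq
  exact Cores.le_pPrimeCore hn hco
    ⟨⟨x, hx⟩, Transfer.mem_pResidual_of_coprime (by rwa [Subgroup.orderOf_mk]), rfl⟩

/-- A normal subgroup whose elements of odd order lie in `O(X)`. -/
theorem normal_le {N : Subgroup X} [hN : N.Normal] (h : ∀ x ∈ N, (orderOf x).Coprime 2 → x ∈ K) :
    N ≤ K ⊔ OT := by
  haveI := Cores.pPrimeCore_normal 2 X
  set T := (P : Subgroup X) ⊓ N with hT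
  let T' : Sylow 2 N := PReduced.sylowOfSubnormal P hN.isSubnormal
  have hTeq : (T' : Subgroup N).map N.subtype = T := by
    show ((P : Subgroup X).subgroupOf N).map N.subtype = T
    rw [subgroupOf_map_subtype]
  have hfr := Sylow.normalizer_sup_eq_top T'
  rw [hTeq] at hfr
  set M := normalizer (T : Set X) with hMdef
  have hPM : (P : Subgroup X) ≤ M := le_normalizer_iff.2 fun s hs t ht =>
    ⟨P.mul_mem (P.mul_mem hs ht.1) (P.inv_mem hs), hN.conj_mem t ht.2 s⟩
  set π := QuotientGroup.mk' K with hπ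
  -- modulo `O(X)`, `N` is `T`
  have hNT : ∀ n ∈ N, ∃ t ∈ T, π n = π t := by
    let g : N →* ↥(N.map π) := π.subgroupMap N
    have hg : Function.Surjective g := MonoidHom.subgroupMap_surjective π N
    have h2 : IsPGroup 2 ↥(N.map π) := isPGroup_two_of_odd fun q hq ho => by
      obtain ⟨n, hn, rfl⟩ := hq
      obtain ⟨a, b, rfl, -, hb, ⟨k, hk⟩, hbo⟩ := exists_parts n
      have hb1 : π b = 1 := (QuotientGroup.eq_one_iff b).2 (h b ((zpowers_le.2 hn) hb) hbo)
      rw [map_mul, hb1, mul_one] at ho ⊢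
      exact orderOf_eq_one_iff.1 (Nat.eq_one_of_dvd_coprimes (ho.pow_right k) dvd_rfl
        (orderOf_dvd_of_pow_eq_one (by rw [← map_pow, hk, map_one])))
    have htop : ((T'.mapSurjective hg : Sylow 2 ↥(N.map π)) : Subgroup ↥(N.map π)) = ⊤ :=
      ((T'.mapSurjective hg).3 (Q := ⊤) (h2.to_subgroup ⊤) le_top).symm
    intro n hn
    have hm : g ⟨n, hn⟩ ∈ ((T'.mapSurjective hg : Sylow 2 ↥(N.map π)) : Subgroup ↥(N.map π)) := by
      rw [htop]; trivial
    obtain ⟨t, ht, hte⟩ := hm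
    exact ⟨t, hTeq.le ⟨t, ht, rfl⟩, (congrArg Subtype.val hte).symm⟩
  have hMtop : M = ⊤ := by
    by_contra hne
    apply hM.nc
    refine PLocal.hnpc_of_coprime_ker π (QuotientGroup.mk'_surjective _)
      (by rw [QuotientGroup.ker_mk']; exact Cores.coprime_card_pPrimeCore 2) ?_
    have hsur : M.map π = ⊤ := by
      refine eq_top_iff.2 fun q _ => ?_
      obtain ⟨g, rfl⟩ := QuotientGroup.mk'_surjective K q
      obtain ⟨m, hm, n, hn, rfl⟩ := mem_sup_of_normal_right.1 (show g ∈ M ⊔ N by rw [hfr]; trivial)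
      obtain ⟨t, ht, he⟩ := hNT n hn
      exact ⟨m * t, mul_mem hm (le_normalizer ht), by rw [map_mul, map_mul, he]⟩
    exact Transfer.hasNormalPComplement_of_equiv
      (hsur ▸ PLocal.hnpc_of_map (f := π) (hM.proper M hPM hne)) topEquiv
  have hTn : T.Normal := normalizer_eq_top_iff.1 hMtop
  have hTQ : T ≤ OT := Cores.le_pCore hTn (P.2.to_le inf_le_left)
  intro n hn
  obtain ⟨t, ht, he⟩ := hNT n hn
  have hk : n * t⁻¹ ∈ K := (QuotientGroup.eq_one_iff _).1 (by
    show π (n * t⁻¹) = 1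
    rw [map_mul, map_inv, he, mul_inv_cancel])
  rw [show n = (n * t⁻¹) * t by group]
  exact mul_mem (mem_sup_left hk) (mem_sup_right (hTQ ht))

theorem cent_le : centralizer (OT : Set X) ≤ K ⊔ OT :=
  haveI : (centralizer (OT : Set X)).Normal := Subgroup.normal_centralizer
  hM.normal_le fun _ hx ho => hM.odd_mem_K_of_cent hx ho

theorem sup_inf_P {g : X} (hg : g ∈ K ⊔ OT) (hP : g ∈ (P : Subgroup X)) : g ∈ OT := by
  haveI := Cores.pPrimeCore_normal 2 X
  obtain ⟨k, hk, q, hq, rfl⟩ := mem_sup_of_normal_left.1 hg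
  rw [K_inf_two P.2 hk ((Subgroup.mul_mem_cancel_right _ (Q_le hq)).1 hP), one_mul]
  exact hq

theorem odd_mem_K_of_proper {Y : Subgroup X} (hPY : (P : Subgroup X) ≤ Y) (hY : Y ≠ ⊤) {x : X}
    (hx : x ∈ Y) (ho : (orderOf x).Coprime 2) : x ∈ K := by
  refine hM.odd_mem_K_of_cent ?_ ho
  have hc := Transfer.mem_centralizer_of_coprime (hM.proper Y hPY hY) (Q := (OT).subgroupOf Y)
    ((Cores.isPGroup_pCore 2 X).of_equiv (subgroupOfEquivOfLe (Q_le.trans hPY)).symm) (g := ⟨x, hx⟩)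
    (by rw [normalizer_eq_top_iff.2 (inferInstance : ((OT).subgroupOf Y).Normal)]; exact mem_top _)
    (by rwa [Subgroup.orderOf_mk])
  exact mem_centralizer_iff.2 fun q hq =>
    congrArg Subtype.val (mem_centralizer_iff.1 hc ⟨q, hPY (Q_le hq)⟩ hq)

theorem sup_zpowers {x : X} (ho : (orderOf x).Coprime 2) (hx : x ∉ K) :
    (P : Subgroup X) ⊔ zpowers x = ⊤ :=
  by_contra fun hne => hx (hM.odd_mem_K_of_proper le_sup_left hne (mem_sup_right (mem_zpowers x)) ho)

theorem not_normal : ¬ (P : Subgroup X).Normal := fun h => hM.hch _ (IsCh.refl _) h (zSub_le _)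

theorem zP_le : zSub (P : Subgroup X) ≤ OT := fun z hz => hM.sup_inf_P
  (hM.cent_le (mem_centralizer_iff.2 fun q hq => (mem_zSub.1 hz).2.1 q (Q_le hq))) (zSub_le _ hz)

theorem jSub_not_le : ¬ jSub (P : Subgroup X) ≤ OT := by
  intro hle
  have hQP : ∀ B ∈ elemMax (P : Subgroup X), B ≤ OT := fun B hB => (le_jSub hB).trans hle
  obtain ⟨B, hB⟩ := PLocal.exists_maxIn (Q := PLocal.elemAb 2) PLocal.elemAb_bot (P : Subgroup X)
  have heq : jSub (P : Subgroup X) = jSub OT := by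
    rw [jSub_eq, jSub_eq]
    refine le_antisymm (sSup_le_sSup fun C hC => PLocal.maxIn_of_mem_le hC (hQP C hC) Q_le)
      (sSup_le_sSup (PLocal.maxIn_subset hB (hQP B hB) Q_le))
  have hn : (jSub (P : Subgroup X)).Normal := by
    refine normalizer_eq_top_iff.1 (top_le_iff.1 ?_)
    rw [heq, ← normalizer_eq_top_iff.2 (Cores.pCore_normal 2 X)]
    exact (isCh_jSub _).le_normalizer
  refine hM.hch _ (isCh_jSub _) hn (le_trans (fun z hz => ?_) (le_jSub hB))
  exact PLocal.mem_of_centralizes hB (zSub_le _ hz) (mem_zSub.1 hz).2.2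
    (mem_centralizer_iff.2 fun b hb => (mem_zSub.1 hz).2.1 b (hB.1 hb))

/-- Characteristic subgroups of `P` normal in `X` are centralised by the elements of odd order. -/
theorem ch_cent {W : Subgroup X} (hW : IsCh W P) (hn : W.Normal) {x : X} (ho : (orderOf x).Coprime 2) :
    x ∈ centralizer (W : Set X) := by
  set C := centralizer (W : Set X)
  haveI : C.Normal := Subgroup.normal_centralizer
  by_cases htop : C ⊔ (P : Subgroup X) = ⊤
  · obtain ⟨c, hc, p, hp, he⟩ := mem_sup_of_normal_left.1 (show x ∈ C ⊔ (P : Subgroup X) by rw [htop]; trivial)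
    set π := QuotientGroup.mk' C
    refine (QuotientGroup.eq_one_iff x).1 (map_eq_one_of_odd π (P.2.map π) ho ?_)
    exact ⟨p, hp, by rw [← he, map_mul, show π c = 1 from (QuotientGroup.eq_one_iff c).2 hc, one_mul]⟩
  · exfalso
    have hCQ : C ≤ K ⊔ OT := hM.normal_le fun y hy hyo =>
      hM.odd_mem_K_of_proper le_sup_right htop (mem_sup_left hy) hyo
    have he : (P : Subgroup X) ⊓ C = OT ⊓ C :=
      le_antisymm (fun g hg => ⟨hM.sup_inf_P (hCQ hg.2) hg.1, hg.2⟩) (inf_le_inf_right _ Q_le)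
    haveI : W.Normal := hn
    refine hM.hch (W ⊔ ((P : Subgroup X) ⊓ C)) (hW.sup hW.cent) ?_ ?_
    · rw [he]
      haveI : (OT ⊓ C).Normal := Subgroup.normal_inf_normal _ _
      infer_instance
    · exact fun z hz => mem_sup_right ⟨zSub_le _ hz,
        mem_centralizer_iff.2 fun w hw => (mem_zSub.1 hz).2.1 w (hW.1 hw)⟩

end Min

/-- The join of the characteristic subgroups of `P` normal in `X`. -/
def cMax (P : Sylow 2 X) : Subgroup X := sSup {W | IsCh W P ∧ W.Normal}

namespace Min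

variable {P : Sylow 2 X} (hM : Min P)
include hM

theorem cMax_ch : IsCh (cMax P) P := IsCh.sSup_le fun _ hW => hW.1

theorem cMax_normal : (cMax P).Normal := Subgroup.sSup_normal _ fun _ hW => hW.2

theorem cMax_le_Q : cMax P ≤ Cfsg.pCore 2 X :=
  Cores.le_pCore hM.cMax_normal (P.2.to_le hM.cMax_ch.1)

theorem cMax_cent {x : X} (ho : (orderOf x).Coprime 2) {c : X} (hc : c ∈ cMax P) : x * c = c * x :=
  (mem_centralizer_iff.1 (hM.ch_cent hM.cMax_ch hM.cMax_normal ho) c hc).symm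

theorem ker_inf {g : X} (hg : g ∈ Cfsg.pPrimeCore 2 X ⊔ cMax P) (hP : g ∈ (P : Subgroup X)) :
    g ∈ cMax P := by
  haveI := Cores.pPrimeCore_normal 2 X
  obtain ⟨k, hk, q, hq, rfl⟩ := mem_sup_of_normal_left.1 hg
  rwa [K_inf_two P.2 hk ((Subgroup.mul_mem_cancel_right _ (hM.cMax_ch.1 hq)).1 hP), one_mul]

theorem odd_ker {x : X} (hx : x ∈ Cfsg.pPrimeCore 2 X ⊔ cMax P) (ho : (orderOf x).Coprime 2) :
    x ∈ Cfsg.pPrimeCore 2 X :=
  odd_mem_K_of_mem_sup ((sup_le_sup_left hM.cMax_le_Q _) hx) ho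

/-- A block in the quotient by `O(X) C`. -/
theorem exists_blk4 : ∃ (Y : Type u) (_ : Group Y) (_ : Finite Y) (f : X →* Y) (W : Subgroup Y) (z y : Y),
    Function.Surjective f ∧ f.ker = Cfsg.pPrimeCore 2 X ⊔ cMax P ∧
      Cfsg.pCore 2 Y = (Cfsg.pCore 2 X).map f ∧ Blk4 W z y := by
  haveI := Cores.pPrimeCore_normal 2 X
  haveI := hM.cMax_normal
  set N := Cfsg.pPrimeCore 2 X ⊔ cMax P
  set π := QuotientGroup.mk' N with hπdef
  have hπ : Function.Surjective π := QuotientGroup.mk'_surjective N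
  have hker : π.ker = N := QuotientGroup.ker_mk' N
  have hkerle : π.ker ≤ Cfsg.pPrimeCore 2 X ⊔ Cfsg.pCore 2 X := hker.le.trans (sup_le_sup_left hM.cMax_le_Q _)
  -- normal subgroups with 2-group image
  have hnorm : ∀ M : Subgroup X, M.Normal → IsPGroup 2 (M.map π) → M ≤ Cfsg.pPrimeCore 2 X ⊔ Cfsg.pCore 2 X :=
    fun M hMn h2 => hM.normal_le (hN := hMn) fun x hx ho => hM.odd_ker
      ((QuotientGroup.eq_one_iff x).1 (map_eq_one_of_odd π h2 ho ⟨x, hx, rfl⟩)) ho
  set P' := P.mapSurjective hπ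
  have hP' : (P' : Subgroup (X ⧸ N)) = (P : Subgroup X).map π := rfl
  have hcore : Cfsg.pCore 2 (X ⧸ N) = (Cfsg.pCore 2 X).map π := by
    refine le_antisymm ?_ (Cores.map_pCore_le π hπ 2)
    conv_lhs => rw [← map_comap_eq_self_of_surjective hπ (Cfsg.pCore 2 (X ⧸ N))]
    refine (map_mono (hnorm _ ((Cores.pCore_normal 2 _).comap π) ?_)).trans ?_
    · rw [map_comap_eq_self_of_surjective hπ]; exact Cores.isPGroup_pCore 2 _
    · rw [Subgroup.map_sup]
      refine sup_le ?_ le_rfl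
      rintro _ ⟨k, hk, rfl⟩
      rw [show π k = 1 from (QuotientGroup.eq_one_iff k).2 (mem_sup_left hk)]
      exact one_mem _
  -- `P'` is maximal
  have hmax : IsCoatom (P' : Subgroup (X ⧸ N)) := by
    refine ⟨fun e => hM.nc ?_, fun Y hlt => ?_⟩
    · refine PLocal.hnpc_of_coprime_ker (QuotientGroup.mk' (Cfsg.pPrimeCore 2 X)) (QuotientGroup.mk'_surjective _)
        (by rw [QuotientGroup.ker_mk']; exact Cores.coprime_card_pPrimeCore 2)
        (Transfer.hasNormalPComplement_of_isPGroup ?_)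
      refine (P.2.map (QuotientGroup.mk' (Cfsg.pPrimeCore 2 X))).of_equiv ((MulEquiv.subgroupCongr ?_).trans topEquiv)
      refine eq_top_iff.2 fun q _ => ?_
      obtain ⟨g, rfl⟩ := QuotientGroup.mk'_surjective _ q
      have hg : π g ∈ (P : Subgroup X).map π := by rw [← hP', e]; trivial
      obtain ⟨p, hp, hpg⟩ := hg
      have h1 : p⁻¹ * g ∈ N := QuotientGroup.eq.1 hpg
      obtain ⟨k, hk, c, hc, hkc⟩ := mem_sup_of_normal_left.1 h1
      refine ⟨p * c, P.mul_mem hp (hM.cMax_ch.1 hc), ?_⟩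
      have hg' : g = p * (k * c) := by rw [hkc]; group
      rw [hg', map_mul, map_mul, map_mul,
        show QuotientGroup.mk' (Cfsg.pPrimeCore 2 X) k = 1 from (QuotientGroup.eq_one_iff k).2 hk, one_mul]
    · by_contra hY
      have hPY : (P : Subgroup X) ≤ Y.comap π := map_le_iff_le_comap.1 (hP' ▸ hlt.le)
      have hne : Y.comap π ≠ ⊤ := fun e => hY (by
        rw [← map_comap_eq_self_of_surjective hπ Y, e, map_top_of_surjective _ hπ])
      have h2 : IsPGroup 2 Y := by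
        rintro ⟨q, hq⟩
        obtain ⟨g, rfl⟩ := hπ q
        obtain ⟨a, b, rfl, -, hb, ⟨k, hk⟩, hbo⟩ := exists_parts g
        have hbK := hM.odd_mem_K_of_proper hPY hne ((zpowers_le.2 (show a * b ∈ Y.comap π from hq)) hb) hbo
        refine ⟨k, Subtype.ext ?_⟩
        show π (a * b) ^ 2 ^ k = 1
        rw [map_mul, show π b = 1 from (QuotientGroup.eq_one_iff b).2 (mem_sup_left hbK), mul_one,
          ← map_pow, hk, map_one]
      exact hlt.ne' (P'.3 h2 hlt.le)
  have hn : ¬ (P' : Subgroup (X ⧸ N)).Normal := fun hn => hM.not_normal (by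
    have h1 := hnorm _ (hn.comap π) (by rw [map_comap_eq_self_of_surjective hπ]; exact P'.2)
    have h2 : (P : Subgroup X) = Cfsg.pCore 2 X := le_antisymm
      (fun p hp => hM.sup_inf_P (h1 (show π p ∈ (P : Subgroup X).map π from ⟨p, hp, rfl⟩)) hp) Q_le
    rw [h2]; exact Cores.pCore_normal 2 X)
  have hchar : centralizer (Cfsg.pCore 2 (X ⧸ N) : Set (X ⧸ N)) ≤ Cfsg.pCore 2 (X ⧸ N) := by
    haveI : ((centralizer (Cfsg.pCore 2 (X ⧸ N) : Set (X ⧸ N)))).Normal := Subgroup.normal_centralizer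
    have h1 : (centralizer (Cfsg.pCore 2 (X ⧸ N) : Set (X ⧸ N))).comap π ≤
        Cfsg.pPrimeCore 2 X ⊔ Cfsg.pCore 2 X := by
      refine hM.normal_le fun x hx ho => hM.odd_mem_K_of_cent (mem_centralizer_iff.2 fun q hq => ?_) ho
      have hc : q⁻¹ * (x * q * x⁻¹) ∈ cMax P := by
        refine hM.ker_inf ((QuotientGroup.eq_one_iff _).1 ?_)
          (Q_le (mul_mem (inv_mem hq) ((Cores.pCore_normal 2 X).conj_mem q hq x)))
        have hcomm := mem_centralizer_iff.1 hx (π q) (hcore.ge ⟨q, hq, rfl⟩)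
        show π (q⁻¹ * (x * q * x⁻¹)) = 1
        rw [map_mul, map_mul, map_mul, map_inv, map_inv, ← hcomm]; group
      set c := q⁻¹ * (x * q * x⁻¹) with hcdef
      have hc1 := eq_one_of_step (P.2.to_le hM.cMax_ch.1) hc ho (hM.cMax_cent ho hc)
        (show x * q * x⁻¹ = q * c by rw [hcdef]; group)
      rw [hc1, eq_comm, inv_mul_eq_one] at hcdef
      exact (mul_inv_eq_iff_eq_mul.1 hcdef.symm).symm
    rw [hcore, ← map_comap_eq_self_of_surjective hπ (centralizer (((Cfsg.pCore 2 X).map π : Subgroup (X ⧸ N)) : Set (X ⧸ N)))]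
    rw [← hcore]
    refine (map_mono h1).trans ?_
    rw [Subgroup.map_sup, hcore]
    refine sup_le ?_ le_rfl
    rintro _ ⟨k, hk, rfl⟩
    rw [show π k = 1 from (QuotientGroup.eq_one_iff k).2 (mem_sup_left hk)]
    exact one_mem _
  have hch : ∀ C : Subgroup (X ⧸ N), IsCh C P' → C ≠ ⊥ → ¬ C.Normal := by
    intro C hC hC1 hCn
    set W := C.comap π ⊓ (P : Subgroup X) with hW
    have hC2 : IsPGroup 2 C := P'.2.to_le hC.1
    have h1 : C.comap π ≤ Cfsg.pPrimeCore 2 X ⊔ Cfsg.pCore 2 X :=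
      hnorm _ (hCn.comap π) (by rw [map_comap_eq_self_of_surjective hπ]; exact hC2)
    have hWn : W.Normal := by
      have e : W = C.comap π ⊓ Cfsg.pCore 2 X := le_antisymm
        (fun g hg => ⟨hg.1, hM.sup_inf_P (h1 hg.1) hg.2⟩) (inf_le_inf_left _ Q_le)
      rw [e]
      haveI := hCn.comap π
      exact Subgroup.normal_inf_normal _ _
    have hWch : IsCh W P := by
      refine ⟨inf_le_right, fun φ a ha => ⟨?_, (φ a).2⟩⟩
      let g : ↥(P : Subgroup X) →* ↥(P' : Subgroup (X ⧸ N)) := π.subgroupMap (P : Subgroup X)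
      have hgs : Function.Surjective g := MonoidHom.subgroupMap_surjective π _
      have hgker : ∀ b : ↥(P : Subgroup X), g b = 1 ↔ (b : X) ∈ cMax P := fun b => by
        rw [Subtype.ext_iff]
        show π (b : X) = 1 ↔ _
        rw [← MonoidHom.mem_ker, hker]
        exact ⟨fun h => hM.ker_inf h b.2, fun h => mem_sup_right h⟩
      have hmap : g.ker.map φ.toMonoidHom = g.ker := by
        refine Subgroup.eq_of_le_of_card_ge ?_ (card_map_of_injective φ.injective).ge
        rintro _ ⟨b, hb, rfl⟩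
        exact (hgker _).2 (hM.cMax_ch.2 φ b ((hgker b).1 hb))
      let i := QuotientGroup.quotientKerEquivOfSurjective g hgs
      let e := i.symm.trans ((QuotientGroup.congr g.ker g.ker φ hmap).trans i)
      have he : e (g a) = g (φ a) := by
        have h2 : i.symm (g a) = (a : ↥(P : Subgroup X) ⧸ g.ker) := i.symm_apply_eq.2 rfl
        show i ((QuotientGroup.congr g.ker g.ker φ hmap) (i.symm (g a))) = g (φ a)
        rw [h2]; rfl
      have h3 := hC.2 e (g a) ha.1
      rw [he] at h3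
      exact h3
    have hWC : W ≤ cMax P := le_sSup (show W ∈ {W | IsCh W P ∧ W.Normal} from ⟨hWch, hWn⟩)
    refine hC1 ((eq_bot_iff_forall C).2 fun c hc => ?_)
    obtain ⟨p, hp, rfl⟩ := (show c ∈ (P : Subgroup X).map π from hC.1 hc)
    exact (QuotientGroup.eq_one_iff p).2 (mem_sup_right (hWC ⟨hc, hp⟩))
  have hz : ¬ (zSub (P' : Subgroup (X ⧸ N))).Normal := fun hz => hch _ (isCh_zSub _)
    (LocalCGT.omegaOneCenter_ne_bot P'.2 fun e => hn (by rw [e]; infer_instance)) hz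
  obtain ⟨W, z, y, hW⟩ := EvenNilp.exists_blk4 P' hmax hn hchar hch hz
  exact ⟨X ⧸ N, inferInstance, inferInstance, π, W, z, y, hπ, hker, hcore, hW⟩

end Min

end Cfsg.Agent.EvenNilp
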