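import Cfsg.Agent.Lib.EvenNilp.Init

/-!
# The blocks of `R` and their classes (helper46)

* `zR R U`: the involution of a block, `MR R U`: `U` is a block in `R`
* `cls R U = (zR R U, C_R(U))`: at most two classes for each involution
* `false_of_invariant`: the case of an invariant `J(P)`
-/

set_option autoImplicit false
set_option linter.unusedSectionVars false
set_option linter.style.haveILetI false

namespace Cfsg.Agent.EvenNilp

open Subgroup CoprimeNilMax
open scoped Pointwise

universe u v

variable {A : Type v} [Group A] [Finite A] {G : Type u} [Group G] [Finite G]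

/-- The involution of a four group normalised by `R`. -/
noncomputable def zR (R U : Subgroup G) : G :=
  Classical.epsilon fun z => z ∈ U ∧ z ≠ 1 ∧ ∀ r ∈ R, r * z = z * r

/-- A block in `R`. -/
def MR (R U : Subgroup G) : Prop := ∃ x, RBlk R U x (zR R U)

/-- The class of a block. -/
noncomputable def cls (R U : Subgroup G) : G × Subgroup G := (zR R U, R ⊓ centralizer (U : Set G))

theorem RBlk.zR_eq {R U : Subgroup G} {x z : G} (h : RBlk R U x z) : zR R U = z := by
  have hs := Classical.epsilon_spec
    (p := fun w => w ∈ U ∧ w ≠ 1 ∧ ∀ r ∈ R, r * w = w * r) ⟨z, h.four.zmem, h.four.zne, h.zc⟩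
  exact (h.eq_of_central hs.1 hs.2.2).resolve_left hs.2.1

theorem RBlk.mr {R U : Subgroup G} {x z : G} (h : RBlk R U x z) : MR R U := ⟨x, h.zR_eq.symm ▸ h⟩

namespace MR

variable {R U U' U'' : Subgroup G}

theorem four (h : MR R U) : IsFour U (zR R U) := h.choose_spec.four

theorem le (h : MR R U) : U ≤ R := h.choose_spec.le

theorem norm (h : MR R U) : R ≤ normalizer (U : Set G) := h.choose_spec.norm

theorem zc (h : MR R U) : ∀ r ∈ R, r * zR R U = zR R U * r := h.choose_spec.zc

theorem z_mem (h : MR R U) : zR R U ∈ U := h.four.zmem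

theorem z_mem_R (h : MR R U) : zR R U ∈ R := h.le h.z_mem

theorem exists_mover (h : MR R U) : ∃ r ∈ R, r ∉ centralizer (U : Set G) := h.choose_spec.exists_mover

theorem map (h : MR R U) (e : MulAut G) (he : R.map (e : G ≃* G).toMonoidHom = R) :
    MR R (U.map (e : G ≃* G).toMonoidHom) := (h.choose_spec.map e he).mr

theorem zR_map (h : MR R U) (e : MulAut G) (he : R.map (e : G ≃* G).toMonoidHom = R) :
    zR R (U.map (e : G ≃* G).toMonoidHom) = e (zR R U) := (h.choose_spec.map e he).zR_eq

theorem commute_of_ne (h : MR R U) (h' : MR R U') (hz : zR R U ≠ zR R U') :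
    U' ≤ centralizer (U : Set G) := h.choose_spec.commute_of_ne h'.choose_spec hz

theorem commute_of_cls (h : MR R U) (h' : MR R U') (hc : cls R U = cls R U') :
    U' ≤ centralizer (U : Set G) := h.choose_spec.commute_of_cen h'.choose_spec (congrArg Prod.snd hc)

theorem cls_eq (h : MR R U) (h' : MR R U') (hz : zR R U = zR R U') (hc : U' ≤ centralizer (U : Set G)) :
    cls R U = cls R U' :=
  Prod.ext hz (h.choose_spec.cen_eq h'.choose_spec hz hc)

theorem commute_cases (h : MR R U) (h' : MR R U') :
    U' ≤ centralizer (U : Set G) ∨ (zR R U = zR R U' ∧ cls R U ≠ cls R U') := by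
  by_cases hc : cls R U = cls R U'
  · exact Or.inl (h.commute_of_cls h' hc)
  by_cases hz : zR R U = zR R U'
  · exact Or.inr ⟨hz, hc⟩
  · exact Or.inl (h.commute_of_ne h' hz)

theorem two_values (h : MR R U) (h' : MR R U') (h'' : MR R U'') (hz : zR R U = zR R U')
    (hz' : zR R U = zR R U'') : cls R U = cls R U' ∨ cls R U = cls R U'' ∨ cls R U' = cls R U'' := by
  obtain ⟨x', e1⟩ := id h'
  obtain ⟨x'', e2⟩ := id h''
  rw [← hz] at e1
  rw [← hz'] at e2
  rcases h.choose_spec.two_values e1 e2 with e | e | e
  · exact Or.inl (Prod.ext hz e)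
  · exact Or.inr (Or.inl (Prod.ext hz' e))
  · exact Or.inr (Or.inr (Prod.ext (hz.symm.trans hz') e))

theorem cls_map (h : MR R U) (e : MulAut G) (he : R.map (e : G ≃* G).toMonoidHom = R) :
    cls R (U.map (e : G ≃* G).toMonoidHom) = (e (zR R U), (cls R U).2.map (e : G ≃* G).toMonoidHom) := by
  refine Prod.ext (h.zR_map e he) ?_
  show R ⊓ centralizer ((U.map (e : G ≃* G).toMonoidHom : Subgroup G) : Set G) =
    (R ⊓ centralizer (U : Set G)).map (e : G ≃* G).toMonoidHom
  rw [Subgroup.map_inf _ _ _ (e : G ≃* G).injective, he, map_cent]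

/-- Equality of classes is preserved by automorphisms fixing `R`. -/
theorem cls_map_congr (h : MR R U) (h' : MR R U') (hc : cls R U = cls R U') (e : MulAut G)
    (he : R.map (e : G ≃* G).toMonoidHom = R) :
    cls R (U.map (e : G ≃* G).toMonoidHom) = cls R (U'.map (e : G ≃* G).toMonoidHom) := by
  rw [h.cls_map e he, h'.cls_map e he, congrArg Prod.snd hc, show zR R U = zR R U' from congrArg Prod.fst hc]

theorem cls_map_inj (h : MR R U) (h' : MR R U') (e : MulAut G) (he : R.map (e : G ≃* G).toMonoidHom = R)
    (hc : cls R (U.map (e : G ≃* G).toMonoidHom) = cls R (U'.map (e : G ≃* G).toMonoidHom)) :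
    cls R U = cls R U' := by
  rw [h.cls_map e he, h'.cls_map e he] at hc
  obtain ⟨h1, h2⟩ := Prod.ext_iff.1 hc
  exact Prod.ext ((e : G ≃* G).injective h1) (map_injective (e : G ≃* G).injective h2)

end MR

theorem map_pow_eq {R : Subgroup G} {e : MulAut G} (he : R.map (e : G ≃* G).toMonoidHom = R) (n : ℕ) :
    R.map ((e ^ n : MulAut G) : G ≃* G).toMonoidHom = R := by
  induction n with
  | zero => exact Subgroup.map_id R
  | succ n ih =>
    have h : ((e ^ (n + 1) : MulAut G) : G ≃* G).toMonoidHom =
        (e : G ≃* G).toMonoidHom.comp ((e ^ n : MulAut G) : G ≃* G).toMonoidHom := by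
      ext g; simp [pow_succ']
    rw [h, ← map_map, ih, he]

/-- An automorphism of odd order fixing `R` and the involution of a block fixes its class. -/
theorem MR.cls_fixed_of_odd {R U : Subgroup G} (h : MR R U) (e : MulAut G)
    (he : R.map (e : G ≃* G).toMonoidHom = R) (hodd : Odd (orderOf e)) (hz : e (zR R U) = zR R U) :
    cls R (U.map (e : G ≃* G).toMonoidHom) = cls R U := by
  by_contra hne
  have hzn : ∀ n : ℕ, (e ^ n : MulAut G) (zR R U) = zR R U := fun n => by
    induction n with
    | zero => rfl
    | succ n ih => rw [pow_succ', MulAut.mul_apply, ih, hz]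
  have key : ∀ n : ℕ, cls R (U.map ((e ^ n : MulAut G) : G ≃* G).toMonoidHom) =
      if Even n then cls R U else cls R (U.map (e : G ≃* G).toMonoidHom) := by
    intro n
    induction n with
    | zero =>
      rw [if_pos Even.zero]
      exact congrArg (cls R) (Subgroup.map_id U)
    | succ n ih =>
      have hn := h.map _ (map_pow_eq he n)
      have hstep : U.map ((e ^ (n + 1) : MulAut G) : G ≃* G).toMonoidHom =
          (U.map ((e ^ n : MulAut G) : G ≃* G).toMonoidHom).map (e : G ≃* G).toMonoidHom := by
        rw [map_map]; congr 1; ext g; simp [pow_succ']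
      rw [hstep]
      by_cases hev : Even n
      · rw [if_pos hev] at ih
        rw [if_neg (by rw [Nat.even_add_one]; exact not_not.2 hev), hn.cls_map_congr h ih e he]
      · rw [if_neg hev] at ih
        rw [if_pos (Nat.even_add_one.2 hev), hn.cls_map_congr (h.map e he) ih e he]
        have hU1 := h.map e he
        have hU2 := hU1.map e he
        have z1 : zR R (U.map (e : G ≃* G).toMonoidHom) = zR R U := by rw [h.zR_map e he, hz]
        have z2 : zR R ((U.map (e : G ≃* G).toMonoidHom).map (e : G ≃* G).toMonoidHom) = zR R U := by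
          rw [hU1.zR_map e he, z1, hz]
        rcases h.two_values hU1 hU2 z1.symm z2.symm with q | q | q
        · exact absurd q.symm hne
        · exact q.symm
        · exact absurd (h.cls_map_inj hU1 e he q).symm hne
  have := key (orderOf e)
  rw [pow_orderOf_eq_one, if_neg (Nat.not_even_iff_odd.2 hodd)] at this
  exact hne (this.symm.trans (congrArg (cls R) (Subgroup.map_id U)))

/-- An invariant `R` with a block is impossible. -/
theorem false_of_invariant {φ : A →* MulAut G} {S : Sylow 2 G} (H : Hyp φ S) {R V : Subgroup G}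
    {x z : G} (hRS : R ≤ S) (hR : Inv φ R) (hV : RBlk R V x z) : False := by
  have hm := hV.mr
  have hmem : ∀ a : A, MR R (V.map (φ a).toMonoidHom) := fun a => hm.map (φ a) (hR a)
  have hcomp : ∀ a b : A, (V.map (φ a).toMonoidHom).map (φ b).toMonoidHom =
      V.map (φ (b * a)).toMonoidHom := fun a b => by
    rw [map_map]; congr 1; ext g; simp [map_mul]
  have hcls : ∀ a b : A, zR R (V.map (φ a).toMonoidHom) = zR R (V.map (φ b).toMonoidHom) →
      cls R (V.map (φ a).toMonoidHom) = cls R (V.map (φ b).toMonoidHom) := by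
    intro a b hz
    set c := b * a⁻¹
    have e : (V.map (φ a).toMonoidHom).map (φ c).toMonoidHom = V.map (φ b).toMonoidHom := by
      rw [hcomp]; simp [c]
    rw [← e] at hz ⊢
    refine ((hmem a).cls_fixed_of_odd (φ c) (hR c) ?_ ?_).symm
    · exact H.odd.of_dvd_nat ((orderOf_map_dvd φ c).trans (orderOf_dvd_natCard c))
    · rw [← (hmem a).zR_map (φ c) (hR c)]; exact hz.symm
  have hcomm : ∀ a b : A, V.map (φ b).toMonoidHom ≤
      centralizer ((V.map (φ a).toMonoidHom : Subgroup G) : Set G) := fun a b =>
    ((hmem a).commute_cases (hmem b)).resolve_right fun ⟨hz, hne⟩ => hne (hcls a b hz)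
  set W := ⨆ a : A, V.map (φ a).toMonoidHom with hW
  have hV1 : V.map (φ 1).toMonoidHom = V := by rw [map_one]; exact Subgroup.map_id V
  have hVW : V ≤ W := le_iSup_of_le (f := fun a : A => V.map (φ a).toMonoidHom) 1 hV1.ge
  have hWe : Cfsg.IsElementaryAbelian 2 W :=
    PLocal.elemAb_iSup _ (fun a => PLocal.elemAb_map _ hV.four.elemAb) fun a b => hcomm b a
  have hWinv : Inv φ W := inv_of_le fun c => by
    rw [hW, Subgroup.map_iSup]
    exact iSup_le fun a => (hcomp a c).le.trans (le_iSup (fun a : A => V.map (φ a).toMonoidHom) (c * a))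
  have hWle : W ≤ R ⊓ centralizer (V : Set G) := iSup_le fun a => le_inf (hmem a).le
    (le_trans (hcomm 1 a) (by rw [hV1]))
  have hWne : W ≠ ⊥ := fun e => hV.four.zne (mem_bot.1 (e.le (hVW hV.four.zmem)))
  have hx : x ∈ normalizer (W : Set G) := Coprime.mem_normalizer_of_forall fun w hw => by
    rw [show x * w * x⁻¹ = (x * w * x⁻¹ * w⁻¹) * w by group]
    exact mul_mem (hVW (hV.blk.comm w (hWle hw))) hw
  have hc := H.centralizes (PLocal.elemAb_isPGroup hWe) hWne hWinv hx hV.blk.odd
  exact hV.four.zne (hV.blk.fpf z hV.four.zmem (mem_centralizer_iff.1 hc z (hVW hV.four.zmem)).symm)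

end Cfsg.Agent.EvenNilp
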