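import Cfsg.Agent.Lib.EvenNilp.Blk
import Mathlib.GroupTheory.Sylow

/-!
# Members: four groups of a 2-group with a block in their centraliser (helper46)

* `Mem.conj_mem`: an element fixing `z` moving `v` to a commuting element normalises `V`
* `Mem.cls_eq`: commuting members with the same involution have the same centraliser
* `Mem.z_eq`: noncommuting members have the same involution
-/

set_option autoImplicit false
set_option linter.unusedSectionVars false
set_option linter.style.haveILetI false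

namespace Cfsg.Agent.EvenNilp

open Subgroup
open scoped Pointwise commutatorElement

universe u

variable {G : Type u} [Group G] [Finite G]

/-- A noncentral element of a four group. -/
def NC (V : Subgroup G) (z v : G) : Prop := v ∈ V ∧ v ≠ 1 ∧ v ≠ z

/-- A member. -/
structure Mem (S V : Subgroup G) (x z : G) : Prop where
  two : IsPGroup 2 S
  le : V ≤ S
  four : IsFour V z
  zc : ∀ p ∈ S, p ∈ normalizer (V : Set G) → p * z = z * p
  cen : ∀ v, NC V z v → ∀ g ∈ S, g * v = v * g → g ∈ centralizer (V : Set G)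
  norm : ∀ g ∈ S, g ∈ normalizer ((S ⊓ centralizer (V : Set G) : Subgroup G) : Set G) →
    g ∈ normalizer (V : Set G)
  blk : Blk (S ⊓ centralizer (V : Set G)) V x
  flip : ∃ y ∈ S, y * z = z * y ∧ ∃ v, NC V z v ∧ y * v * y⁻¹ ∈ normalizer (V : Set G) ∧
    y * v * y⁻¹ ∉ centralizer (V : Set G) ∧ ∀ q ∈ S ⊓ centralizer (V : Set G),
      (y * v * y⁻¹) * q * (y * v * y⁻¹)⁻¹ = q ∨ (y * v * y⁻¹) * q * (y * v * y⁻¹)⁻¹ = q * z

theorem mem_map_cent {S V : Subgroup G} {e : MulAut G} (he : S.map (e : G ≃* G).toMonoidHom = S) :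
    (S ⊓ centralizer (V : Set G)).map (e : G ≃* G).toMonoidHom =
      S ⊓ centralizer ((V.map (e : G ≃* G).toMonoidHom : Subgroup G) : Set G) := by
  rw [Subgroup.map_inf _ _ _ (e : G ≃* G).injective, he, map_cent]

theorem mem_map_aut {X : Subgroup G} {e : MulAut G} {g : G} :
    e g ∈ X.map (e : G ≃* G).toMonoidHom ↔ g ∈ X :=
  ⟨fun ⟨k, hk, hkg⟩ => by rwa [← (e : G ≃* G).injective hkg], fun h => ⟨g, h, rfl⟩⟩

theorem mem_norm_map {X : Subgroup G} {e : MulAut G} {g : G} :
    e g ∈ normalizer ((X.map (e : G ≃* G).toMonoidHom : Subgroup G) : Set G) ↔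
      g ∈ normalizer (X : Set G) := by
  rw [← Subgroup.map_equiv_normalizer_eq X (e : G ≃* G)]
  exact mem_map_aut

theorem mem_cent_map {X : Subgroup G} {e : MulAut G} {g : G} :
    e g ∈ centralizer ((X.map (e : G ≃* G).toMonoidHom : Subgroup G) : Set G) ↔
      g ∈ centralizer (X : Set G) := by
  rw [← map_cent]
  exact mem_map_aut

theorem conj_map_self {X : Subgroup G} {g : G} (hg : g ∈ X) : X.map (MulAut.conj g).toMonoidHom = X :=
  mem_normalizer_iff_map_conj_eq.1 (le_normalizer hg)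

theorem exists_norm_not_mem {M Q : Subgroup G} (hQ : IsPGroup 2 Q) (hle : M ≤ Q) (hne : M ≠ Q) :
    ∃ q ∈ Q, q ∉ M ∧ ∀ m ∈ M, q * m * q⁻¹ ∈ M := by
  haveI : Fact (Nat.Prime 2) := ⟨Nat.prime_two⟩
  haveI := hQ.isNilpotent
  have hlt : M.subgroupOf Q < ⊤ := by
    rw [lt_top_iff_ne_top, Ne, Subgroup.subgroupOf_eq_top]
    exact fun h => hne (le_antisymm hle h)
  obtain ⟨q, hq, hqM⟩ := SetLike.exists_of_lt (Group.normalizerCondition_of_isNilpotent _ hlt)
  exact ⟨q, q.2, hqM, fun m hm => (mem_normalizer_iff.1 hq ⟨m, hle hm⟩).1 hm⟩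

/-- A subgroup of index two between. -/
theorem exists_index_two {N X : Subgroup G} (hX : IsPGroup 2 X) (hle : N ≤ X) (hne : N ≠ X) :
    ∃ X₀ : Subgroup G, N ≤ X₀ ∧ X₀ < X ∧ (∀ g ∈ X, ∀ h ∈ X₀, g * h * g⁻¹ ∈ X₀) ∧
      ∀ a ∈ X, ∀ b ∈ X, a ∉ X₀ → b ∉ X₀ → a * b ∈ X₀ := by
  haveI : Fact (Nat.Prime 2) := ⟨Nat.prime_two⟩
  obtain ⟨k, hk⟩ := IsPGroup.iff_card.1 hX
  obtain ⟨m, hm⟩ := IsPGroup.iff_card.1 (hX.to_le hle)
  have hmk : m < k := by
    refine (Nat.pow_lt_pow_iff_right one_lt_two).1 ?_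
    rw [← hm, ← hk]
    exact lt_of_le_of_ne (Subgroup.card_le_of_le hle) fun e => hne (Subgroup.eq_of_le_of_card_ge hle e.ge)
  obtain ⟨K, hK, hNK⟩ := Sylow.exists_subgroup_card_pow_prime_le 2 (m := k - 1) (n := m) (G := X)
    (hk ▸ pow_dvd_pow 2 (Nat.sub_le k 1)) (N.subgroupOf X)
    (by rw [Nat.card_congr (subgroupOfEquivOfLe hle).toEquiv, hm]) (by omega)
  have hidx : K.index = 2 := by
    have h1 := K.card_mul_index
    rw [hK, hk] at h1
    have h2 : (2 : ℕ) ^ k = 2 ^ (k - 1) * 2 := by rw [← pow_succ, Nat.sub_add_cancel (by omega)]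
    exact Nat.eq_of_mul_eq_mul_left (pow_pos two_pos _) (h1.trans h2)
  haveI := normal_of_index_eq_two hidx
  refine ⟨K.map X.subtype, fun g hg => ⟨⟨g, hle hg⟩, hNK hg, rfl⟩, ?_, ?_, ?_⟩
  · refine lt_of_le_of_ne (map_subtype_le K) fun e => ?_
    have h1 : K = ⊤ := eq_top_iff.2 fun g _ => by
      obtain ⟨k', hk', hkg⟩ := e.ge g.2
      rwa [← Subtype.ext hkg]
    rw [h1, index_top] at hidx
    omega
  · rintro g hg _ ⟨h, hh, rfl⟩
    exact ⟨_, ‹K.Normal›.conj_mem h hh ⟨g, hg⟩, rfl⟩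
  · intro a ha b hb na nb
    refine ⟨⟨a, ha⟩ * ⟨b, hb⟩, (mul_mem_iff_of_index_two hidx).2 (iff_of_false ?_ ?_), rfl⟩
    · exact fun h => na ⟨_, h, rfl⟩
    · exact fun h => nb ⟨_, h, rfl⟩

section Dihedral

variable {v u : G}

theorem conj_pow_inv (hv : v * v = 1) (hu : u * u = 1) (m : ℕ) :
    v * (v * u) ^ m = ((v * u) ^ m)⁻¹ * v ∧ u * (v * u) ^ m = ((v * u) ^ m)⁻¹ * u := by
  have hv' : v⁻¹ = v := inv_eq_of_mul_eq_one_right hv
  have hu' : u⁻¹ = u := inv_eq_of_mul_eq_one_right hu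
  refine ⟨mul_inv_eq_iff_eq_mul.1 ?_, mul_inv_eq_iff_eq_mul.1 ?_⟩
  · rw [show v * (v * u) ^ m * v⁻¹ = (v * (v * u) * v⁻¹) ^ m by rw [conj_pow], ← inv_pow, mul_inv_rev,
      ← mul_assoc v v u, hv, one_mul, hv', hu']
  · rw [show u * (v * u) ^ m * u⁻¹ = (u * (v * u) * u⁻¹) ^ m by rw [conj_pow], ← inv_pow, mul_inv_rev,
      mul_assoc, mul_assoc, mul_inv_cancel, mul_one, hv', hu']

theorem pow_conj_left (hv : v * v = 1) (hu : u * u = 1) (m : ℕ) :
    (v * u) ^ m * v * ((v * u) ^ m)⁻¹ = (v * u) ^ (2 * m) * v := by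
  have h : v * ((v * u) ^ m)⁻¹ = (v * u) ^ m * v := by
    rw [eq_comm, eq_mul_inv_iff_mul_eq, mul_assoc, (conj_pow_inv hv hu m).1, mul_inv_cancel_left]
  rw [mul_assoc, h, ← mul_assoc, ← pow_add, two_mul]

theorem pow_conj_right (hv : v * v = 1) (hu : u * u = 1) (m : ℕ) :
    (v * u) ^ m * u * ((v * u) ^ m)⁻¹ = (v * u) ^ (2 * m) * u := by
  have h : u * ((v * u) ^ m)⁻¹ = (v * u) ^ m * u := by
    rw [eq_comm, eq_mul_inv_iff_mul_eq, mul_assoc, (conj_pow_inv hv hu m).2, mul_inv_cancel_left]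
  rw [mul_assoc, h, ← mul_assoc, ← pow_add, two_mul]

theorem sq_ne_one (hv : v * v = 1) (hu : u * u = 1) (hne : v * u ≠ u * v) : (v * u) ^ 2 ≠ 1 := fun e => by
  rw [pow_two] at e
  refine hne ?_
  calc v * u = (v * u)⁻¹ := (inv_eq_of_mul_eq_one_right e).symm
    _ = u * v := by rw [mul_inv_rev, inv_eq_of_mul_eq_one_right hv, inv_eq_of_mul_eq_one_right hu]

theorem order_two_pow {S : Subgroup G} (hS : IsPGroup 2 S) (hc : v * u ∈ S) (hv : v * v = 1)
    (hu : u * u = 1) (hne : v * u ≠ u * v) : ∃ k, orderOf (v * u) = 2 ^ (k + 2) := by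
  obtain ⟨j, hj⟩ := hS ⟨_, hc⟩
  have h1 : (v * u) ^ 2 ^ j = 1 := congrArg Subtype.val hj
  obtain ⟨k, -, hk⟩ := (Nat.dvd_prime_pow Nat.prime_two).1 (orderOf_dvd_of_pow_eq_one h1)
  have h2 : 2 ≤ k := by
    by_contra h
    refine sq_ne_one hv hu hne (orderOf_dvd_iff_pow_eq_one.1 ?_)
    rw [hk]
    exact pow_dvd_pow 2 (by omega : k ≤ 1)
  exact ⟨k - 2, by rw [Nat.sub_add_cancel h2, hk]⟩

end Dihedral

namespace Mem

variable {S V V' : Subgroup G} {x x' z z' v v' : G}

theorem nc_sq (h : Mem S V x z) (hv : NC V z v) : v * v = 1 := h.four.sq v hv.1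

theorem nc_mem (h : Mem S V x z) (hv : NC V z v) : v ∈ S := h.le hv.1

theorem exists_nc (h : Mem S V x z) : ∃ v, NC V z v := h.four.exists_other

theorem vle (h : Mem S V x z) : V ≤ S ⊓ centralizer (V : Set G) := h.blk.vle

theorem v_comm_z (h : Mem S V x z) (hv : v ∈ V) : v * z = z * v := h.four.comm hv h.four.zmem

theorem cent_le_norm : S ⊓ centralizer (V : Set G) ≤ S ⊓ normalizer (V : Set G) :=
  inf_le_inf_left _ (centralizer_le_normalizer _)

theorem q_comm (h : Mem S V x z) {q : G} (hq : q ∈ S ⊓ centralizer (V : Set G)) (hv : v ∈ V) :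
    q * v = v * q := h.blk.vcent v hv q hq

theorem mem_Q (h : Mem S V x z) (hv : NC V z v) {g : G} (hg : g ∈ S) (hc : g * v = v * g) :
    g ∈ S ⊓ centralizer (V : Set G) := ⟨hg, h.cen v hv g hg hc⟩

theorem no_sq (h : Mem S V x z) {q : G} (hq : q ∈ S ⊓ centralizer (V : Set G)) : q * q ≠ z := fun e =>
  h.four.zne (e ▸ h.blk.sq_eq_one hq (e.symm ▸ h.four.zmem))

theorem no_comm (h : Mem S V x z) {a b : G} (ha : a ∈ S ⊓ centralizer (V : Set G))
    (hb : b ∈ S ⊓ centralizer (V : Set G)) : a * b * a⁻¹ ≠ b * z := fun e => by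
  have e2 : ⁅a, b⁆ = z := by
    rw [commutatorElement_def, e, ← h.q_comm hb h.four.zmem |>.symm, mul_inv_cancel_right]
  have := h.blk.comm_eq_one ha hb (e2.symm ▸ h.four.zmem)
  exact h.four.zne (e2 ▸ this)

theorem conj_cases (h : Mem S V x z) (hv : NC V z v) {g : G} (hg : g ∈ S)
    (hN : g ∈ normalizer (V : Set G)) : g * v * g⁻¹ = v ∨ g * v * g⁻¹ = v * z :=
  h.four.conj_cases ((mem_normalizer_iff.1 hN v).1 hv.1) (h.zc g hg hN) hv.1 hv.2.1 hv.2.2

theorem nc_mul (h : Mem S V x z) (hv : NC V z v) : NC V z (v * z) :=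
  ⟨V.mul_mem hv.1 h.four.zmem, fun e => hv.2.2 (by
    have := eq_inv_of_mul_eq_one_left e
    rwa [h.four.inv_eq h.four.zmem] at this), fun e => hv.2.1 (by simpa using e)⟩

theorem map (h : Mem S V x z) (e : MulAut G) (he : S.map (e : G ≃* G).toMonoidHom = S) :
    Mem S (V.map (e : G ≃* G).toMonoidHom) (e x) (e z) := by
  have hmem : ∀ {p : G}, e p ∈ S → p ∈ S := fun {p} hp => by
    rw [← he] at hp; exact mem_map_aut.1 hp
  have hmem' : ∀ {p : G}, p ∈ S → e p ∈ S := fun {p} hp => he.le ⟨p, hp, rfl⟩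
  refine ⟨h.two, (map_mono h.le).trans he.le, h.four.map e, fun p hp hN => ?_, fun v hv g hg hc => ?_,
    fun g hg hN => ?_, ?_, ?_⟩
  · obtain ⟨p, rfl⟩ := (e : G ≃* G).surjective p
    show e p * e z = e z * e p
    rw [← map_mul, ← map_mul, h.zc p (hmem hp) (mem_norm_map.1 hN)]
  · obtain ⟨g, rfl⟩ := (e : G ≃* G).surjective g
    obtain ⟨⟨w, hw, rfl⟩, h1, h2⟩ := hv
    refine mem_cent_map.2 (h.cen w ⟨hw, fun a => h1 (by simp [a]), fun a => h2 (by simp [a])⟩ g (hmem hg) ?_)
    exact e.injective (by simpa using hc)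
  · obtain ⟨g, rfl⟩ := (e : G ≃* G).surjective g
    refine mem_norm_map.2 (h.norm g (hmem hg) ((mem_norm_map (e := e)).1 ?_))
    rw [mem_map_cent he]
    exact hN
  · rw [← mem_map_cent he]
    exact h.blk.map e
  · obtain ⟨y, hy, hyz, v, hv, hN, hC, hq⟩ := h.flip
    refine ⟨e y, hmem' hy, by rw [← map_mul, ← map_mul, hyz], e v,
      ⟨⟨v, hv.1, rfl⟩, fun a => hv.2.1 (e.injective (by simpa using a)), fun a => hv.2.2 (e.injective a)⟩, ?_⟩
    have he3 : e y * e v * (e y)⁻¹ = e (y * v * y⁻¹) := by simp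
    rw [he3]
    refine ⟨mem_norm_map.2 hN, fun a => hC (mem_cent_map.1 a), fun q hq' => ?_⟩
    rw [← mem_map_cent he] at hq'
    obtain ⟨q, hq', rfl⟩ := hq'
    rcases hq q hq' with a | a
    · left; simpa using congrArg e a
    · right; simpa using congrArg e a

theorem conj (h : Mem S V x z) {g : G} (hg : g ∈ S) :
    Mem S (V.map (MulAut.conj g).toMonoidHom) (g * x * g⁻¹) (g * z * g⁻¹) :=
  h.map (MulAut.conj g) (conj_map_self hg)

theorem nc_conj (hv : NC V z v) (g : G) :
    NC (V.map (MulAut.conj g).toMonoidHom) (g * z * g⁻¹) (g * v * g⁻¹) :=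
  ⟨⟨v, hv.1, rfl⟩, fun e => hv.2.1 (by simpa using e), fun e => hv.2.2 (by simpa using e)⟩

/-- An element fixing `z` moving `v` to a commuting element normalises `V`. -/
theorem conj_mem (h : Mem S V x z) (hv : NC V z v) {g : G} (hg : g ∈ S) (hgz : g * z = z * g)
    (hc : g * v * g⁻¹ * v = v * (g * v * g⁻¹)) : g ∈ normalizer (V : Set G) := by
  set N := S ⊓ normalizer (V : Set G) with hN
  suffices key : ∀ X : Subgroup G, N ≤ X → X ≤ S → (∀ k ∈ X, k * z = z * k) →
      ∀ k ∈ X, k * v * k⁻¹ * v = v * (k * v * k⁻¹) → k ∈ N from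
    (key (S ⊓ centralizer ({z} : Set G))
      (fun k hk => ⟨hk.1, mem_centralizer_singleton_iff.2 (h.zc k hk.1 hk.2)⟩) inf_le_left
      (fun k hk => mem_centralizer_singleton_iff.1 hk.2) g
      ⟨hg, mem_centralizer_singleton_iff.2 hgz⟩ hc).2
  intro X
  induction X using WellFoundedLT.induction with
  | _ X ih =>
  intro hNX hXS hXz g hg hc
  by_cases hXN : N = X
  · rw [hXN]; exact hg
  obtain ⟨X₀, hNX₀, hlt, hnorm, -⟩ := exists_index_two (h.two.to_le hXS) hNX hXN
  set Q := S ⊓ centralizer (V : Set G) with hQ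
  have hgS := hXS hg
  set w := g * v * g⁻¹ with hw
  have hwQ : w ∈ Q := h.mem_Q hv (S.mul_mem (S.mul_mem hgS (h.nc_mem hv)) (inv_mem hgS)) hc
  have hg' := h.conj hgS
  have hw' : NC (V.map (MulAut.conj g).toMonoidHom) (g * z * g⁻¹) w := nc_conj hv g
  set Q' := S ⊓ centralizer ((V.map (MulAut.conj g).toMonoidHom : Subgroup G) : Set G) with hQ'
  have hQQ' : Q ≤ Q' := by
    refine inf_eq_left.1 ?_
    by_contra hne
    obtain ⟨q, hq, hqM, hqn⟩ := exists_norm_not_mem (h.two.to_le inf_le_left) inf_le_left hne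
    have hqw := hqn w ⟨hwQ, hg'.vle hw'.1⟩
    have hcomm : q * w * q⁻¹ * w = w * (q * w * q⁻¹) := hg'.q_comm hqw.2 hw'.1
    set k := g⁻¹ * q * g with hk
    have hkX₀ : k ∈ X₀ := by
      have := hnorm g⁻¹ (inv_mem hg) q (hNX₀ (cent_le_norm hq))
      rwa [inv_inv] at this
    have hkN : k ∈ N := ih X₀ hlt hNX₀ (hlt.le.trans hXS) (fun a ha => hXz a (hlt.le ha)) k hkX₀ (by
      calc k * v * k⁻¹ * v = g⁻¹ * (q * w * q⁻¹ * w) * g := by rw [hk, hw]; group
        _ = g⁻¹ * (w * (q * w * q⁻¹)) * g := by rw [hcomm]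
        _ = v * (k * v * k⁻¹) := by rw [hk, hw]; group)
    rcases h.conj_cases hv hkN.1 hkN.2 with e | e
    · refine hqM ⟨hq, hg'.mem_Q hw' hq.1 ?_⟩
      calc q * w = g * (k * v * k⁻¹) * g⁻¹ * q := by rw [hk, hw]; group
        _ = w * q := by rw [e, hw]
    · refine h.no_comm hq hwQ ?_
      calc q * w * q⁻¹ = g * (k * v * k⁻¹) * g⁻¹ := by rw [hk, hw]; group
        _ = w * (g * z * g⁻¹) := by rw [e, hw]; group
        _ = w * z := by rw [hXz g hg, mul_inv_cancel_right]
  have heq : Q.map (MulAut.conj g).toMonoidHom = Q := by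
    rw [hQ, mem_map_cent (e := MulAut.conj g) (conj_map_self hgS)]
    refine (Subgroup.eq_of_le_of_card_ge hQQ' ?_).symm
    rw [hQ', ← mem_map_cent (e := MulAut.conj g) (conj_map_self hgS), card_map_of_injective (MulAut.conj g).injective]
  exact ⟨hgS, h.norm g hgS (mem_normalizer_iff_map_conj_eq.2 heq)⟩

/-- Commuting members with the same involution have the same centraliser. -/
theorem cls_eq (h : Mem S V x z) (h' : Mem S V' x' z) (hv : NC V z v) (hv' : NC V' z v')
    (hc : v * v' = v' * v) : S ⊓ centralizer (V : Set G) = S ⊓ centralizer (V' : Set G) := by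
  suffices key : ∀ {V V' : Subgroup G} {x x' v v' : G}, Mem S V x z → Mem S V' x' z → NC V z v →
      NC V' z v' → v * v' = v' * v → S ⊓ centralizer (V : Set G) ≤ S ⊓ centralizer (V' : Set G) from
    le_antisymm (key h h' hv hv' hc) (key h' h hv' hv hc.symm)
  intro V V' x x' v v' h h' hv hv' hc
  refine inf_eq_left.1 ?_
  by_contra hne
  obtain ⟨q, hq, hqM, hqn⟩ := exists_norm_not_mem (h.two.to_le inf_le_left) inf_le_left hne
  have hv'Q := h.mem_Q hv (h'.nc_mem hv') hc.symm
  have hw := hqn v' ⟨hv'Q, h'.vle hv'.1⟩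
  have hqN := h'.conj_mem hv' hq.1 (h.q_comm hq h.four.zmem) (h'.q_comm hw.2 hv'.1)
  rcases h'.conj_cases hv' hq.1 hqN with e | e
  · exact hqM ⟨hq, h'.mem_Q hv' hq.1 (mul_inv_eq_iff_eq_mul.1 e)⟩
  · exact h.no_comm hq hv'Q e

/-- Commuting noncentral elements: the four groups commute. -/
theorem le_cent (h : Mem S V x z) (h' : Mem S V' x' z') (hv : NC V z v) (hv' : NC V' z' v')
    (hc : v * v' = v' * v) : V' ≤ centralizer (V : Set G) := fun t ht =>
  h.cen v hv t (h'.le ht)
    (mem_centralizer_iff.1 (h'.cen v' hv' v (h.nc_mem hv) hc) t ht)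

/-- The element exchanging the two classes centralises the members commuting with `V` with another
involution. -/
theorem tr_cent (h : Mem S V x z) (h' : Mem S V' x' z') {u : G} (hu : u ∈ S)
    (huN : u ∈ normalizer (V : Set G))
    (huq : ∀ q ∈ S ⊓ centralizer (V : Set G), u * q * u⁻¹ = q ∨ u * q * u⁻¹ = q * z)
    (hne : z ≠ z') (hle : V' ≤ centralizer (V : Set G)) : u ∈ centralizer (V' : Set G) := by
  obtain ⟨v', hv'⟩ := h'.exists_nc
  by_contra hcon
  have hmove : ∀ t, NC V' z' t → u * t * u⁻¹ = t * z := fun t ht =>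
    (huq t ⟨h'.le ht.1, hle ht.1⟩).resolve_left fun e =>
      hcon (h'.cen t ht u hu (mul_inv_eq_iff_eq_mul.1 e))
  have hzc : ∀ t ∈ V', t * z = z * t := fun t ht =>
    (mem_centralizer_iff.1 (hle ht) z h.four.zmem).symm
  have e0 := hmove v' hv'
  have e1 := hmove _ (h'.nc_mul hv')
  have huz : u * z' * u⁻¹ = z' := by
    calc u * z' * u⁻¹ = (u * v' * u⁻¹)⁻¹ * (u * (v' * z') * u⁻¹) := by group
      _ = z⁻¹ * z' * z := by rw [e0, e1]; group
      _ = z' := by rw [mul_assoc, hzc z' h'.four.zmem, inv_mul_cancel_left]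
  have hcom : u * v' * u⁻¹ * v' = v' * (u * v' * u⁻¹) := by
    rw [e0, mul_assoc, ← hzc v' hv'.1]
  have hN := h'.conj_mem hv' hu (mul_inv_eq_iff_eq_mul.1 huz) hcom
  rcases h'.conj_cases hv' hu hN with e | e
  · rw [e0] at e; exact h.four.zne (by simpa using e)
  · rw [e0] at e; exact hne (mul_left_cancel e)

/-- Dihedral pair, both fixing the involutions. -/
theorem half_eq (h : Mem S V x z) (h' : Mem S V' x' z') (hv : NC V z v) (hv' : NC V' z' v')
    (hne : v * v' ≠ v' * v) (h1 : v' * z = z * v') (h2 : v * z' = z' * v) :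
    ∃ k, orderOf (v * v') = 2 ^ (k + 2) ∧ (v * v') ^ 2 ^ (k + 1) = z ∧ z' = z := by
  obtain ⟨k, hk⟩ := order_two_pow h.two (S.mul_mem (h.nc_mem hv) (h'.nc_mem hv')) (h.nc_sq hv)
    (h'.nc_sq hv') hne
  set c := v * v' with hc
  set e := c ^ 2 ^ (k + 1) with he
  have he2 : e * e = 1 := by
    rw [he, ← pow_add, ← two_mul, ← pow_succ', ← hk, pow_orderOf_eq_one]
  have he1 : e ≠ 1 := fun e1 => by
    have h3 := orderOf_dvd_of_pow_eq_one e1
    rw [hk, Nat.pow_dvd_pow_iff_le_right one_lt_two] at h3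
    omega
  obtain ⟨ev, ev'⟩ := conj_pow_inv (h.nc_sq hv) (h'.nc_sq hv') (2 ^ (k + 1))
  rw [← hc, ← he, inv_eq_of_mul_eq_one_right he2] at ev ev'
  have hg : c ^ 2 ^ k ∈ S := pow_mem (S.mul_mem (h.nc_mem hv) (h'.nc_mem hv')) _
  have key : ∀ {W : Subgroup G} {xW zW t : G}, Mem S W xW zW → NC W zW t → Commute c zW →
      c ^ 2 ^ k * t * (c ^ 2 ^ k)⁻¹ = e * t → t * e = e * t → e = zW := by
    intro W xW zW t hW ht hcz hconj hte
    have hN := hW.conj_mem ht hg (hcz.pow_left _).eq (by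
      rw [hconj, mul_assoc, ← mul_assoc t e t, hte, mul_assoc])
    rcases hW.conj_cases ht hg hN with a | a
    · rw [hconj] at a; exact absurd (by simpa using a) he1
    · rw [hconj, ← hte] at a; exact mul_left_cancel a
  have e2k : 2 * 2 ^ k = 2 ^ (k + 1) := (pow_succ' 2 k).symm
  have ez : e = z := key h hv ((show Commute v z from h.v_comm_z hv.1).mul_left h1)
    (by rw [hc, pow_conj_left (h.nc_sq hv) (h'.nc_sq hv'), e2k]) ev
  have ez' : e = z' := key h' hv' ((show Commute v z' from h2).mul_left (h'.v_comm_z hv'.1))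
    (by rw [hc, pow_conj_right (h.nc_sq hv) (h'.nc_sq hv'), e2k]) ev'
  exact ⟨k, hk, ez, ez'.symm.trans ez⟩

/-- The half of the dihedral group of order eight with moved involution. -/
theorem exists_half (h : Mem S V x z) (h' : Mem S V' x' z') (hv : NC V z v) (hv' : NC V' z' v')
    (hne : v * v' ≠ v' * v) (hvw : v * (v' * v * v') = (v' * v * v') * v) (hmv : v' * z ≠ z * v') :
    ∃ u ∈ S, u ∈ normalizer (V : Set G) ∧
      (∀ q ∈ S ⊓ centralizer (V : Set G), u * q * u⁻¹ = q ∨ u * q * u⁻¹ = q * z) ∧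
      u * (v' * u * v') ∈ S ⊓ centralizer (V' : Set G) ∧
      (u * (v' * u * v')) * (v * (v' * v * v')) * (u * (v' * u * v'))⁻¹ =
        v * (v' * v * v') * (z * (v' * z * v')) := by
  have hv'S := h'.nc_mem hv'
  have hv'i : v'⁻¹ = v' := inv_eq_of_mul_eq_one_right (h'.nc_sq hv')
  set w := v' * v * v' with hw
  set z1 := v' * z * v' with hz1
  have h1 : Mem S (V.map (MulAut.conj v').toMonoidHom) (v' * x * v'⁻¹) z1 := by
    have := h.conj hv'S
    rwa [hv'i] at this ⊢
  have hwn : NC (V.map (MulAut.conj v').toMonoidHom) z1 w := by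
    have := nc_conj hv v'
    rwa [hv'i] at this
  have hz : z ≠ z1 := fun e => hmv (mul_inv_eq_iff_eq_mul.1 (by rw [hv'i]; exact e.symm))
  have hle1 := h.le_cent h1 hv hwn hvw
  obtain ⟨y, hy, hyz, v₀, hv₀, huN, huC, huq⟩ := h.flip
  set u := y * v₀ * y⁻¹ with hu
  have huS : u ∈ S := S.mul_mem (S.mul_mem hy (h.nc_mem hv₀)) (inv_mem hy)
  have huz := h.zc u huS huN
  have hu1 := h.tr_cent h1 huS huN huq hz hle1
  have huv : u * v * u⁻¹ = v * z := h.four.conj_eq_mul huN huz huC hv.1 hv.2.1 hv.2.2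
  set u1 := v' * u * v' with hu1'
  have hu1S : u1 ∈ S := S.mul_mem (S.mul_mem hv'S huS) hv'S
  have hu1C : u1 ∈ centralizer (V : Set G) := mem_centralizer_iff.2 fun t ht => by
    have h2 := mem_centralizer_iff.1 hu1 (v' * t * v') ⟨t, ht, by
      show v' * t * v'⁻¹ = _; rw [hv'i]⟩
    calc t * u1 = v' * ((v' * t * v') * u) * v' := by
          rw [hu1']
          simp only [← mul_assoc, h'.nc_sq hv', one_mul]
      _ = v' * (u * (v' * t * v')) * v' := by rw [h2]
      _ = u1 * t := by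
          rw [hu1']
          simp only [mul_assoc, h'.nc_sq hv', mul_one]
  have hu1i : u1⁻¹ = v' * u⁻¹ * v' := by rw [hu1', mul_inv_rev, mul_inv_rev, hv'i, mul_assoc]
  have hu1w : u1 * w * u1⁻¹ = w * z1 := by
    calc u1 * w * u1⁻¹ = v' * (u * v * u⁻¹) * v' := by
          rw [hu1i, hu1', hw]
          simp only [mul_assoc, ← mul_assoc v' v', h'.nc_sq hv', one_mul]
      _ = v' * v * z * v' := by rw [huv, ← mul_assoc]
      _ = w * z1 := by
          rw [hw, hz1]
          simp only [mul_assoc, ← mul_assoc v' v', h'.nc_sq hv', one_mul]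
  have hcm : Commute u u1 := by
    rcases huq u1 ⟨hu1S, hu1C⟩ with e | e
    · exact mul_inv_eq_iff_eq_mul.1 e
    · exfalso
      refine hz ?_
      -- conjugate by `v'`
      have e' := congrArg (fun a => v' * a * v') e
      have hl : v' * (u * u1 * u⁻¹) * v' = u1 * u * u1⁻¹ := by
        rw [hu1i, hu1']
        simp only [mul_assoc]
      have hr : v' * (u1 * z) * v' = u * z1 := by
        rw [hu1', hz1]
        simp only [mul_assoc, ← mul_assoc v' v', h'.nc_sq hv', one_mul]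
      simp only [hl, hr] at e'
      have hu1z1 : u1 * z1 = z1 * u1 := by
        rw [hu1', hz1]
        simp only [mul_assoc, ← mul_assoc v' v', h'.nc_sq hv', one_mul]
        rw [← mul_assoc u z, huz, mul_assoc]
      have h3 : u * u1 * 1 = u * u1 * (z1 * z) := by
        calc u * u1 * 1 = u1 * (u * z) := by
              rw [mul_one, mul_inv_eq_iff_eq_mul.1 e, mul_assoc, huz]
          _ = u * z1 * u1 * z := by rw [← mul_assoc, mul_inv_eq_iff_eq_mul.1 e']
          _ = u * u1 * (z1 * z) := by rw [mul_assoc u z1 u1, ← hu1z1]; group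
      rw [← inv_eq_of_mul_eq_one_right (mul_left_cancel h3).symm, h1.four.inv_eq h1.four.zmem]
  refine ⟨u, huS, huN, huq, h'.mem_Q hv' (S.mul_mem huS hu1S) ?_, ?_⟩
  · calc u * u1 * v' = u1 * u * v' := by rw [hcm.eq]
      _ = v' * (u * u1) := by
          rw [hu1']
          simp only [mul_assoc, h'.nc_sq hv', mul_one]
  · have hu1v : u1 * v * u1⁻¹ = v := by rw [← mem_centralizer_iff.1 hu1C v hv.1, mul_inv_cancel_right]
    have huw : u * w * u⁻¹ = w := by rw [← mem_centralizer_iff.1 hu1 w hwn.1, mul_inv_cancel_right]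
    have huz1 : u * z1 * u⁻¹ = z1 := by rw [← mem_centralizer_iff.1 hu1 z1 h1.four.zmem, mul_inv_cancel_right]
    have hzw : z * w = w * z := mem_centralizer_iff.1 (hle1 hwn.1) z h.four.zmem
    calc u * u1 * (v * w) * (u * u1)⁻¹ = u * ((u1 * v * u1⁻¹) * (u1 * w * u1⁻¹)) * u⁻¹ := by group
      _ = (u * v * u⁻¹) * ((u * w * u⁻¹) * (u * z1 * u⁻¹)) := by rw [hu1v, hu1w]; group
      _ = v * (z * w) * z1 := by rw [huv, huw, huz1]; group
      _ = v * w * (z * z1) := by rw [hzw]; group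

/-- Noncommuting members have the same involution. -/
theorem z_eq : ∀ {n : ℕ} {V V' : Subgroup G} {x x' z z' v v' : G}, orderOf (v * v') = n →
    Mem S V x z → Mem S V' x' z' → NC V z v → NC V' z' v' → v * v' ≠ v' * v → z = z' := by
  intro n
  induction n using Nat.strong_induction_on with
  | _ n ih =>
  intro V V' x x' z z' v v' hn h h' hv hv' hne
  have hvS := h.nc_mem hv
  have hv'S := h'.nc_mem hv'
  have hvi : v⁻¹ = v := inv_eq_of_mul_eq_one_right (h.nc_sq hv)
  have hv'i : v'⁻¹ = v' := inv_eq_of_mul_eq_one_right (h'.nc_sq hv')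
  obtain ⟨k, hk⟩ := order_two_pow h.two (S.mul_mem hvS hv'S) (h.nc_sq hv) (h'.nc_sq hv') hne
  have hlt : orderOf ((v * v') ^ 2) < n := by
    rw [orderOf_pow, ← hn, hk, Nat.gcd_eq_right (dvd_pow_self 2 (by omega))]
    exact Nat.div_lt_self (pow_pos two_pos _) one_lt_two
  have h1 : v * (v' * v * v') ≠ (v' * v * v') * v → v' * z = z * v' := fun hn' => by
    have := ih _ hlt (by rw [pow_two]; simp only [hv'i, mul_assoc]) h (h.conj hv'S) hv (nc_conj hv v')
      (by rwa [hv'i])
    exact (mul_inv_eq_iff_eq_mul.1 this.symm)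
  have h2 : v' * (v * v' * v) ≠ (v * v' * v) * v' → v * z' = z' * v := fun hn' => by
    have := ih _ hlt (by
      rw [← orderOf_inv ((v * v') ^ 2), pow_two]
      simp only [mul_inv_rev, hvi, hv'i, mul_assoc]) h' (h'.conj hvS) hv' (nc_conj hv' v) (by rwa [hvi])
    exact (mul_inv_eq_iff_eq_mul.1 this.symm)
  by_cases hfix : v' * z = z * v' ∧ v * z' = z' * v
  · obtain ⟨-, -, -, e⟩ := h.half_eq h' hv hv' hne hfix.1 hfix.2
    exact e.symm
  exfalso
  -- the square of the product is an involution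
  have hiff : v * (v' * v * v') = (v' * v * v') * v ↔ v' * (v * v' * v) = (v * v' * v) * v' := by
    simp only [mul_assoc]
    exact eq_comm
  have hvw : v * (v' * v * v') = (v' * v * v') * v := by
    by_contra hcon
    exact hfix ⟨h1 hcon, h2 fun e => hcon (hiff.2 e)⟩
  have hvw' := hiff.1 hvw
  have hee : v' * (v * v' * v) = v * (v' * v * v') := by
    rw [hvw]; simp only [mul_assoc]
  have hv'fix : v * z' ≠ z' * v → v' * z ≠ z * v' := by
    intro hm hf
    obtain ⟨u', hu'S, hu'N, hu'q, hqC, hconj⟩ := h'.exists_half h hv' hv hne.symm hvw' hm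
    rw [hee] at hconj
    have hN := h.conj_mem hv hv'S hf (by rw [hv'i]; exact hvw.symm)
    have hw : v' * v * v' = v * z := by
      rcases h.conj_cases hv hv'S hN with e | e
      · exact absurd (mul_inv_eq_iff_eq_mul.1 e).symm hne
      · rwa [hv'i] at e
    have e0 : v * (v * z) = z := by rw [← mul_assoc, h.nc_sq hv, one_mul]
    rw [hw, e0, h.q_comm hqC h.four.zmem, mul_inv_cancel_right] at hconj
    have h3 : z' * (v * z' * v) = 1 := by
      exact left_eq_mul.1 hconj
    refine hm (mul_inv_eq_iff_eq_mul.1 ?_)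
    rw [hvi, ← inv_eq_of_mul_eq_one_right h3, h'.four.inv_eq h'.four.zmem]
  have hfix' : v * z' ≠ z' * v → False := by
    intro hm
    have hm1 := hv'fix hm
    obtain ⟨u, huS, huN, huq, hqC, hconj⟩ := h.exists_half h' hv hv' hne hvw hm1
    obtain ⟨u', hu'S, hu'N, hu'q, hq'C, hconj'⟩ := h'.exists_half h hv' hv hne.symm hvw' hm
    rw [hee] at hconj'
    set w := v' * v * v' with hw
    set z1 := v' * z * v' with hz1
    set z1' := v * z' * v with hz1'
    set q' := u' * (v * u' * v) with hq'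
    have h1m : Mem S (V.map (MulAut.conj v').toMonoidHom) (v' * x * v'⁻¹) z1 := by
      have := h.conj hv'S
      rwa [hv'i] at this ⊢
    have hwn : NC (V.map (MulAut.conj v').toMonoidHom) z1 w := by
      have := nc_conj hv v'
      rwa [hv'i] at this
    have h1m' : Mem S (V'.map (MulAut.conj v).toMonoidHom) (v * x' * v⁻¹) z1' := by
      have := h'.conj hvS
      rwa [hvi] at this ⊢
    have hwn' : NC (V'.map (MulAut.conj v).toMonoidHom) z1' (v * v' * v) := by
      have := nc_conj hv' v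
      rwa [hvi] at this
    have hle1 := h.le_cent h1m hv hwn hvw
    have hle1' := h'.le_cent h1m' hv' hwn' hvw'
    have hzz1 : z ≠ z1 := fun e => hm1 (mul_inv_eq_iff_eq_mul.1 (by rw [hv'i]; exact e.symm))
    set K := z' * z1' with hK
    -- `v`, `v'`, `w` fix `K`
    have hzz : Commute z' z1' := mem_centralizer_iff.1 (hle1' h1m'.four.zmem) z' h'.four.zmem
    have hvK : Commute v K := by
      refine mul_inv_eq_iff_eq_mul.1 ?_
      rw [hvi, hK, hz1']
      calc v * (z' * (v * z' * v)) * v = z1' * z' := by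
            rw [hz1']; simp only [mul_assoc, h.nc_sq hv, mul_one]
        _ = z' * z1' := hzz.symm.eq
    have hv'K : Commute v' K := (show Commute v' z' from h'.v_comm_z hv'.1).mul_right
      (mem_centralizer_iff.1 (hle1' h1m'.four.zmem) v' hv'.1)
    have hwK : Commute w K := (hv'K.mul_left hvK).mul_left hv'K
    have hq'v : Commute q' v := h.q_comm hq'C hv.1
    have hq'z : Commute q' z := h.q_comm hq'C h.four.zmem
    have hq'w : q' * w * q'⁻¹ = w * K := by
      have e1 : w = v * (v * w) := by rw [← mul_assoc, h.nc_sq hv, one_mul]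
      calc q' * w * q'⁻¹ = (q' * v * q'⁻¹) * (q' * (v * w) * q'⁻¹) := by conv_lhs => rw [e1]
                                                                         group
        _ = v * (v * w * K) := by rw [hconj', hq'v.eq, mul_inv_cancel_right]
        _ = w * K := by rw [← mul_assoc v, ← mul_assoc v, h.nc_sq hv, one_mul]
    have hq'S : q' ∈ S := hq'C.1
    have hq'z1 : ¬ Commute q' z1 := fun hc => by
      have hN := h1m.conj_mem hwn hq'S hc.eq (by
        rw [hq'w, mul_assoc w K w, ← hwK.eq])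
      rcases h1m.conj_cases hwn hq'S hN with e | e <;> rw [hq'w] at e
      · have hK1 : z' * z1' = 1 := by simpa [hK] using e
        refine hm (mul_inv_eq_iff_eq_mul.1 ?_)
        rw [hvi]
        show z1' = z'
        rw [← inv_eq_of_mul_eq_one_right hK1, h'.four.inv_eq h'.four.zmem]
      · have hK1 : K = z1 := mul_left_cancel e
        refine hzz1 ?_
        calc z = v' * z1 * v' := by
              rw [hz1]; simp only [mul_assoc, ← mul_assoc v' v', h'.nc_sq hv', one_mul, mul_one]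
          _ = z1 := by rw [← hK1, hv'K.eq, mul_assoc, h'.nc_sq hv', mul_one]
    -- `u` fixes `K`
    have h2m := h1m.conj hq'S
    have hle2 : (V.map (MulAut.conj v').toMonoidHom).map (MulAut.conj q').toMonoidHom ≤
        centralizer (V : Set G) := by
      rintro _ ⟨t, ht, rfl⟩
      show q' * t * q'⁻¹ ∈ centralizer (V : Set G)
      exact mul_mem (mul_mem hq'C.2 (hle1 ht)) (inv_mem hq'C.2)
    have hne2 : z ≠ q' * z1 * q'⁻¹ := fun e => hzz1 (by
      refine mul_left_cancel (a := q') (mul_right_cancel (b := q'⁻¹) ?_)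
      rw [hq'z.eq, mul_inv_cancel_right, ← e])
    have hu2 := h.tr_cent h2m huS huN huq hne2 hle2
    have hu1 := h.tr_cent h1m huS huN huq hzz1 hle1
    have huwK : Commute u (q' * w * q'⁻¹) :=
      (mem_centralizer_iff.1 hu2 _ ⟨w, hwn.1, rfl⟩).symm
    rw [hq'w] at huwK
    have huK : Commute u K := by
      have := (show Commute u w from (mem_centralizer_iff.1 hu1 w hwn.1).symm).inv_right.mul_right huwK
      rwa [inv_mul_cancel_left] at this
    -- the same with the roles exchanged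
    set q := u * (v' * u * v') with hq
    have hqv' : Commute q v' := h'.q_comm hqC hv'.1
    have hqw : q * (v * v' * v) * q⁻¹ = (v * v' * v) * (z * z1) := by
      have e1 : v * v' * v = v' * (v * w) := by
        rw [← hee, ← mul_assoc, h'.nc_sq hv', one_mul]
      rw [e1]
      calc q * (v' * (v * w)) * q⁻¹ = (q * v' * q⁻¹) * (q * (v * w) * q⁻¹) := by group
        _ = v' * (v * w) * (z * z1) := by rw [hconj, hqv'.eq, mul_inv_cancel_right, ← mul_assoc v']
    have hzz1' : z' ≠ z1' := fun e => hm (mul_inv_eq_iff_eq_mul.1 (by rw [hvi]; exact e.symm))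
    have hqS : q ∈ S := hqC.1
    have hqz' : Commute q z' := h'.q_comm hqC h'.four.zmem
    have h2m' := h1m'.conj hqS
    have hle2' : (V'.map (MulAut.conj v).toMonoidHom).map (MulAut.conj q).toMonoidHom ≤
        centralizer (V' : Set G) := by
      rintro _ ⟨t, ht, rfl⟩
      show q * t * q⁻¹ ∈ centralizer (V' : Set G)
      exact mul_mem (mul_mem hqC.2 (hle1' ht)) (inv_mem hqC.2)
    have hu1'' := h'.tr_cent h1m' hu'S hu'N hu'q hzz1' hle1'
    set L := z * z1 with hL
    have hvL : Commute v L := (show Commute v z from h.v_comm_z hv.1).mul_right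
      (mem_centralizer_iff.1 (hle1 h1m.four.zmem) v hv.1)
    -- `q` moves `z1'`
    have hne2' : z' ≠ q * z1' * q⁻¹ := fun e => hzz1' (by
      refine mul_left_cancel (a := q) (mul_right_cancel (b := q⁻¹) ?_)
      rw [hqz'.eq, mul_inv_cancel_right, ← e])
    have hu2' := h'.tr_cent h2m' hu'S hu'N hu'q hne2' hle2'
    have huwL : Commute u' (q * (v * v' * v) * q⁻¹) :=
      (mem_centralizer_iff.1 hu2' _ ⟨_, hwn'.1, rfl⟩).symm
    rw [hqw] at huwL
    have hu'L : Commute u' L := by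
      have := (show Commute u' (v * v' * v) from
        (mem_centralizer_iff.1 hu1'' _ hwn'.1).symm).inv_right.mul_right huwL
      rwa [inv_mul_cancel_left] at this
    have hq'L : Commute q' L := hu'L.mul_left ((hvL.mul_left hu'L).mul_left hvL)
    refine hq'z1 ?_
    have := hq'z.inv_right.mul_right hq'L
    rwa [hL, inv_mul_cancel_left] at this
  by_cases hm : v * z' = z' * v
  · have hm1 : v' * z ≠ z * v' := fun e => hfix ⟨e, hm⟩
    -- exchange the roles
    obtain ⟨u, huS, huN, huq, hqC, hconj⟩ := h.exists_half h' hv hv' hne hvw hm1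
    have hN := h'.conj_mem hv' hvS hm (by rw [hvi]; exact hvw'.symm)
    have hw : v * v' * v = v' * z' := by
      rcases h'.conj_cases hv' hvS hN with e | e
      · exact absurd (mul_inv_eq_iff_eq_mul.1 e) hne
      · rwa [hvi] at e
    have e0 : v' * (v' * z') = z' := by rw [← mul_assoc, h'.nc_sq hv', one_mul]
    rw [← hee, hw, e0, h'.q_comm hqC h'.four.zmem, mul_inv_cancel_right] at hconj
    have h3 : z * (v' * z * v') = 1 := by
      exact left_eq_mul.1 hconj
    refine hm1 (mul_inv_eq_iff_eq_mul.1 ?_)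
    rw [hv'i, ← inv_eq_of_mul_eq_one_right h3, h.four.inv_eq h.four.zmem]
  · exact hfix' hm

end Mem

end Cfsg.Agent.EvenNilp
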