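import Cfsg.Agent.Lib.EvenNilp.Count
import Cfsg.Agent.Lib.EvenNilp.Member

/-!
# The case `J(S) ≰ P`: there is one conjugate of `V`, and a member (helper46)
-/

set_option autoImplicit false
set_option linter.unusedSectionVars false
set_option linter.style.haveILetI false

namespace Cfsg.Agent.EvenNilp

open Subgroup CoprimeNilMax
open scoped Pointwise

universe u v

variable {A : Type v} [Group A] [Finite A] {G : Type u} [Group G] [Finite G]

theorem elemMax_cj {X B : Subgroup G} (hB : B ∈ elemMax X) {g : G} (hg : g ∈ normalizer (X : Set G)) :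
    cj g B ∈ elemMax X := by
  refine ⟨(map_mono hB.1).trans (conj_map_eq hg).le,
    (PLocal.elemAb_map_iff_of_injOn (f := (MulAut.conj g).toMonoidHom) (H := B)
      (MulAut.conj g).injective.injOn le_rfl).2 hB.2.1, fun C hC hCe => ?_⟩
  rw [cj, card_map_of_injective (MulAut.conj g).injective]
  exact hB.2.2 C hC hCe

theorem card_eq_mul_relIndex (Y P : Subgroup G) : Nat.card ↥(Y ⊓ P) * P.relIndex Y = Nat.card Y := by
  rw [← inf_relIndex_left, ← relIndex_bot_left (Y ⊓ P), relIndex_mul_relIndex _ _ _ bot_le inf_le_left,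
    relIndex_bot_left]

namespace CB

variable {φ : A →* MulAut G} {S : Sylow 2 G} {D P V : Subgroup G} {x z : G} (c : CB φ S D P V x z)
include c

theorem exists_max_le_P : ∃ B ∈ elemMax c.S2, B ≤ P := by
  obtain ⟨B, hB⟩ := PLocal.exists_maxIn (Q := PLocal.elemAb 2) PLocal.elemAb_bot c.S2
  refine ⟨_, (c.fix_data hB (c.all_fix hB)).1, sup_le (fun a ha => ?_) (c.sibs_fam.sup_le.trans c.R_le_P)⟩
  refine c.mem_P_of_fix (hB.1 ha.1) fun U hU => ?_
  rw [cj_of_mem (U := U) (centralizer_le_normalizer _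
    (centralizer_le (SetLike.coe_subset_coe.2 (Finset.le_sup (f := id) (c.mem_sibs.2 hU))) ha.2))]

theorem mem_max_P {B : Subgroup G} (hB : B ∈ elemMax c.S2) (hBP : B ≤ P) : B ∈ elemMax P :=
  PLocal.maxIn_of_mem_le hB hBP c.P_le_S2

theorem max_P_mem {B : Subgroup G} (hB : B ∈ elemMax P) : B ∈ elemMax c.S2 := by
  obtain ⟨B₀, hB₀, hle⟩ := c.exists_max_le_P
  exact PLocal.maxIn_subset hB₀ hle c.P_le_S2 hB

theorem exists_priv₀ : ∃ U, Sib P V U ∧ ∃ B ∈ elemMax c.S2, ∃ a ∈ B,
    cls (jSub P) (cj a U) ≠ cls (jSub P) U ∧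
      ∀ U', Sib P V U' → U' ≠ U → cls (jSub P) (cj a U') = cls (jSub P) U' := by
  have hne := c.jS2_not_le
  rw [jSub_eq] at hne
  have : ∃ B ∈ elemMax c.S2, ¬ B ≤ P := by
    by_contra hcon
    push Not at hcon
    exact hne (sSup_le hcon)
  obtain ⟨B, hB, hBP⟩ := this
  obtain ⟨a, ha, haP⟩ := SetLike.not_le_iff_exists.1 hBP
  have : ∃ U, Sib P V U ∧ cls (jSub P) (cj a U) ≠ cls (jSub P) U := by
    by_contra hcon
    push Not at hcon
    exact haP (c.mem_P_of_fix (hB.1 ha) hcon)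
  obtain ⟨U, hU, hfl⟩ := this
  exact ⟨U, hU, B, hB, (c.fix_data hB (c.all_fix hB)).2 U hU ⟨a, ha, hfl⟩⟩

/-- Every conjugate is flipped alone. -/
theorem priv {U : Subgroup G} (hU : Sib P V U) : ∃ B ∈ elemMax c.S2, ∃ a ∈ B,
    cls (jSub P) (cj a U) ≠ cls (jSub P) U ∧
      ∀ U', Sib P V U' → U' ≠ U → cls (jSub P) (cj a U') = cls (jSub P) U' := by
  obtain ⟨U₀, hU₀, B, hB, a, ha, hfl, hfix⟩ := c.exists_priv₀
  obtain ⟨p₀, hp₀, e₀⟩ := id hU₀
  obtain ⟨p, hp, e⟩ := id hU
  set k := p * p₀⁻¹ with hk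
  have hkP : k ∈ P := P.mul_mem hp (inv_mem hp₀)
  have hkS := c.P_le_S2 hkP
  have hkU : cj k U₀ = U := by
    rw [← e₀, ← e]
    show cj k (cj p₀ V) = cj p V
    rw [← cj_mul, hk, inv_mul_cancel_right]
  have hcomp : ∀ W, cj (k * a * k⁻¹) (cj k W) = cj k (cj a W) := fun W => by
    rw [← cj_mul, ← cj_mul, inv_mul_cancel_right]
  refine ⟨cj k B, elemMax_cj hB (le_normalizer hkS), k * a * k⁻¹, ⟨a, ha, rfl⟩, fun h => ?_,
    fun U' hU' hne => ?_⟩
  · rw [← hkU, hcomp] at h
    exact hfl ((c.mr_cj (c.sib_mr hU₀) (hB.1 ha)).cls_map_inj (c.sib_mr hU₀) _ (c.fixR hkS) h)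
  · have hW : Sib P V (cj k⁻¹ U') := hU'.conj (inv_mem hkP)
    have e' : cj k (cj k⁻¹ U') = U' := by rw [← cj_mul, mul_inv_cancel, cj_one]
    rw [← e', hcomp]
    refine c.cls_cj (c.mr_cj (c.sib_mr hW) (hB.1 ha)) (c.sib_mr hW) (hfix _ hW fun h => hne ?_) hkS
    rw [← e', h, hkU]

/-- Any set of conjugates is flipped. -/
theorem exists_flip_set (T : Finset (Subgroup G)) (hT : ∀ U ∈ T, Sib P V U) :
    ∃ a ∈ c.S2, (∀ U, Sib P V U → a * zR (jSub P) U = zR (jSub P) U * a) ∧
      ∀ U, Sib P V U → (cls (jSub P) (cj a U) ≠ cls (jSub P) U ↔ U ∈ T) := by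
  classical
  induction T using Finset.induction with
  | empty =>
    exact ⟨1, one_mem _, fun U _ => by rw [one_mul, mul_one], fun U _ => by simp [cj_one]⟩
  | @insert U₀ T hnot ih =>
    obtain ⟨a, ha, haz, hfl⟩ := ih fun U hU => hT U (Finset.mem_insert_of_mem hU)
    obtain ⟨B, hB, b, hb, hflb, hfixb⟩ := c.priv (hT U₀ (Finset.mem_insert_self _ _))
    have hbS := hB.1 hb
    refine ⟨a * b, mul_mem ha hbS, fun U hU =>
      ((show Commute a _ from haz U hU).mul_left (c.all_fix hB U hU b hb)).eq, fun U hU => ?_⟩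
    have hm := c.sib_mr hU
    rw [cj_mul, Finset.mem_insert]
    by_cases e : U = U₀
    · subst e
      refine iff_of_true (fun h => hflb ?_) (Or.inl rfl)
      have h0 : cls (jSub P) (cj a U) = cls (jSub P) U := by
        by_contra hh
        exact hnot ((hfl U hU).1 hh)
      exact (c.mr_cj hm hbS).cls_map_inj hm _ (c.fixR ha) (h.trans h0.symm)
    · rw [c.cls_cj (c.mr_cj hm hbS) hm (hfixb U hU e) ha, hfl U hU, or_iff_right e]

/-- The stabiliser of the class of `V`. -/
abbrev Y : Subgroup G := c.clsStab (c.sib_mr (Sib.self P V))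

theorem Y_two : IsPGroup 2 c.Y := c.S2_two.to_le fun _ h => h.1

theorem card_Y_le : Nat.card c.Y ≤ Nat.card P := by
  set R := jSub P with hR
  obtain ⟨zJ, hRB⟩ := c.orb.rblk c.P_two
  set D' := R ⊓ centralizer (V : Set G) with hD'
  have hD2 : IsPGroup 2 D' := c.P_two.to_le (inf_le_left.trans c.R_le_P)
  have hgood : Good D' := c.top.good_of_le c.hyp hD2 (le_inf c.top.zP_le_jSub fun g hg =>
    mem_centralizer_iff.2 fun t ht => ((mem_zSub.1 hg).2.1 t (c.orb.vP ht)))
  have hnn : NN D' := nn_of_odd hD2 hRB.blk.mem_normalizer hRB.blk.odd fun hc =>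
    hRB.four.zne (hRB.blk.fpf zJ hRB.four.zmem (mem_centralizer_iff.1 hc zJ (hRB.blk.vle hRB.four.zmem)).symm)
  refine c.top.card_le hgood hnn c.Y_two fun a ha => ?_
  refine mem_normalizer_iff_map_conj_eq.2 ?_
  have h := congrArg Prod.snd ha.2
  rw [(c.sib_mr (Sib.self P V)).cls_map _ (c.fixR ha.1)] at h
  exact h

theorem rel_Y_P_le : c.Y.relIndex P ≤ c.sibs.card := by
  classical
  let f : P ⧸ c.Y.subgroupOf P → c.sibs := fun q => ⟨cj (q.out : G) V, c.mem_sibs.2 ⟨_, q.out.2, rfl⟩⟩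
  have hf : Function.Injective f := fun q q' h => by
    rw [← q.out_eq, ← q'.out_eq]
    refine QuotientGroup.eq.2 ?_
    rw [Subgroup.mem_subgroupOf]
    have h' : cj (q.out : G) V = cj (q'.out : G) V := congrArg Subtype.val h
    refine ⟨c.P_le_S2 (SetLike.coe_mem _), ?_⟩
    rw [Subgroup.coe_mul, InvMemClass.coe_inv, cj_mul, ← h', ← cj_mul, inv_mul_cancel, cj_one]
  have := Nat.card_le_card_of_injective f hf
  rwa [Nat.card_eq_finsetCard] at this

theorem pow_le_rel : 2 ^ (c.sibs.card - 1) ≤ P.relIndex c.Y := by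
  classical
  set T₀ := c.sibs.erase V with hT₀
  have hT : ∀ T ∈ T₀.powerset, ∀ U ∈ T, Sib P V U := fun T hT U hU =>
    c.mem_sibs.1 (Finset.mem_of_mem_erase (Finset.mem_powerset.1 hT hU))
  choose a haS haz hfl using fun T : T₀.powerset => c.exists_flip_set T.1 (hT T.1 T.2)
  have haY : ∀ T, a T ∈ c.Y := fun T => ⟨haS T, by
    by_contra h
    exact (Finset.mem_erase.1 (Finset.mem_powerset.1 T.2 ((hfl T V (Sib.self P V)).1 h))).1 rfl⟩
  let f : T₀.powerset → c.Y ⧸ P.subgroupOf c.Y := fun T => QuotientGroup.mk ⟨a T, haY T⟩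
  have hf : Function.Injective f := fun T T' h => by
    have hp : (a T)⁻¹ * a T' ∈ P := by simpa [Subgroup.mem_subgroupOf] using QuotientGroup.eq.1 h
    refine Subtype.ext (Finset.ext fun U => ?_)
    by_cases hU : Sib P V U
    · rw [← hfl T U hU, ← hfl T' U hU]
      have hz : (a T)⁻¹ * a T' * zR (jSub P) U = zR (jSub P) U * ((a T)⁻¹ * a T') :=
        ((show Commute (a T) _ from haz T U hU).inv_left.mul_left (haz T' U hU)).eq
      have e : cj (a T') U = cj (a T) U := by
        conv_lhs => rw [show a T' = a T * ((a T)⁻¹ * a T') by group, cj_mul, cj_of_mem (c.cj_sib_eq hU hp hz)]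
      rw [e]
    · exact iff_of_false (fun h => hU (hT T.1 T.2 U h)) fun h => hU (hT T'.1 T'.2 U h)
  have := Nat.card_le_card_of_injective f hf
  rwa [Nat.card_eq_finsetCard, Finset.card_powerset, hT₀,
    Finset.card_erase_of_mem (c.mem_sibs.2 (Sib.self P V))] at this

theorem card_le_two : c.sibs.card ≤ 2 := by
  have h1 := card_eq_mul_relIndex c.Y P
  have h2 := card_eq_mul_relIndex P c.Y
  rw [inf_comm] at h2
  have h3 : P.relIndex c.Y ≤ c.Y.relIndex P := by
    refine Nat.le_of_mul_le_mul_left ?_ (Nat.card_pos (α := ↥(c.Y ⊓ P)))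
    rw [h1, h2]; exact c.card_Y_le
  have h4 := (c.pow_le_rel.trans h3).trans c.rel_Y_P_le
  by_contra h
  have key : ∀ n : ℕ, 2 ≤ n → n + 1 < 2 ^ n := fun n hn => by
    induction n, hn using Nat.le_induction with
    | base => norm_num
    | succ m _ ih => rw [pow_succ]; omega
  have := key (c.sibs.card - 1) (by omega)
  omega

/-- There is one conjugate. -/
theorem sib_eq {U : Subgroup G} (hU : Sib P V U) : U = V := by
  classical
  by_contra hne
  set R := jSub P with hR
  have hmV := c.sib_mr (Sib.self P V)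
  have hmU := c.sib_mr hU
  have hsibs : c.sibs = {V, U} := (Finset.eq_of_subset_of_card_le (Finset.insert_subset
    (c.mem_sibs.2 (Sib.self P V)) (Finset.singleton_subset_iff.2 (c.mem_sibs.2 hU)))
    (by rw [Finset.card_pair (Ne.symm hne)]; exact c.card_le_two)).symm
  have hcases : ∀ W, Sib P V W → W = V ∨ W = U := fun W hW => by
    simpa [hsibs] using c.mem_sibs.2 hW
  obtain ⟨B, hB, σ, hσ, hflU, hfixσ⟩ := c.priv hU
  have hσS := hB.1 hσ
  have hσY : σ ∈ c.Y := ⟨hσS, hfixσ V (Sib.self P V) (Ne.symm hne)⟩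
  have hσP : σ ∉ P := fun h => hflU (by rw [cj_of_mem (c.cj_sib_eq hU h (c.all_fix hB U hU σ hσ))])
  have hRY : R ≤ c.Y := fun r hr => ⟨c.R_le_S2 hr, by rw [cj_of_mem (hmV.norm hr)]⟩
  have hmaxY : ∀ B' ∈ elemMax P, B' ∈ elemMax c.Y := fun B' hB' =>
    PLocal.maxIn_of_mem_le (c.max_P_mem hB') ((EvenNilp.le_jSub hB').trans hRY) fun _ h => h.1
  -- the index
  have hr2 : c.sibs.card = 2 := by rw [hsibs, Finset.card_pair (Ne.symm hne)]
  have h1 := card_eq_mul_relIndex c.Y P
  have h2 := card_eq_mul_relIndex P c.Y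
  rw [inf_comm] at h2
  have hY2 : 2 ≤ P.relIndex c.Y := by have := c.pow_le_rel; rwa [hr2] at this
  have hP2 : c.Y.relIndex P ≤ 2 := hr2 ▸ c.rel_Y_P_le
  have hcard : Nat.card c.Y = Nat.card P := by
    refine le_antisymm c.card_Y_le ?_
    rw [← h1, ← h2]
    exact Nat.mul_le_mul_left _ (hP2.trans hY2)
  have hidx : (P.subgroupOf c.Y).index = 2 := by
    refine le_antisymm ?_ hY2
    show P.relIndex c.Y ≤ 2
    refine le_trans ?_ hP2
    exact Nat.le_of_mul_le_mul_left (by rw [h1, h2, hcard]) (Nat.card_pos (α := ↥(c.Y ⊓ P)))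
  have hgen : ∀ g ∈ c.Y, g ∈ P ∨ σ * g ∈ P := fun g hg => by
    by_cases hgP : g ∈ P
    · exact Or.inl hgP
    · exact Or.inr ((mul_mem_iff_of_index_two hidx (a := ⟨σ, hσY⟩) (b := ⟨g, hg⟩)).2 (iff_of_false hσP hgP))
  obtain ⟨zJ, hRB⟩ := c.orb.rblk c.P_two
  set D' := R ⊓ centralizer (V : Set G) with hD'
  have hD2 : IsPGroup 2 D' := c.P_two.to_le (inf_le_left.trans c.R_le_P)
  have hgood : Good D' := c.top.good_of_le c.hyp hD2 (le_inf c.top.zP_le_jSub fun g hg =>
    mem_centralizer_iff.2 fun t ht => ((mem_zSub.1 hg).2.1 t (c.orb.vP ht)))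
  have hnn : NN D' := nn_of_odd hD2 hRB.blk.mem_normalizer hRB.blk.odd fun hc =>
    hRB.four.zne (hRB.blk.fpf zJ hRB.four.zmem (mem_centralizer_iff.1 hc zJ (hRB.blk.vle hRB.four.zmem)).symm)
  have hYN : c.Y ≤ normalizer (D' : Set G) := fun a ha => mem_normalizer_iff_map_conj_eq.2 (by
    have h := congrArg Prod.snd ha.2
    rw [hmV.cls_map _ (c.fixR ha.1)] at h
    exact h)
  obtain ⟨hj, hz'⟩ := (c.top.bound D' c.Y hgood hnn c.Y_two hYN).2 hcard
  have hRJ : R ≤ jSub c.Y := by
    rw [hR, jSub_eq, jSub_eq]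
    exact sSup_le_sSup hmaxY
  have hJeq : R = jSub c.Y := Subgroup.eq_of_le_of_card_ge hRJ hj
  -- `V` is flipped by `B`
  have hflV : ∃ a ∈ B, cls R (cj a V) ≠ cls R V := by
    by_contra hcon
    push Not at hcon
    have hBY : B ≤ c.Y := fun a ha => ⟨hB.1 ha, hcon a ha⟩
    have := EvenNilp.le_jSub (PLocal.maxIn_of_mem_le hB hBY fun _ h => h.1) hσ
    rw [← hJeq] at this
    exact hσP (c.R_le_P this)
  -- `B` centralises `Ω₁Z(P)`
  have hBZ : ∀ g ∈ zSub P, ∀ a ∈ B, a * g = g * a := by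
    intro g hg a ha
    set E := famSup id c.sibs with hE
    have hfd := (c.fix_data hB (c.all_fix hB)).1
    have hle : (B ⊓ centralizer (E : Set G)) ⊔ E ≤ P := by
      refine sup_le (fun b hb => c.mem_P_of_fix (hB.1 hb.1) fun W hW => ?_) (c.sibs_fam.sup_le.trans c.R_le_P)
      rw [cj_of_mem (U := W) (centralizer_le_normalizer _
        (centralizer_le (SetLike.coe_subset_coe.2 (Finset.le_sup (f := id) (c.mem_sibs.2 hW))) hb.2))]
    have hg' := c.top.zP_le_max (c.mem_max_P hfd hle) hg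
    rw [Coprime.mem_sup_iff ((PLocal.le_centralizer_comm inf_le_right).trans (centralizer_le_normalizer _))]
      at hg'
    obtain ⟨b, hb, e, he, rfl⟩ := hg'
    suffices hez : e ∈ famSup (fun W => zpowers (zR R W)) c.sibs by
      have hle' : famSup (fun W => zpowers (zR R W)) c.sibs ≤ centralizer ({a} : Set G) :=
        Finset.sup_le fun W hW => zpowers_le.2 (mem_centralizer_singleton_iff.2
          (c.all_fix hB W (c.mem_sibs.1 hW) a ha).symm)
      exact ((show Commute a b from PLocal.elemAb_comm hB.2.1 ha hb.1).mul_right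
        (show Commute a e from (mem_centralizer_singleton_iff.1 (hle' hez)).symm)).eq
    refine c.sibs_fam.mem_famSup (fun W => zpowers (zR R W))
      (fun W hW => zpowers_le.2 (c.sibs_fam.mr W hW).z_mem) he fun W hW => Or.inr ?_
    have hW' := c.mem_sibs.1 hW
    have hm := c.sib_mr hW'
    obtain ⟨a', ha', hfl⟩ : ∃ a' ∈ B, cls R (cj a' W) ≠ cls R W := by
      rcases hcases W hW' with rfl | rfl
      · exact hflV
      · exact ⟨σ, hσ, hflU⟩
    have ha'S := hB.1 ha'
    have hm' := c.mr_cj hm ha'S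
    have hz0 : zR R (cj a' W) = zR R W := by
      rw [c.zR_cj hm ha'S, c.all_fix hB W hW' a' ha', mul_inv_cancel_right]
    have hrest : famSup id (c.sibs.erase W) ≤ centralizer (W : Set G) :=
      Finset.sup_le fun W' hW'' => c.sibs_fam.comm hW (Finset.mem_of_mem_erase hW'')
    rw [famSup_erase hW, Coprime.mem_sup_iff (hrest.trans (centralizer_le_normalizer _))] at he
    obtain ⟨v, hv, w, hw, rfl⟩ := he
    refine mul_mem (mem_sup_left ?_) (mem_sup_right hw)
    by_contra hvz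
    have hw' : a' * w * a'⁻¹ ∈ centralizer (W : Set G) := by
      have hle2 : famSup id (c.sibs.erase W) ≤ (centralizer (W : Set G)).comap (MulAut.conj a').toMonoidHom :=
        Finset.sup_le fun W' hW'' t ht => by
          obtain ⟨hne', hW2⟩ := Finset.mem_erase.1 hW''
          have hW3 := c.mem_sibs.1 hW2
          refine hm.commute_of_ne (c.mr_cj (c.sib_mr hW3) ha'S) (fun h => hne' ?_) ⟨t, ht, rfl⟩
          rw [c.zR_cj (c.sib_mr hW3) ha'S, c.all_fix hB W' hW3 a' ha', mul_inv_cancel_right] at h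
          exact (c.sib_z_inj hW' hW3 h).symm
      exact hle2 hw
    have hv' : a' * v * a'⁻¹ ∈ centralizer (W : Set G) := by
      refine mem_centralizer_iff.2 fun t ht => ?_
      have htP : t ∈ P := c.R_le_P (hm.le ht)
      have hcg : ∀ r ∈ P, r * (b * (v * w)) = (b * (v * w)) * r := (mem_zSub.1 hg).2.1
      have h3 : Commute t (a' * (b * (v * w)) * a'⁻¹) := by
        obtain ⟨r, hr, hrt⟩ := (c.fixR ha'S).ge (hm.le ht)
        rw [← hrt]
        show Commute (a' * r * a'⁻¹) _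
        exact Commute.conj (hcg r (c.R_le_P hr)) a'
      have hab : a' * b * a'⁻¹ = b := by rw [PLocal.elemAb_comm hB.2.1 ha' hb.1, mul_inv_cancel_right]
      have h4 : Commute t b := mem_centralizer_iff.1
        (centralizer_le (SetLike.coe_subset_coe.2 (Finset.le_sup (f := id) hW)) hb.2) t ht
      have h5 : Commute t (a' * w * a'⁻¹) := mem_centralizer_iff.1 hw' t ht
      have e1 : a' * (b * (v * w)) * a'⁻¹ = b * ((a' * v * a'⁻¹) * (a' * w * a'⁻¹)) := by
        conv_rhs => rw [← hab]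
        group
      rw [e1] at h3
      have h6 := h4.inv_right.mul_right h3
      rw [inv_mul_cancel_left] at h6
      have h7 := h6.mul_right h5.inv_right
      rw [mul_inv_cancel_right] at h7
      exact h7.eq
    refine hfl (hm.cls_eq hm' hz0.symm (hm'.four.eq_of_two ⟨v, hv, rfl⟩ ?_ ?_ hv' ?_)).symm
    · intro h
      exact hvz (by rw [conj_eq_one_iff.1 h]; exact one_mem _)
    · intro h
      rw [hz0] at h
      refine hvz ?_
      have h8 : v = zR R W := by
        have h9 : a' * zR R W * a'⁻¹ = zR R W := by rw [c.all_fix hB W hW' a' ha', mul_inv_cancel_right]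
        rw [← h9] at h
        exact mul_left_cancel (mul_right_cancel h)
      rw [h8]; exact mem_zpowers _
    · rw [hz0]; exact hm.four.le_centralizer hm.z_mem
  have hzY : zSub P ≤ zSub c.Y := fun g hg => by
    obtain ⟨hgP, hgc, hg2⟩ := mem_zSub.1 hg
    refine mem_zSub.2 ⟨hRY (c.top.zP_le_jSub hg), fun p hp => ?_, hg2⟩
    rcases hgen p hp with h | h
    · exact hgc p h
    · have := (show Commute σ g from hBZ g hg σ hσ).inv_left.mul_left (show Commute (σ * p) g from hgc _ h)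
      rw [inv_mul_cancel_left] at this
      exact this.eq
  have hzU : zR R U ∈ zSub c.Y := by
    have hfixP : ∀ p ∈ c.Y, p ∈ P → p * zR R U = zR R U * p := fun p hp hpP => by
      have hpS := hp.1
      have hz := congrArg Prod.fst hp.2
      have hV : cj p V = V := c.sib_z_inj ((Sib.self P V).conj hpP) (Sib.self P V) hz
      have hUU : cj p U = U := by
        rcases hcases _ (hU.conj hpP) with h | h
        · exact absurd (map_injective (MulAut.conj p).injective (h.trans hV.symm)) hne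
        · exact h
      have := c.zR_cj hmU hpS
      rw [hUU] at this
      exact (eq_mul_inv_iff_mul_eq.1 this).symm
    refine mem_zSub.2 ⟨hRY hmU.z_mem_R, fun p hp => ?_, by rw [pow_two]; exact hmU.four.sq _ hmU.z_mem⟩
    rcases hgen p hp with h | h
    · exact hfixP p hp h
    · have := (show Commute σ (zR R U) from c.all_fix hB U hU σ hσ).inv_left.mul_left
        (show Commute (σ * p) (zR R U) from hfixP _ (mul_mem hσY hp) h)
      rw [inv_mul_cancel_left] at this
      exact this.eq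
  have hzeq : zSub P = zSub c.Y :=
    Subgroup.eq_of_le_of_card_ge hzY (hz' (le_antisymm hj (Subgroup.card_le_of_le hRJ)))
  rw [← hzeq] at hzU
  obtain ⟨p, hp, hpU⟩ := id hU
  have h10 := c.zR_cj hmV (c.P_le_S2 hp)
  rw [show cj p V = U from hpU] at h10
  refine hne (c.sib_z_inj hU (Sib.self P V) ?_)
  have h11 := (mem_zSub.1 hzU).2.1 p hp
  rw [h10] at h11 ⊢
  have h12 : p * (p * zR R V * p⁻¹) = p * zR R V := by rw [h11, inv_mul_cancel_right]
  exact mul_left_cancel h12

/-- The member. -/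
theorem exists_mem : ∃ z', Mem (S : Subgroup G) V x z' := by
  set R := jSub P with hR
  have hm := c.sib_mr (Sib.self P V)
  set z' := zR R V with hz'
  have hN : P ≤ normalizer (V : Set G) := fun p hp =>
    mem_normalizer_iff_map_conj_eq.2 (c.sib_eq ((Sib.self P V).conj hp))
  obtain ⟨z₁, hF, hz₁⟩ := exists_fixed_invol c.orb.four c.P_two hN
  have hzP : ∀ p ∈ P, p * z' = z' * p := by
    rcases hm.choose_spec.eq_of_central hF.zmem (fun r hr => hz₁ r (c.R_le_P hr)) with e | e
    · exact absurd e hF.zne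
    · rw [hz', ← e]; exact hz₁
  set Qp := P ⊓ centralizer (V : Set G) with hQp
  have hQp2 : IsPGroup 2 Qp := c.P_two.to_le inf_le_left
  have hgood : Good Qp := c.top.good_of_le c.hyp hQp2 (le_inf (zSub_le P) fun g hg =>
    mem_centralizer_iff.2 fun t ht => ((mem_zSub.1 hg).2.1 t (c.orb.vP ht)))
  have hnn : NN Qp := nn_of_odd hQp2 c.orb.blk.mem_normalizer c.orb.blk.odd fun hc =>
    c.orb.four.zne (c.orb.blk.fpf z c.orb.four.zmem
      (mem_centralizer_iff.1 hc z (c.orb.blk.vle c.orb.four.zmem)).symm)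
  have hPN : P ≤ normalizer (Qp : Set G) := fun p hp => mem_normalizer_iff_map_conj_eq.2
    ((Subgroup.map_inf _ _ _ (MulAut.conj p).injective).trans (congrArg₂ (· ⊓ ·) (conj_map_eq (le_normalizer hp))
      ((map_cent (MulAut.conj p) V).trans (by rw [conj_map_eq (hN hp)]))))
  have hnormQ : ∀ g ∈ (S : Subgroup G), g ∈ normalizer (Qp : Set G) → g ∈ P := fun g hg hgN =>
    (c.top.eq_of_le hgood hnn (S.2.to_le (inf_le_left : (S : Subgroup G) ⊓ normalizer (Qp : Set G) ≤ S))
      inf_le_right (le_inf c.top.le_S hPN)).le ⟨hg, hgN⟩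
  have hQeq : (S : Subgroup G) ⊓ centralizer (V : Set G) = Qp := by
    by_contra hne
    obtain ⟨q, hq, hqn, hqM⟩ := exists_norm_not_mem (S.2.to_le inf_le_left)
      (inf_le_inf_right _ c.top.le_S) (Ne.symm hne)
    exact hqn ⟨hnormQ q hq.1 (Coprime.mem_normalizer_of_forall hqM), hq.2⟩
  obtain ⟨B, hB, σ, hσ, hfl, -⟩ := c.priv (Sib.self P V)
  have hσS := hB.1 hσ
  have hσz : σ * z' = z' * σ := c.all_fix hB V (Sib.self P V) σ hσ
  have hm' := c.mr_cj hm hσS
  have hz0 : zR R (cj σ V) = z' := by rw [c.zR_cj hm hσS, hσz, mul_inv_cancel_right]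
  obtain ⟨v', hv', hn, hv1, hvz⟩ := hm.choose_spec.exists_noncomm hm'.choose_spec
    (fun e => hfl (Prod.ext hz0 e.symm)) hz0.symm
  obtain ⟨v, hv, rfl⟩ := hv'
  refine ⟨z', S.2, c.orb.vP.trans c.top.le_S, hm.four, fun g hg hgN => ?_, fun v hv g hg hgv => ?_,
    fun g hg hgN => ?_, hQeq ▸ c.orb.blk, σ, hσS.1, hσz, v, ⟨hv, ?_, ?_⟩, hm.norm (hm'.le ⟨v, hv, rfl⟩),
    hn, fun q hq => ?_⟩
  · refine hzP g (hnormQ g hg ?_)
    rw [← hQeq]
    exact mem_normalizer_iff_map_conj_eq.2 ((mem_map_cent (e := MulAut.conj g) (conj_map_self hg)).trans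
      (by rw [conj_map_eq hgN]))
  · by_contra hgC
    have hle : Qp ≤ (S : Subgroup G) ⊓ centralizer ({v} : Set G) := fun q hq =>
      ⟨c.top.le_S hq.1, mem_centralizer_singleton_iff.2 (mem_centralizer_iff.1 hq.2 v hv.1).symm⟩
    have hne : Qp ≠ (S : Subgroup G) ⊓ centralizer ({v} : Set G) := fun e =>
      hgC (e.ge ⟨hg, mem_centralizer_singleton_iff.2 hgv⟩).2
    obtain ⟨q, hq, hqn, hqM⟩ := exists_norm_not_mem (S.2.to_le inf_le_left) hle hne
    have hqP := hnormQ q hq.1 (Coprime.mem_normalizer_of_forall hqM)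
    exact hqn ⟨hqP, hm.four.centralizes_of_fix (hzP q hqP) hv.1 hv.2.1 hv.2.2
      (mem_centralizer_singleton_iff.1 hq.2)⟩
  · rw [hQeq] at hgN
    exact hN (hnormQ g hg hgN)
  · exact fun e => hv1 (by rw [e, map_one])
  · intro e
    refine hvz ?_
    show σ * v * σ⁻¹ = _
    rw [e, hσz, mul_inv_cancel_right]
  · rw [hQeq] at hq
    -- `σ⁻¹ q σ` stabilises the class
    set p := σ⁻¹ * q * σ with hp
    have hqS := c.P_le_S2 hq.1
    have hpS : p ∈ c.S2 := mul_mem (mul_mem (inv_mem hσS) hqS) hσS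
    have hpP : p ∈ P := by
      refine c.mem_P_of_fix hpS fun W hW => ?_
      rw [c.sib_eq hW, hp, mul_assoc, cj_mul, cj_mul]
      have hq' := c.mr_cj hm' hqS
      have hqz : zR R (cj q (cj σ V)) = z' := by
        rw [c.zR_cj hm' hqS, hz0, hzP q hq.1, mul_inv_cancel_right]
      have heq : cls R (cj q (cj σ V)) = cls R (cj σ V) := by
        rcases hm.two_values hm' hq' hz0.symm hqz.symm with e | e | e
        · exact absurd e.symm hfl
        · have e' : cls R (cj q V) = cls R (cj q (cj σ V)) := by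
            rw [show cj q V = V from c.sib_eq ((Sib.self P V).conj hq.1)]; exact e
          exact absurd (hm.cls_map_inj hm' _ (c.fixR hqS) e').symm hfl
        · exact e.symm
      rw [c.cls_cj hq' hm' heq (inv_mem hσS), ← cj_mul, inv_mul_cancel, cj_one]
    have hV' : cj q (cj σ V) = cj σ V := by
      have e : cj p V = V := c.sib_eq ((Sib.self P V).conj hpP)
      conv_rhs => rw [← e, ← cj_mul, hp]
      rw [← cj_mul]; congr 1; group
    set u := σ * v * σ⁻¹ with hu
    have huV : u ∈ cj σ V := ⟨v, hv, rfl⟩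
    have huq : q * u * q⁻¹ = u ∨ q * u * q⁻¹ = u * z' := by
      refine hm'.four.conj_cases ?_ (hz0.symm ▸ hzP q hq.1) huV hv1 ?_ |>.imp id (fun e => by rwa [hz0] at e)
      · exact hV'.le ⟨u, huV, rfl⟩
      · intro e; exact hvz (by rw [hz0] at e; exact e)
    have hu2 : u⁻¹ = u := hm'.four.inv_eq huV
    rcases huq with e | e
    · left
      exact mul_inv_eq_iff_eq_mul.2 (mul_inv_eq_iff_eq_mul.1 e).symm
    · right
      have e1 : q * u = u * z' * q := mul_inv_eq_iff_eq_mul.1 e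
      rw [mul_assoc u q, hu2, e1, ← mul_assoc, ← mul_assoc, hm'.four.sq u huV, one_mul,
        hzP q hq.1]

end CB

end Cfsg.Agent.EvenNilp
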