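import Cfsg.Agent.Lib.EvenNilp.Core
import Cfsg.Agent.Lib.CoprimeNilMax.Main

/-!
# Coprime action: nilpotent invariant subgroups of order divisible by `p` force solvability (helper46)
-/

set_option autoImplicit false
set_option linter.unusedSectionVars false
set_option linter.style.haveILetI false

namespace Cfsg.Agent.EvenNilp

open Subgroup CoprimeNilMax
open scoped Pointwise

universe u v

variable {G : Type u} [Group G]

/-- The restriction of an action to an invariant subgroup. -/
noncomputable def subAct {A : Type v} [Group A] (φ : A →* MulAut G) (K : Subgroup G) (hK : Inv φ K) :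
    A →* MulAut K where
  toFun a := ((φ a : G ≃* G).subgroupMap K).trans (MulEquiv.subgroupCongr (hK a))
  map_one' := MulEquiv.ext fun k => Subtype.ext (show φ 1 (k : G) = k by rw [map_one]; rfl)
  map_mul' a b := MulEquiv.ext fun k => Subtype.ext
    (show φ (a * b) (k : G) = φ a (φ b k) by rw [map_mul]; rfl)

variable [Finite G]

/-- Proper invariant subgroups of order divisible by `p` are nilpotent. -/
def InvNil (B : Subgroup (MulAut G)) (p : ℕ) : Prop :=
  ∀ H : Subgroup G, H ≠ ⊤ → Inv B.subtype H → p ∣ Nat.card H → Group.IsNilpotent H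

variable {B : Subgroup (MulAut G)} {p : ℕ}

theorem inv_sup {X Y : Subgroup G} (hX : Inv B.subtype X) (hY : Inv B.subtype Y) :
    Inv B.subtype (X ⊔ Y) := fun b => by rw [Subgroup.map_sup, hX b, hY b]

theorem exists_inv_sylow (hcop : (Nat.card B).Coprime (Nat.card G)) (hB : Group.IsSolvable B) (q : ℕ)
    [Fact q.Prime] : ∃ P : Sylow q G, Inv B.subtype (P : Subgroup G) := by
  letI : MulDistribMulAction ↥B G := MulDistribMulAction.compHom G B.subtype
  obtain ⟨P, hP⟩ := Coprime.exists_smul_invariant_sylow hcop (Or.inl hB) q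
  exact ⟨P, inv_of_le fun b => by rintro _ ⟨x, hx, rfl⟩; exact hP b x hx⟩

/-- A normal Sylow subgroup centralised by the other Sylow subgroups. -/
theorem hnpc_of_normal [Fact p.Prime] (hcop : (Nat.card B).Coprime (Nat.card G)) (hB : Group.IsSolvable B)
    (h : InvNil B p) (hpG : p ∣ Nat.card G) (P : Sylow p G) (hP : Inv B.subtype (P : Subgroup G))
    (hn : (P : Subgroup G).Normal) : Group.IsSolvable G ∨ Cfsg.HasNormalPComplement p G := by
  set C := centralizer ((P : Subgroup G) : Set G) with hC
  have hpP : p ∣ Nat.card (P : Subgroup G) := P.dvd_card_of_dvd_card hpG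
  haveI := hn
  haveI : Group.IsSolvable (P : Subgroup G) := Solvable.isSolvable_of_isPGroup P.2
  by_cases hex : ∃ (q : ℕ) (_ : Fact q.Prime) (Q : Sylow q G), (P : Subgroup G) ⊔ (Q : Subgroup G) = ⊤
  · left
    obtain ⟨q, _, Q, hPQ⟩ := hex
    haveI : Group.IsSolvable (Q : Subgroup G) := Solvable.isSolvable_of_isPGroup Q.2
    haveI : Group.IsSolvable (G ⧸ (P : Subgroup G)) := by
      refine Group.isSolvable_of_surjective
        (f := (QuotientGroup.mk' (P : Subgroup G)).comp (Q : Subgroup G).subtype) fun y => ?_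
      obtain ⟨g, rfl⟩ := QuotientGroup.mk'_surjective _ y
      obtain ⟨a, ha, b, hb, rfl⟩ := Subgroup.mem_sup_of_normal_left.1
        (show g ∈ (P : Subgroup G) ⊔ (Q : Subgroup G) by rw [hPQ]; trivial)
      refine ⟨⟨b, hb⟩, ?_⟩
      show (b : G ⧸ (P : Subgroup G)) = ((a * b : G) : G ⧸ (P : Subgroup G))
      refine QuotientGroup.eq.2 ?_
      have := hn.conj_mem a ha b⁻¹
      rwa [inv_inv, mul_assoc] at this
    exact (Solvable.isSolvable_subgroup_quotient_iff (P : Subgroup G)).2 ⟨inferInstance, inferInstance⟩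
  right
  push Not at hex
  have hcent : ∀ (q : ℕ) [Fact q.Prime], q ≠ p → ∃ Q : Sylow q G, (Q : Subgroup G) ≤ C := fun q _ hqp => by
    obtain ⟨Q, hQ⟩ := exists_inv_sylow hcop hB q
    refine ⟨Q, fun g hg => mem_centralizer_iff.2 fun x hx => ?_⟩
    set M := (P : Subgroup G) ⊔ (Q : Subgroup G)
    have hnil := h M (hex q ‹_› Q) (inv_sup hP hQ) (hpP.trans (Subgroup.card_dvd_of_le le_sup_left))
    have h1 := Transfer.mem_centralizer_of_coprime (p := p) (G := M)
      (by haveI := hnil; exact Transfer.hasNormalPComplement_of_isNilpotent p)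
      (Q := (P : Subgroup G).subgroupOf M)
      (P.2.of_equiv (subgroupOfEquivOfLe le_sup_left).symm) (g := ⟨g, mem_sup_right hg⟩)
      (by
        haveI : ((P : Subgroup G).subgroupOf M).Normal := inferInstance
        rw [Subgroup.normalizer_eq_top]; trivial)
      (by
        rw [Subgroup.orderOf_mk]
        obtain ⟨k, hk⟩ := Q.2 ⟨g, hg⟩
        exact Nat.Coprime.coprime_dvd_left (orderOf_dvd_of_pow_eq_one (congrArg Subtype.val hk))
          (Nat.Coprime.pow_left k ((Nat.coprime_primes Fact.out Fact.out).2 hqp)))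
    exact congrArg Subtype.val (mem_centralizer_iff.1 h1 ⟨x, mem_sup_left hx⟩ hx)
  haveI hCn : C.Normal := Subgroup.normalizer_eq_top_iff.1 (top_le_iff.1 fun g _ =>
    mem_normalizer_iff_map_conj_eq.2 ((map_cent (MulAut.conj g) _).trans
      (by rw [conj_map_eq (g := g) (by rw [Subgroup.normalizer_eq_top]; trivial)])))
  refine Transfer.hasNormalPComplement_of_local P fun R hR _ n _ hco => ?_
  refine centralizer_le (SetLike.coe_subset_coe.2 hR.1) (?_ : n ∈ C)
  refine (QuotientGroup.eq_one_iff n).1 (orderOf_eq_one_iff.1 (Nat.eq_one_of_dvd_coprimes ?_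
    (orderOf_map_dvd (QuotientGroup.mk' C) n) (orderOf_dvd_natCard _)))
  refine Nat.coprime_of_dvd fun q hq hqn hqC => ?_
  haveI := Fact.mk hq
  have hqp : q ≠ p := fun e => hq.ne_one (Nat.eq_one_of_dvd_coprimes hco hqn e.dvd)
  obtain ⟨Q, hQ⟩ := hcent q hqp
  exact Q.not_dvd_index (hqC.trans (Subgroup.index_dvd_of_le hQ))

/-- The main induction. -/
theorem solvable_of_invNil_aux (n : ℕ) : ∀ (G : Type u) [Group G] [Finite G] (B : Subgroup (MulAut G)) (p : ℕ),
    p.Prime → p ∣ Nat.card G → (Nat.card B).Coprime (Nat.card G) → InvNil B p → Nat.card G = n →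
      Group.IsSolvable G := by
  induction n using Nat.strong_induction_on with
  | _ n ih =>
  intro G _ _ B p hp hpG hcop h hn
  by_cases hGodd : Odd (Nat.card G)
  · exact OddOrderTheorem.solvable hGodd
  have hBodd : Odd (Nat.card B) := Nat.coprime_two_right.1
    (hcop.coprime_dvd_right (even_iff_two_dvd.1 (Nat.not_odd_iff_even.1 hGodd)))
  have hBs : Group.IsSolvable B := OddOrderTheorem.solvable hBodd
  haveI := Fact.mk hp
  obtain ⟨P, hP⟩ := exists_inv_sylow hcop hBs p
  have hPne : (P : Subgroup G) ≠ ⊥ := P.ne_bot_of_dvd_card hpG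
  suffices hdone : Group.IsSolvable G ∨ Cfsg.HasNormalPComplement p G by
    rcases hdone with hs | hc
    · exact hs
    set K := Cfsg.pResidual p G with hK
    haveI : K.Normal := Transfer.pResidual_normal
    have hKco : (Nat.card K).Coprime p := Transfer.hasNormalPComplement_iff_coprime.1 hc
    haveI : Group.IsSolvable (G ⧸ K) := Solvable.isSolvable_of_isPGroup Transfer.isPGroup_quotient_pResidual
    suffices Group.IsSolvable K from (Solvable.isSolvable_subgroup_quotient_iff K).2 ⟨this, inferInstance⟩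
    by_cases hKodd : Odd (Nat.card K)
    · exact OddOrderTheorem.solvable hKodd
    have hK2 : 2 ∣ Nat.card K := even_iff_two_dvd.1 (Nat.not_odd_iff_even.1 hKodd)
    have hKinv : Inv B.subtype K := fun b => Transfer.map_pResidual_equiv (B.subtype b)
    have hKlt : Nat.card K < n := hn ▸ lt_of_le_of_ne (Subgroup.card_le_card_group K) fun e =>
      hp.ne_one (Nat.eq_one_of_dvd_coprimes hKco (e.symm ▸ hpG) dvd_rfl)
    set ι : ↥(P : Subgroup G) →* MulAut K := (MulAut.conjNormal : G →* MulAut K).comp (P : Subgroup G).subtype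
    set β : ↥B →* MulAut K := subAct B.subtype K hKinv
    have hβι : β.range ≤ normalizer (ι.range : Set (MulAut K)) := by
      rintro _ ⟨b, rfl⟩
      refine Coprime.mem_normalizer_of_forall ?_
      rintro _ ⟨x, rfl⟩
      refine ⟨⟨(b : MulAut G) x, (hP b).le ⟨x, x.2, rfl⟩⟩, MulEquiv.ext fun k => ?_⟩
      obtain ⟨k', rfl⟩ := (β b : K ≃* K).surjective k
      refine Subtype.ext ?_
      simp only [MulAut.mul_apply, MulAut.inv_apply, MulEquiv.symm_apply_apply]
      show (b : MulAut G) x * (b : MulAut G) k' * ((b : MulAut G) x)⁻¹ =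
        (b : MulAut G) ((x : G) * k' * (x : G)⁻¹)
      simp
    have hcop' : (Nat.card (ι.range ⊔ β.range : Subgroup (MulAut K))).Coprime (Nat.card K) := by
      refine FPQ.coprime_sup hβι ?_ ?_
      · exact Nat.Coprime.coprime_dvd_left (Subgroup.card_range_dvd β)
          (hcop.coprime_dvd_right (Subgroup.card_subgroup_dvd_card K))
      · refine Nat.Coprime.coprime_dvd_left (Subgroup.card_range_dvd ι) ?_
        obtain ⟨k, hk⟩ := IsPGroup.iff_card.1 P.2
        rw [hk]
        exact Nat.Coprime.pow_left k hKco.symm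
    refine ih _ hKlt K (ι.range ⊔ β.range) 2 Nat.prime_two hK2 hcop' (fun X hX hXinv _ => ?_) rfl
    set X' := X.map K.subtype with hX'
    have hinvX : ∀ g : ↥(ι.range ⊔ β.range : Subgroup (MulAut K)), X.map (g : MulAut K).toMonoidHom = X :=
      hXinv
    have hPX : (P : Subgroup G) ≤ normalizer (X' : Set G) := fun x hx => Coprime.mem_normalizer_of_forall (by
      rintro _ ⟨k, hk, rfl⟩
      exact ⟨_, (hinvX ⟨ι ⟨x, hx⟩, mem_sup_left ⟨_, rfl⟩⟩).le ⟨k, hk, rfl⟩,
        MulAut.conjNormal_apply (H := K) x k⟩)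
    have hX'inv : Inv B.subtype X' := inv_of_le fun b => by
      rintro _ ⟨_, ⟨k, hk, rfl⟩, rfl⟩
      exact ⟨_, (hinvX ⟨β b, mem_sup_right ⟨_, rfl⟩⟩).le ⟨k, hk, rfl⟩, rfl⟩
    have hY : X' ⊔ (P : Subgroup G) ≠ ⊤ := fun e => hX (eq_top_iff.2 fun k _ => by
      obtain ⟨a, ha, q, hq, he⟩ := (Coprime.mem_sup_iff hPX).1 (show (k : G) ∈ X' ⊔ (P : Subgroup G) by
        rw [e]; trivial)
      obtain ⟨a', ha', rfl⟩ := ha
      have hqK : q ∈ K := by
        have := K.mul_mem (K.inv_mem a'.2) k.2
        rwa [← he, show K.subtype a' = (a' : G) from rfl, inv_mul_cancel_left] at this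
      have hq1 : q = 1 := by
        obtain ⟨j, hj⟩ := P.2 ⟨q, hq⟩
        refine orderOf_eq_one_iff.1 (Nat.eq_one_of_dvd_coprimes (hKco.pow_right j)
          ?_ (orderOf_dvd_of_pow_eq_one (congrArg Subtype.val hj)))
        rw [← Subgroup.orderOf_mk q hqK]; exact orderOf_dvd_natCard _
      rw [hq1, mul_one] at he
      rwa [← Subtype.ext he])
    have hnil := h _ hY (inv_sup hX'inv hP)
      ((P.dvd_card_of_dvd_card hpG).trans (Subgroup.card_dvd_of_le le_sup_right))
    haveI := hnil
    haveI : Group.IsNilpotent ↥X' :=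
      Group.nilpotent_of_mulEquiv (subgroupOfEquivOfLe (le_sup_left : X' ≤ X' ⊔ (P : Subgroup G)))
    exact Group.nilpotent_of_mulEquiv (X.equivMapOfInjective _ K.subtype_injective).symm
  by_cases hPn : (P : Subgroup G).Normal
  · exact hnpc_of_normal hcop hBs h hpG P hP hPn
  set N := Cfsg.pCore p G with hN
  have hNinv : Inv B.subtype N := fun b => Subgroup.eq_of_le_of_card_ge
    (Cores.map_pCore_le _ (B.subtype b : G ≃* G).surjective p)
    (card_map_of_injective (B.subtype b).injective).ge
  by_cases hN1 : N = ⊥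
  · right
    have hloc : ∀ W : Subgroup G, IsPGroup p W → W ≠ ⊥ → Inv B.subtype W →
        Group.IsNilpotent (normalizer (W : Set G)) := fun W hW hne hinv => by
      refine h _ (fun e => hne ?_) hinv.normalizer ?_
      · exact le_bot_iff.1 (hN1 ▸ Cores.le_pCore (Subgroup.normalizer_eq_top_iff.1 e) hW)
      · haveI : Nontrivial W := (Subgroup.nontrivial_iff_ne_bot W).2 hne
        obtain ⟨k, hk0, hk⟩ := hW.nontrivial_iff_card.1 inferInstance
        exact ((dvd_pow_self p hk0.ne').trans hk.symm.dvd).trans (Subgroup.card_dvd_of_le le_normalizer)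
    by_cases hp2 : p = 2
    · subst hp2
      by_contra hnot
      exact false_of_hyp (φ := B.subtype) (S := P) ⟨hBodd, hP, hloc, hnot⟩
    · refine PLocal.glauberman_complement hp2 P ?_
      obtain ⟨z, hz, hz1, hzp⟩ := PLocal.exists_central_of_order_p P.2 hPne
      haveI := hloc (Cfsg.centerThompsonOf p (P : Subgroup G))
        (P.2.to_le (inf_le_left.trans (PLocal.thompsonSubgroupOf_le _)))
        (fun e => hz1 (Subgroup.mem_bot.1 (e.le (PLocal.central_le_centerThompsonOf hz hzp))))
        (fun b => by rw [PLocal.map_centerThompsonOf _ (B.subtype b).injective.injOn, hP b])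
      exact Transfer.hasNormalPComplement_of_isNilpotent p
  left
  haveI : N.Normal := inferInstance
  haveI : Group.IsSolvable N := Solvable.isSolvable_of_isPGroup (Cores.isPGroup_pCore p G)
  have hNP : N < (P : Subgroup G) := lt_of_le_of_ne (Cores.pCore_le_sylow P) fun e => hPn (e ▸ inferInstance)
  set π := QuotientGroup.mk' N
  have hπs := QuotientGroup.mk'_surjective N
  set ψ := quotAction B.subtype N hNinv
  suffices Group.IsSolvable (G ⧸ N) from (Solvable.isSolvable_subgroup_quotient_iff N).2 ⟨inferInstance, this⟩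
  refine ih _ (hn ▸ Solvable.card_quotient_lt hN1) (G ⧸ N) ψ.range p hp ?_ ?_ (fun H hH hHinv hpH => ?_) rfl
  · have h1 : p ∣ Nat.card ((P : Subgroup G).map π) := by
      haveI : Nontrivial ((P : Subgroup G).map π) := by
        rw [Subgroup.nontrivial_iff_ne_bot, Ne, Subgroup.map_eq_bot_iff, QuotientGroup.ker_mk']
        exact hNP.not_ge
      obtain ⟨k, hk0, hk⟩ := (P.2.map π).nontrivial_iff_card.1 inferInstance
      exact (dvd_pow_self p hk0.ne').trans hk.symm.dvd
    exact h1.trans (Subgroup.card_subgroup_dvd_card _)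
  · exact (hcop.coprime_dvd_left (Subgroup.card_range_dvd ψ)).coprime_dvd_right
      (Subgroup.card_quotient_dvd_card N)
  have hnil := h (H.comap π) (fun e => hH ?_) (inv_of_le fun b => ?_) ?_
  · haveI := hnil
    have e : (H.comap π).map π = H := Subgroup.map_comap_eq_self_of_surjective hπs H
    haveI : Group.IsNilpotent ((H.comap π).map π) :=
      Group.nilpotent_of_surjective (π.subgroupMap (H.comap π)) (MonoidHom.subgroupMap_surjective _ _)
    rwa [e] at this
  · rw [← Subgroup.map_comap_eq_self_of_surjective hπs H, e, Subgroup.map_top_of_surjective _ hπs]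
  · rintro _ ⟨x, hx, rfl⟩
    exact (hHinv ⟨ψ b, ⟨b, rfl⟩⟩).le ⟨π x, hx, quotAction_apply B.subtype N hNinv b x⟩
  · exact hpH.trans (Subgroup.card_dvd_of_surjective (π.subgroupComap H)
      (MonoidHom.subgroupComap_surjective_of_surjective π H hπs))

end Cfsg.Agent.EvenNilp
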