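import Cfsg.Agent.EqLemmas
import Cfsg.Agent.Lib.GLOrder.Torus
import Mathlib.Algebra.CharP.CharAndCard

/-!
# No self-normalising Sylow 2-subgroup in `SL₂(2ᵐ)`, `m ≥ 2` (helper46)
-/

set_option autoImplicit false
set_option linter.unusedSectionVars false
set_option linter.style.haveILetI false

open Matrix Subgroup
open scoped MatrixGroups commutatorElement

namespace Cfsg.Agent.EvenNilp

variable {F : Type} [Field F] [Fintype F]

theorem sl_sylow_normalizer {m : ℕ} (hF : Fintype.card F = 2 ^ m) (h3 : 3 < 2 ^ m)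
    (P : Sylow 2 SL(2, F)) : normalizer ((P : Subgroup SL(2, F)) : Set SL(2, F)) ≠ P := by
  haveI : Fact (Nat.Prime 2) := ⟨Nat.prime_two⟩
  classical
  let up : F → SL(2, F) := fun c => ⟨!![1, c; 0, 1], by rw [Matrix.det_fin_two_of]; ring⟩
  have hmul : ∀ a b, up a * up b = up (a + b) := fun a b => by
    ext i j; fin_cases i <;> fin_cases j <;> simp only [GLOrder.SL2_mul_apply] <;> simp [up, add_comm]
  have hzero : up 0 = 1 := by ext i j; fin_cases i <;> fin_cases j <;> simp [up]
  let U : Subgroup SL(2, F) :=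
    { carrier := Set.range up
      one_mem' := ⟨0, hzero⟩
      mul_mem' := by rintro _ _ ⟨a, rfl⟩ ⟨b, rfl⟩; exact ⟨a + b, (hmul a b).symm⟩
      inv_mem' := by
        rintro _ ⟨a, rfl⟩
        exact ⟨-a, (inv_eq_of_mul_eq_one_right (by rw [hmul, add_neg_cancel, hzero])).symm⟩ }
  have hinj : Function.Injective up := fun a b h => by
    have := congrArg (fun g : SL(2, F) => g 0 1) h
    simpa [up] using this
  have hU : Nat.card U = 2 ^ m := by
    rw [← hF, ← Nat.card_eq_fintype_card]
    exact Nat.card_range_of_injective hinj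
  obtain ⟨Q, hQ⟩ := (IsPGroup.of_card hU).exists_le_sylow
  have hQU : (Q : Subgroup SL(2, F)) = U := by
    obtain ⟨j, hj⟩ := IsPGroup.iff_card.1 Q.2
    have hd : Nat.card (Q : Subgroup SL(2, F)) ∣ 2 ^ m * ((2 ^ m + 1) * (2 ^ m - 1)) := by
      have := Subgroup.card_subgroup_dvd_card (Q : Subgroup SL(2, F))
      rw [GLOrder.card_SL_two', Nat.card_eq_fintype_card (α := F), hF] at this
      rwa [mul_assoc] at this
    have he : Even (2 ^ m) := Nat.even_pow.2 ⟨even_two, by rintro rfl; omega⟩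
    have hco : Nat.Coprime (2 ^ j) ((2 ^ m + 1) * (2 ^ m - 1)) := by
      refine Nat.Coprime.pow_left j (Nat.coprime_two_left.2 (Odd.mul he.add_one ?_))
      exact Nat.Even.sub_odd (by omega) he odd_one
    rw [hj] at hd
    refine (Subgroup.eq_of_le_of_card_ge hQ ?_).symm
    rw [hU, hj]
    exact Nat.le_of_dvd (pow_pos two_pos m) (hco.dvd_of_dvd_mul_right hd)
  obtain ⟨g, rfl⟩ := MulAction.exists_smul_eq SL(2, F) Q P
  intro he
  obtain ⟨a, ha0, ha1⟩ : ∃ a : F, a ≠ 0 ∧ a ≠ 1 := by
    by_contra hcon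
    push Not at hcon
    have : Finset.univ ⊆ ({0, 1} : Finset F) := fun a _ => by
      by_cases h : a = 0
      · simp [h]
      · simp [hcon a h]
    have h2 := (Finset.card_le_card this).trans Finset.card_le_two
    rw [Finset.card_univ, hF] at h2
    omega
  let t : SL(2, F) := ⟨!![a, 0; 0, a⁻¹], by rw [Matrix.det_fin_two_of]; field_simp; ring⟩
  have hconj : ∀ c, t * up c = up (a * a * c) * t := fun c => by
    ext i j; fin_cases i <;> fin_cases j <;> simp only [GLOrder.SL2_mul_apply] <;> simp [up, t] <;> field_simp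
  have htN : t ∈ normalizer (U : Set SL(2, F)) := by
    refine mem_normalizer_iff_map_conj_eq.2 (Subgroup.eq_of_le_of_card_ge ?_
      (Subgroup.card_map_of_injective (MulAut.conj t).injective).ge)
    rintro _ ⟨_, ⟨c, rfl⟩, rfl⟩
    refine ⟨a * a * c, ?_⟩
    show up (a * a * c) = t * up c * t⁻¹
    rw [hconj, mul_inv_cancel_right]
  have htU : t ∉ U := by
    rintro ⟨c, hc⟩
    have := congrArg (fun g : SL(2, F) => g 0 0) hc
    exact ha1 (by simpa [up, t] using this.symm)
  apply htU
  have h1 : g * t * g⁻¹ ∈ normalizer (((g • Q : Sylow 2 SL(2, F)) : Subgroup SL(2, F)) : Set SL(2, F)) := by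
    rw [Sylow.coe_subgroup_smul, hQU]
    show g * t * g⁻¹ ∈ normalizer ((U.map (MulAut.conj g).toMonoidHom : Subgroup SL(2, F)) : Set SL(2, F))
    rw [← Subgroup.map_equiv_normalizer_eq U (MulAut.conj g)]
    exact ⟨t, htN, rfl⟩
  rw [he, Sylow.coe_subgroup_smul, hQU] at h1
  obtain ⟨u, hu, he'⟩ := (h1 : g * t * g⁻¹ ∈ U.map (MulAut.conj g).toMonoidHom)
  have : g * u * g⁻¹ = g * t * g⁻¹ := he'
  have hut : u = t := by simpa using this
  exact hut ▸ hu

theorem card_eq_two_of_commutator {n : ℕ} (hF : Fintype.card F = 2 ^ n)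
    (h : ∀ c ∈ commutator SL(2, F), c * c = 1 → c = 1) : Fintype.card F = 2 := by
  classical
  haveI : Fact (Nat.Prime 2) := ⟨Nat.prime_two⟩
  haveI : CharP F 2 := charP_of_card_eq_prime_pow hF
  by_contra hne
  obtain ⟨a, ha0, ha1⟩ : ∃ a : F, a ≠ 0 ∧ a ≠ 1 := by
    by_contra hcon
    push Not at hcon
    have : Finset.univ ⊆ ({0, 1} : Finset F) := fun a _ => by
      by_cases h : a = 0
      · simp [h]
      · simp [hcon a h]
    have h2 := (Finset.card_le_card this).trans Finset.card_le_two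
    rw [Finset.card_univ] at h2
    have h3 := Fintype.one_lt_card (α := F)
    omega
  let u : SL(2, F) := ⟨!![1, 1; 0, 1], by rw [Matrix.det_fin_two_of]; ring⟩
  let t : SL(2, F) := ⟨!![a, 0; 0, a⁻¹], by rw [Matrix.det_fin_two_of]; field_simp; ring⟩
  let w : SL(2, F) := ⟨!![1, a * a + 1; 0, 1], by rw [Matrix.det_fin_two_of]; ring⟩
  have h2 : (1 : F) + 1 = 0 := CharTwo.add_self_eq_zero 1
  have huu : u * u = 1 := by
    ext i j; fin_cases i <;> fin_cases j <;> simp only [GLOrder.SL2_mul_apply] <;> simp [u, h2]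
  have hww : w * w = 1 := by
    ext i j; fin_cases i <;> fin_cases j <;> simp only [GLOrder.SL2_mul_apply] <;>
      simp [w, CharTwo.add_self_eq_zero]
  have hmul : t * u = (w * u) * t := by
    ext i j; fin_cases i <;> fin_cases j <;> simp only [GLOrder.SL2_mul_apply] <;> simp [u, t, w] <;>
      field_simp <;> linear_combination (-1 : F) * h2
  have hw : w ∈ commutator SL(2, F) := by
    have he : ⁅t, u⁆ = w := by
      rw [commutatorElement_def, hmul, mul_inv_cancel_right, mul_inv_cancel_right]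
    rw [← he]
    exact Subgroup.commutator_mem_commutator (mem_top t) (mem_top u)
  have h0 := congrArg (fun g : SL(2, F) => g 0 1) (h w hw hww)
  have h1 : a * a + 1 = 0 := by simpa [w] using h0
  exact ha1 (by
    have : (a + 1) * (a + 1) = 0 := by linear_combination h1 + a * h2
    exact (CharTwo.add_eq_zero.1 (mul_self_eq_zero.1 this)))

end Cfsg.Agent.EvenNilp
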